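import Groth.Agent.VBCurve.K706.NefDeg
import Groth.Agent.VBCurve.K708.Pull
import Groth.Agent.VBCurve.K708.Dual
import Groth.Agent.VBCurve.K708.DualDeg
import Groth.Agent.PerfC.PullRestrict
import Groth.Agent.Dcoh.MonPull292
import Groth.Agent.Models.K381.DedFlat
import Groth.Agent.CurvesA.CurveDvr

/-!
# Tensor products of semistable bundles on curves in characteristic zero

* `ss_dual`;
* `pairing_le`: if `A ⊗ B ⟶ M` is non-zero, `A`, `B` semistable, `M` invertible, then `μ(A) + μ(B) ≤ deg M`;
* `ss_tensor`.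
-/

set_option autoImplicit false
set_option linter.unusedVariables false
set_option linter.unusedSectionVars false
set_option linter.style.haveILetI false
universe u
open CategoryTheory CategoryTheory.Limits AlgebraicGeometry

namespace K706.TensSS

open Groth.Agent K707.Base K707.Deg K707.Slope K707.Semi K707.TensL
open Groth.Agent.VarietyA.DegRank
open MonoidalCategory Groth.Agent.Krr.H492.DualK K708.SSH0 K708.PtTwist K705.Cov
open scoped Groth.Agent.Dcoh.MonCat

/-- Pullback of a tensor product. -/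
noncomputable def pullTens {X Y : Scheme.{u}} (f : X ⟶ Y) (A B : Y.Modules) :
    CohB1.tensorMod ((Scheme.Modules.pullback f).obj A) ((Scheme.Modules.pullback f).obj B) ≅
      (Scheme.Modules.pullback f).obj (CohB1.tensorMod A B) :=
  letI := Dcoh.MonPull.monPull f
  Functor.Monoidal.μIso (Scheme.Modules.pullback f) A B

section dual

variable {k : Type u} [Field k] {X : Scheme.{u}} [X.Over (Spec (CommRingCat.of k))]
  [IsIntegral X] [IsProper (X ↘ (Spec (CommRingCat.of k)))]

/-- The dual of a semistable bundle is semistable. -/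
theorem ss_dual (C : Crv k X) {E : X.Modules} (hE : FlatMod.IsFinLocFree E) (h : SS k E) (E' : X.Modules)
    [ExactPairing E E'] : SS k E' := by
  have vE' : FlatMod.IsFinLocFree E' := isFinLocFree_of_rank (K708.Dual.rank_dual (isFinLocFreeOfRank_rk hE) E')
  refine ss_of_quot C vE' fun Q p hp hQ => ?_
  have hS := kernel_shortExact p
  have hK : FlatMod.IsFinLocFree (kernel p) := vb_kernel C p vE' (coh_of_vb hQ)
  have hd := K708.DualDeg.dl_shortExact hS hK vE' hQ
  let _ : ExactPairing E' E := K708.Dual.swapPairing E E'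
  let e : E ≅ dl E' := K708.DualDeg.dualIso E' E
  have vQ : FlatMod.IsFinLocFree (dl Q) := isFinLocFree_dl hQ
  obtain ⟨j, hj⟩ : ∃ j : dl Q ⟶ dl E', Mono j := ⟨_, hd.mono_f⟩
  have h1 := h (dl Q) (j ≫ e.inv) (mono_comp j e.inv) vQ
  rw [K708.DualDeg.dg_dl C hQ, K708.DualDeg.rk_dl C hQ] at h1
  rw [K708.DualDeg.dg_dual C hE E', K708.DualDeg.rk_dual C hE E']
  linarith

/-- Pairings of semistable bundles with values in an invertible module. -/
theorem pairing_le (C : Crv k X) {A B M : X.Modules} (hA : FlatMod.IsFinLocFree A) (hB : FlatMod.IsFinLocFree B)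
    (sA : SS k A) (sB : SS k B) (hM : PicF.IsInvertible M) (g : A ⊗ B ⟶ M) (hg : g ≠ 0) :
    dg k A * rk B + dg k B * rk A ≤ dg k M * (rk A * rk B) := by
  have hN := isLocNoeth C
  obtain ⟨B', hB', ⟨_⟩⟩ := K708.Dual.exists_dual (isFinLocFreeOfRank_rk hB)
  have vB' := isFinLocFree_of_rank hB'
  have sB' := ss_dual C hB sB B'
  have vT : FlatMod.IsFinLocFree (CohB1.tensorMod B' M) := K707.TensL.vb_tensor vB' (K706.Twist.vb_inv hM)
  have sT := K706.Twist.ss_twist C hM vB' sB'
  let φ : A ⟶ M ⊗ B' := K708.Dual.homEquivTensor B B' A M g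
  have hφ : φ ≠ 0 := by
    intro h0
    apply hg
    apply (K708.Dual.homEquivTensor B B' A M).injective
    rw [show K708.Dual.homEquivTensor B B' A M g = 0 from h0]
    simp only [K708.Dual.homEquivTensor, tensorRightHomEquiv, Equiv.coe_fn_mk]
    rw [MonoidalPreadditive.zero_whiskerRight, comp_zero, comp_zero, comp_zero]
  have hφ' : φ ≫ (β_ M B').hom ≠ 0 := by
    intro h0
    apply hφ
    rw [← cancel_mono (β_ M B').hom, h0, zero_comp]
  have h1 := sA.slope_le C hA sT vT (φ ≫ (β_ M B').hom) hφ'
  rw [K706.Twist.dg_twist C hM (coh_of_vb vB'), K706.Twist.rk_twist C hM (coh_of_vb vB'),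
    K708.DualDeg.dg_dual C hB B', K708.DualDeg.rk_dual C hB B'] at h1
  linarith

/-- An invertible quotient of a free module has non-negative degree. -/
theorem dg_nonneg_of_free (C : Crv k X) {M : X.Modules} (hM : PicF.IsInvertible M) {n : ℕ}
    (g : FlatMod.freeMod X n ⟶ M) [Epi g] : 0 ≤ dg k M := by
  have hO : FlatMod.IsFinLocFreeOfRank 1 (Coh.structureModule X) := rank_structureModule
  obtain ⟨i, hi⟩ : ∃ i : Fin n, Sigma.ι (fun _ : Fin n => Coh.structureModule X) i ≫ g ≠ 0 := by
    by_contra hcon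
    push Not at hcon
    have h0 : g = 0 := Sigma.hom_ext _ _ fun i => by rw [hcon i, comp_zero]
    have h1 : IsZero M := by
      rw [IsZero.iff_id_eq_zero, ← cancel_epi g, h0, zero_comp, zero_comp]
    have h2 := rk_of_isZero h1
    rw [K708.PtTwist.rk_inv hM] at h2
    exact one_ne_zero h2
  have hmono := mono_of_rank_one C hO (K706.Twist.vb_inv hM) _ hi
  have h3 := dg_le_of_mono C (Sigma.ι (fun _ : Fin n => Coh.structureModule X) i ≫ g) (isCoh_of_rank hO)
    (coh_of_vb (K706.Twist.vb_inv hM)) (by rw [rk_of_rank hO, K708.PtTwist.rk_inv hM])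
  have h4 : dg k (Coh.structureModule X) = 0 := by
    rw [dg, rk_of_rank hO]; simp
  rw [h4] at h3
  exact h3

end dual

section const

theorem nonempty_pullback_free_of_const {X Y : Scheme.{u}} (f : X ⟶ Y) (y : Y) (hf : ∀ x, f x = y) {V : Y.Modules} {n : ℕ}
    (hV : FlatMod.IsFinLocFreeOfRank n V) : Nonempty ((Scheme.Modules.pullback f).obj V ≅ FlatMod.freeMod X n) := by
  obtain ⟨U, hyU, ⟨e⟩⟩ := hV y
  have hrange : Set.range f ⊆ Set.range U.ι := by
    rintro _ ⟨x, rfl⟩
    rw [hf, Scheme.Opens.range_ι]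
    exact hyU
  let g : X ⟶ U := IsOpenImmersion.lift U.ι f hrange
  have hg : g ≫ U.ι = f := IsOpenImmersion.lift_fac U.ι f hrange
  have e1 : (Scheme.Modules.pullback f).obj V ≅ (Scheme.Modules.pullback g).obj ((Scheme.Modules.pullback U.ι).obj V) :=
    (Scheme.Modules.pullbackCongr hg).symm.app V ≪≫ ((Scheme.Modules.pullbackComp g U.ι).app V).symm
  have e2 : (Scheme.Modules.pullback U.ι).obj V ≅ V.restrict U.ι :=
    (Scheme.Modules.restrictFunctorIsoPullback U.ι).symm.app V
  exact ⟨e1 ≪≫ (Scheme.Modules.pullback g).mapIso (e2 ≪≫ e) ≪≫ PerfC.PullRestrict.pullbackFreeMod g n⟩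

end const

section main

variable {k : Type u} [Field k] [CharZero k] {X : Scheme.{u}} [X.Over (Spec (CommRingCat.of k))]
  [IsIntegral X] [IsProper (X ↘ (Spec (CommRingCat.of k)))]

theorem ss_tensor' (C : Crv k X) {E F : X.Modules} (hE : FlatMod.IsFinLocFree E) (hF : FlatMod.IsFinLocFree F)
    (sE : SS k E) (sF : SS k F) : SS k (CohB1.tensorMod E F) := by
  have hN := isLocNoeth C
  have vT := K707.TensL.vb_tensor hE hF
  refine ss_of_quot C vT fun V p hp hV => ?_
  rcases Nat.eq_zero_or_pos (rk V) with h0 | h0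
  · rw [h0, K707.Semi.dg_of_vb_of_rk_eq_zero C hV h0]; simp
  obtain ⟨N, hN, hNd⟩ := K708.PtTwist.exists_inv_pos C
  have hdT := K707.TensL.dg_tensor k C.dim (isFinLocFreeOfRank_rk hF) (coh_of_vb hE)
  have hrT := K707.TensL.rk_tensor (isFinLocFreeOfRank_rk hF) (coh_of_vb hE)
  have hpos : (0 : ℤ) < rk E * rk F := by
    have h1 := rk_le_of_epi C p (coh_of_vb vT) (coh_of_vb hV)
    rw [hrT] at h1
    have h2 : 0 < rk F * rk E := lt_of_lt_of_le h0 h1
    rw [mul_comm] at h2
    exact_mod_cast h2
  have key : K706.NefDeg.QNef k V N (dg k E * rk F + dg k F * rk E) (rk E * rk F * dg k N) := by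
    intro D _ _ _ hD hreg f hf M hM g hg
    have cD : Crv k D := ⟨hD, fun x => K381.DedFlat.isPrincipalIdealRing_stalk hreg (by rw [hD]) x⟩
    have hfN := Fdesc.LocGen.isInvertible_pullback f hN
    rw [← dg_of_rank k (rank_one_iff.mpr hfN), ← dg_of_rank k (rank_one_iff.mpr hM)]
    by_cases hη : f (genericPoint D) = genericPoint X
    · have hdom : IsDominant f := ⟨by
        have h3 : closure ({genericPoint X} : Set X) = Set.univ := (genericPoint_spec X).def
        refine dense_iff_closure_eq.mpr (Set.univ_subset_iff.mp (h3.symm.subset.trans (closure_mono ?_)))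
        rintro _ rfl
        exact ⟨_, hη⟩⟩
      have hfp : IsProper f := by
        have : IsProper (f ≫ (X ↘ (Spec (CommRingCat.of k)))) := by rw [hf]; infer_instance
        exact IsProper.of_comp f (X ↘ (Spec (CommRingCat.of k)))
      have hfin : IsFinite f := K432.CurveNorm.isFinite_of_dominant (X ↘ (Spec (CommRingCat.of k))) f hD C.dim
      obtain ⟨n, hc⟩ := K708.PullGal.exists_isCov f hf cD C
      have s1 := K708.Pull.ss_pull C cD f hf hE sE
      have s2 := K708.Pull.ss_pull C cD f hf hF sF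
      obtain ⟨v1, r1⟩ := K705.Cov.vb_pull (f := f) hE
      obtain ⟨v2, r2⟩ := K705.Cov.vb_pull (f := f) hF
      let e := pullTens f E F
      have hpf : Epi ((Scheme.Modules.pullback f).map p) := inferInstance
      have hg' : Epi (e.hom ≫ (Scheme.Modules.pullback f).map p ≫ g) := inferInstance
      have hne : e.hom ≫ (Scheme.Modules.pullback f).map p ≫ g ≠ 0 := by
        intro hz
        have h3 : IsZero M := by
          rw [IsZero.iff_id_eq_zero, ← cancel_epi (e.hom ≫ (Scheme.Modules.pullback f).map p ≫ g), hz, zero_comp, zero_comp]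
        have h4 := rk_of_isZero h3
        rw [K708.PtTwist.rk_inv hM] at h4
        exact one_ne_zero h4
      have h5 := pairing_le cD v1 v2 s1 s2 hM _ hne
      rw [r1, r2, hc.dg_pull hE, hc.dg_pull hF] at h5
      rw [hc.dg_pull (K706.Twist.vb_inv hN)]
      nlinarith [h5, hNd]
    · have hcl : IsClosed ({f (genericPoint D)} : Set X) :=
        (CurvesA.CurveDvr.isClosed_singleton_iff C.dim _).mpr hη
      have hcst : ∀ x : D, f x = f (genericPoint D) := fun x =>
        hcl.closure_subset ((((genericPoint_specializes x).map f.continuous)).mem_closure)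
      obtain ⟨e1⟩ := K432.CurveDeg.nonempty_pullback_iso_of_const f _ hcst N hN
      obtain ⟨e2⟩ := nonempty_pullback_free_of_const f _ hcst (isFinLocFreeOfRank_rk hV)
      have h3 := dg_nonneg_of_free (k := k) cD hM (e2.inv ≫ g)
      have h4 : dg k (Coh.structureModule D) = 0 := by
        rw [dg, rk_of_rank rank_structureModule]; simp
      rw [dg_iso k e1, h4, mul_zero]
      exact mul_nonneg (mul_nonneg (by positivity) hNd.le) h3
  have h1 := K706.NefDeg.main C hV h0 hN hNd (by positivity) key
  rw [hdT, hrT]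
  push_cast
  refine le_of_mul_le_mul_right ?_ hNd
  linarith [h1]

/-- **The tensor product of two semistable bundles on a smooth curve over a field of characteristic zero
is semistable.** -/
theorem ss_tensor_smooth [Smooth (X ↘ (Spec (CommRingCat.of k)))] (hdim : topologicalKrullDim X = 1)
    {E F : X.Modules} (hE : FlatMod.IsFinLocFree E) (hF : FlatMod.IsFinLocFree F)
    (sE : SS k E) (sF : SS k F) : SS k (CohB1.tensorMod E F) :=
  ss_tensor' (Crv.of_smooth hdim) hE hF sE sF

/-- The same in terms of `ModFun.IsSlopeSemistable`. -/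
theorem slopeSemistable_tensor (C : Crv k X) {E F : X.Modules} {r s : ℕ} (hE : FlatMod.IsFinLocFreeOfRank r E)
    (hF : FlatMod.IsFinLocFreeOfRank s F) (sE : ModFun.IsSlopeSemistable k X E r)
    (sF : ModFun.IsSlopeSemistable k X F s) :
    FlatMod.IsFinLocFreeOfRank (s * r) (CohB1.tensorMod E F) ∧
      ModFun.IsSlopeSemistable k X (CohB1.tensorMod E F) (s * r) := by
  have hN := isLocNoeth C
  have vE := isFinLocFree_of_rank hE
  have vF := isFinLocFree_of_rank hF
  have vT := K707.TensL.vb_tensor vE vF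
  have hT : FlatMod.IsFinLocFreeOfRank (s * r) (CohB1.tensorMod E F) := by
    have h1 := K707.TensL.rk_tensor hF (coh_of_vb vE)
    rw [rk_of_rank hE] at h1
    rw [← h1]
    exact isFinLocFreeOfRank_rk vT
  exact ⟨hT, (ss_iff C hT).mp (ss_tensor' C vE vF ((ss_iff C hE).mpr sE) ((ss_iff C hF).mpr sF))⟩

end main

section algClosed

variable {k : Type u} [Field k] [IsAlgClosed k] [CharZero k] {X : Scheme.{u}}
  [X.Over (Spec (CommRingCat.of k))] [IsIntegral X] [IsProper (X ↘ (Spec (CommRingCat.of k)))]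
  [Smooth (X ↘ (Spec (CommRingCat.of k)))]

theorem ss_tensor (hdim : topologicalKrullDim X = 1) {E F : X.Modules} (hE : FlatMod.IsFinLocFree E)
    (hF : FlatMod.IsFinLocFree F) (h : SS k E) (h' : SS k F) : SS k (CohB1.tensorMod E F) :=
  ss_tensor' (Crv.of_smooth hdim) hE hF h h'

end algClosed

end K706.TensSS
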