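import Groth.Agent.Dcoh.DualFLF
import Groth.Agent.Dcoh.ResFree
import Groth.Agent.Dcoh.Restrict
import Groth.Agent.Ega3B.TensorAUnit
import Groth.Agent.PerfA.CohSerre
import Groth.Agent.Sga67.LocBasisOps
import Groth.Agent.CurvesB.HZero
import Groth.Agent.S0002
import Groth.Prelude.Def_KLin

/-!
# Homs between finite locally free modules on a proper scheme over a field are finite-dimensional
-/

set_option autoImplicit false
universe u
open CategoryTheory CategoryTheory.Limits AlgebraicGeometry MonoidalCategory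

namespace K706.HomFin

open scoped Groth.Agent.Dcoh.MonCat
open Groth.Agent

variable (k : Type u) [Field k] {X : Scheme.{u}} [X.Over (Spec (CommRingCat.of k))]

/-- Tensoring is `k`-linear. -/
theorem smul_whiskerRight {M N : X.Modules} (a : k) (f : M ⟶ N) (P : X.Modules) : (a • f) ▷ P = a • (f ▷ P) := by
  change (Formal.smulMod k M a ≫ f) ▷ P = Formal.smulMod k (M ⊗ P) a ≫ (f ▷ P)
  rw [comp_whiskerRight]
  congr 1
  exact Ega3B.TensorAUnit.tensorRightMod_map_smul P M a

/-- Sections of `M` as maps from the structure sheaf. -/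
noncomputable def secLin (M : X.Modules) :
    letI := CurvesB.HZero.moduleΓ k M
    (Coh.structureModule X ⟶ M) →ₗ[k] Γ(M, ⊤) :=
  letI := CurvesB.HZero.moduleΓ k M
  { toFun := fun φ => φ.app ⊤ (Dcoh.Restrict.one ⊤)
    map_add' := fun φ ψ => rfl
    map_smul' := fun a φ => by
      refine (KLin.smul_app_apply a φ ⊤ (Dcoh.Restrict.one ⊤)).trans ?_
      have : X.presheaf.map (homOfLE (le_top : (⊤ : X.Opens) ≤ ⊤)).op = 𝟙 _ := X.presheaf.map_id _
      rw [this]
      rfl }

theorem secLin_injective (M : X.Modules) :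
    letI := CurvesB.HZero.moduleΓ k M
    Function.Injective (secLin k M) := by
  intro f g h
  exact Dcoh.Restrict.unit_hom_ext f g h

/-- Maps from the structure sheaf to a module with finite-dimensional `H^0` form a finite-dimensional space. -/
theorem finite_unit_hom (M : X.Modules) [Module.Finite k (Coh.HH X M 0)] : Module.Finite k (Coh.structureModule X ⟶ M) := by
  let := CurvesB.HZero.moduleΓ k M
  have : Module.Finite k Γ(M, ⊤) := Module.Finite.equiv (CurvesB.HZero.equivLin k M)
  exact Module.Finite.of_injective (secLin k M) (secLin_injective k M)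

/-- `Hom(E, F)` is finite-dimensional for finite locally free modules on a proper scheme. -/
theorem finite_hom [IsProper (X ↘ Spec (CommRingCat.of k))] {E F : X.Modules} (hE : FlatMod.IsFinLocFree E)
    (hF : FlatMod.IsFinLocFree F) : Module.Finite k (E ⟶ F) := by
  obtain ⟨E', ⟨p⟩⟩ := Dcoh.DualFLF.exists_exactPairing hE
  let := p
  have hE' : FlatMod.IsFinLocFree E' := Dcoh.DualFLF.isFinLocFree_dual hE E'
  have hT : FlatMod.IsFinLocFree (F ⊗ E') := Sga67.LocBasis.isFinLocFree_tensorMod hF hE'
  have := S0002.result k X (F ⊗ E') (PerfA.CohSerre.isCoh_of_isFinLocFree hT) 0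
  have := finite_unit_hom k (F ⊗ E')
  let Φ : (E ⟶ F) →ₗ[k] (Coh.structureModule X ⟶ F ⊗ E') :=
    { toFun := fun f => η_ E E' ≫ f ▷ E'
      map_add' := fun f g => by
        rw [MonoidalPreadditive.add_whiskerRight, Preadditive.comp_add]
      map_smul' := fun a f => by
        rw [smul_whiskerRight, RingHom.id_apply, Linear.comp_smul] }
  refine Module.Finite.of_injective Φ fun f g hfg => ?_
  have h1 : tensorRightHomEquiv (𝟙_ X.Modules) E E' F ((λ_ E).hom ≫ f) =
      tensorRightHomEquiv (𝟙_ X.Modules) E E' F ((λ_ E).hom ≫ g) := by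
    have h2 : ∀ f : E ⟶ F, tensorRightHomEquiv (𝟙_ X.Modules) E E' F ((λ_ E).hom ≫ f) = η_ E E' ≫ f ▷ E' := fun f => by
      simp only [tensorRightHomEquiv, Equiv.coe_fn_mk, comp_whiskerRight]
      have h4 : (ρ_ (𝟙_ X.Modules)).inv ≫ (λ_ (𝟙_ X.Modules)).hom = 𝟙 _ := by
        rw [← MonoidalCategory.unitors_inv_equal, Iso.inv_hom_id]
      simp [reassoc_of% h4]
    rw [h2, h2]
    exact hfg
  have h3 := (tensorRightHomEquiv (𝟙_ X.Modules) E E' F).injective h1
  exact (cancel_epi _).mp h3

end K706.HomFin
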