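import Groth.Agent.VBCurve.K706.HomFin
import Groth.Agent.Grpsch.PicGrp

/-!
# Tensoring with an invertible module: cancellation
-/

set_option autoImplicit false
set_option linter.unusedVariables false
universe u v
open CategoryTheory CategoryTheory.Limits AlgebraicGeometry MonoidalCategory

namespace K706.InvTens

section abs

variable {C : Type u} [Category.{v} C] [MonoidalCategory C] {N N' : C} (e : N ⊗ N' ≅ 𝟙_ C)

/-- `A ≅ (A ⊗ N) ⊗ N'` -/
def unten (A : C) : (A ⊗ N) ⊗ N' ≅ A := α_ A N N' ≪≫ whiskerLeftIso A e ≪≫ ρ_ A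

theorem unten_nat {A B : C} (f : A ⟶ B) : (f ▷ N) ▷ N' ≫ (unten e B).hom = (unten e A).hom ≫ f := by
  simp only [unten, Iso.trans_hom, whiskerLeftIso_hom, Category.assoc]
  rw [← rightUnitor_naturality, whisker_exchange_assoc, associator_naturality_left_assoc]

/-- Cancellation of isomorphisms. -/
def cancelIso {A B : C} (i : A ⊗ N ≅ B ⊗ N) : A ≅ B := (unten e A).symm ≪≫ whiskerRightIso i N' ≪≫ unten e B

include e in
theorem whiskerRight_injective {A B : C} : Function.Injective (fun f : A ⟶ B => f ▷ N) := by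
  intro f g h
  have h1 := unten_nat e f
  have h2 := unten_nat e g
  have h3 : f ▷ N = g ▷ N := h
  rw [h3, h2] at h1
  exact ((cancel_epi _).mp h1).symm

end abs

section sch

open scoped Groth.Agent.Dcoh.MonCat

variable {X : Scheme.{u}}

theorem exists_inv {N : X.Modules} (hN : PicF.IsInvertible N) : ∃ N' : X.Modules, PicF.IsInvertible N' ∧ Nonempty (N ⊗ N' ≅ 𝟙_ X.Modules) :=
  Groth.Agent.Grpsch.PicGrp.exists_inverse hN

theorem whiskerRight_inj {N : X.Modules} (hN : PicF.IsInvertible N) {A B : X.Modules} {f g : A ⟶ B} (h : f ▷ N = g ▷ N) :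
    f = g := by
  obtain ⟨N', -, ⟨e⟩⟩ := exists_inv hN
  exact whiskerRight_injective e h

theorem cancel {N : X.Modules} (hN : PicF.IsInvertible N) {A B : X.Modules} (i : A ⊗ N ≅ B ⊗ N) : Nonempty (A ≅ B) := by
  obtain ⟨N', -, ⟨e⟩⟩ := exists_inv hN
  exact ⟨cancelIso e i⟩

/-- `I ⊗ (K ⊗ N) ≅ K` implies `I ⊗ N ≅ O`. -/
theorem nonempty_unit {I K N : X.Modules} (hK : PicF.IsInvertible K) (i : I ⊗ (K ⊗ N) ≅ K) :
    Nonempty (I ⊗ N ≅ 𝟙_ X.Modules) := by
  apply cancel hK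
  exact α_ I N K ≪≫ whiskerLeftIso I (β_ N K) ≪≫ i ≪≫ (λ_ K).symm

/-- Conversely. -/
noncomputable def ofUnit {I K N : X.Modules} (i : I ⊗ N ≅ 𝟙_ X.Modules) : I ⊗ (K ⊗ N) ≅ K :=
  whiskerLeftIso I (β_ K N) ≪≫ (α_ I N K).symm ≪≫ whiskerRightIso i K ≪≫ λ_ K

end sch

end K706.InvTens
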