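import Groth.Agent.VBCurve.K706.WeilX
import Groth.Agent.Grpsch.PicGrp

/-!
# Sums, products, summands of Weil-finite modules; invertible Weil-finite modules
-/

set_option autoImplicit false
universe u
open CategoryTheory CategoryTheory.Limits AlgebraicGeometry MonoidalCategory

namespace K706.WeilX

open scoped Groth.Agent.Dcoh.MonCat
open Groth.Agent
open K706.Sem K706.KSFin K706.SemiFin K706.KS

variable (k : Type u) [Field k] {X : Scheme.{u}} [X.Over (Spec (CommRingCat.of k))] [IsProper (X ↘ Spec (CommRingCat.of k))]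

/-- Finite in the sense of Weil. -/
def WeilFin (E : X.Modules) : Prop := ∃ P Q : Polynomial ℕ, P ≠ Q ∧ Nonempty (poly P E ≅ poly Q E)

theorem gg_of {E : X.Modules} (hE : FlatMod.IsFinLocFree E) : GG GX (cl E) := ⟨E, gx_of hE, rfl⟩

include k

theorem weilFin_biprod {E₁ E₂ : X.Modules} (hE₁ : FlatMod.IsFinLocFree E₁) (hE₂ : FlatMod.IsFinLocFree E₂)
    (h₁ : WeilFin E₁) (h₂ : WeilFin E₂) : WeilFin (E₁ ⊞ E₂) :=
  (weilFinite_iff (E₁ ⊞ E₂)).mpr (wf_add (good k) (gg_of hE₁) (gg_of hE₂) ((weilFinite_iff E₁).mp h₁)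
    ((weilFinite_iff E₂).mp h₂))

theorem weilFin_tensor {E₁ E₂ : X.Modules} (hE₁ : FlatMod.IsFinLocFree E₁) (hE₂ : FlatMod.IsFinLocFree E₂)
    (h₁ : WeilFin E₁) (h₂ : WeilFin E₂) : WeilFin (CohB1.tensorMod E₁ E₂) :=
  (weilFinite_iff (CohB1.tensorMod E₁ E₂)).mpr (wf_mul (good k) (gg_of hE₁) (gg_of hE₂) ((weilFinite_iff E₁).mp h₁)
    ((weilFinite_iff E₂).mp h₂))

theorem weilFin_summand {E₁ E₂ : X.Modules} (hE₁ : FlatMod.IsFinLocFree E₁) (hE₂ : FlatMod.IsFinLocFree E₂)
    (h : WeilFin (E₁ ⊞ E₂)) : WeilFin E₁ :=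
  (weilFinite_iff E₁).mpr (wf_leS (good k) ⟨cl E₂, rfl⟩ (gg_add (good k) (gg_of hE₁) (gg_of hE₂))
    ((weilFinite_iff (E₁ ⊞ E₂)).mp h))

/-- Global functions of an integral scheme form a domain: the unit is local. -/
theorem isLoc_unit [IsIntegral X] : IsLoc (𝟙_ X.Modules) := by
  refine isLoc_of_finite (k := k) (HomFin.finite_hom k Dcoh.ResFree.isFinLocFree_unit Dcoh.ResFree.isFinLocFree_unit) ?_ ?_
  · intro hz
    have h1 : (0 : Coh.structureModule X ⟶ Coh.structureModule X) = 𝟙 _ := hz.eq_of_src _ _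
    have h2 := congrArg (fun f : Coh.structureModule X ⟶ Coh.structureModule X => f.app ⊤ (Dcoh.Restrict.one ⊤)) h1
    have h3 : (0 : Γ(X, ⊤)) = (1 : Γ(X, ⊤)) := h2
    exact zero_ne_one h3
  · intro e he
    let ev : (Coh.structureModule X ⟶ Coh.structureModule X) → Γ(X, ⊤) → Γ(X, ⊤) := fun f r => f.app ⊤ r
    have key : ∀ (f : Coh.structureModule X ⟶ Coh.structureModule X) (r : Γ(X, ⊤)),
        ev f r = r * ev f 1 := fun f r => by
      have h1 := Scheme.Modules.Hom.app_smul f r (Dcoh.Restrict.one ⊤)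
      have h2 : (r • Dcoh.Restrict.one ⊤ : Γ(Coh.structureModule X, ⊤)) = r := mul_one r
      rw [h2] at h1
      exact h1
    let a : Γ(X, ⊤) := ev e 1
    have ha : a * a = a := by
      have h1 := congrArg (fun f : Coh.structureModule X ⟶ Coh.structureModule X => f.app ⊤ (Dcoh.Restrict.one ⊤)) he
      exact (key e a).symm.trans h1
    have h2 : a = 0 ∨ a = 1 := by
      have h3 : a * (a - 1) = 0 := by rw [mul_sub, ha, mul_one, sub_self]
      rcases mul_eq_zero.mp h3 with h | h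
      · exact Or.inl h
      · exact Or.inr (sub_eq_zero.mp h)
    rcases h2 with h | h
    · exact Or.inl (Dcoh.Restrict.unit_hom_ext e 0 h)
    · exact Or.inr (Dcoh.Restrict.unit_hom_ext e (𝟙 _) h)

omit k in
theorem isFinLocFree_of_isInvertible {L : X.Modules} (hL : PicF.IsInvertible L) : FlatMod.IsFinLocFree L := fun x => by
  obtain ⟨U, hx, ⟨e⟩⟩ := hL x
  refine ⟨U, 1, hx, ⟨e ≪≫ ?_⟩⟩
  exact Iso.symm
    { hom := Sigma.desc (fun _ => 𝟙 _)
      inv := Sigma.ι (fun _ : Fin 1 => Coh.structureModule (↑U)) 0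
      hom_inv_id := by
        apply Sigma.hom_ext
        intro b
        fin_cases b
        simp
      inv_hom_id := by simp }

theorem weilFin_iff_of_isInvertible [IsIntegral X] {L : X.Modules} (hL : PicF.IsInvertible L) :
    WeilFin L ↔ ∃ m : ℕ, 0 < m ∧ Nonempty (CohB1.tensorPow L m ≅ Coh.structureModule X) := by
  obtain ⟨M, hM, ⟨e⟩⟩ := Grpsch.PicGrp.exists_inverse hL
  have h1 : cl L * cl M = 1 := cl_eq e
  refine (weilFinite_iff L).trans ((wf_iff_of_invertible (good k) (gg_of (isFinLocFree_of_isInvertible hL))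
    (gg_of (isFinLocFree_of_isInvertible hM)) h1 (isLoc_unit k)).trans ?_)
  refine exists_congr fun m => and_congr_right fun _ => ?_
  rw [← cl_tensorPow, ← cl_unit, cl_eq_iff]
  exact Iff.rfl

end K706.WeilX
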