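import Groth.Agent.VBCurve.K707.Semi
import Groth.Agent.VBCurve.K706.WeilX2
import Groth.Agent.CurvesB.CurveRR
import Groth.Agent.Sga67.IdealTorsion
import Mathlib.FieldTheory.IsAlgClosed.Spectrum

/-!
# Small facts on slopes: homs into modules of small maximal slope, indecomposability of stable
modules, maximal slope of a direct sum, boundedness of degrees of submodules, stable modules are simple
-/

set_option autoImplicit false
universe u

open CategoryTheory CategoryTheory.Limits AlgebraicGeometry TopologicalSpace Opposite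

namespace K706.Tier1

open Groth.Agent.CycB.StalkExact Groth.Agent.VarietyA.DegRank K707.Base K707.Deg K707.Slope K707.Semi

variable {k : Type u} [Field k] {X : Scheme.{u}} [X.Over (Spec (CommRingCat.of k))]
  [IsIntegral X] [IsProper (X ↘ (Spec (CommRingCat.of k)))]

/-- Homs from a semistable module to one all of whose submodules have smaller slope vanish. -/
theorem hom_eq_zero (C : Crv k X) {E F : X.Modules} (hE : SS k E) (hEv : FlatMod.IsFinLocFree E)
    (hFv : FlatMod.IsFinLocFree F)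
    (h : ∀ (G : X.Modules) (i : G ⟶ F), Mono i → FlatMod.IsFinLocFree G → 0 < rk G → dg k G * rk E < dg k E * rk G)
    (f : E ⟶ F) : f = 0 := by
  by_contra hf
  obtain ⟨I, p, i, hp, hi, hpi, hI, hpos, e1, e2, e3, e4⟩ := exists_factor_pos C f hf (coh_of_vb hEv) hFv
  have h1 := hE.quot C hEv p (coh_of_vb hI)
  have h2 := h I i hi hI hpos
  omega

omit [IsIntegral X] in
theorem biprod_shortExact (E F : X.Modules) :
    (ShortComplex.mk (biprod.inl : E ⟶ E ⊞ F) biprod.snd (by simp)).ShortExact :=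
  (ShortComplex.Splitting.ofHasBinaryBiproduct E F).shortExact

/-- A retract of a finite locally free module on a curve is finite locally free. -/
theorem vb_of_retract (C : Crv k X) {E F : X.Modules} (r : Retract E F) (hF : FlatMod.IsFinLocFree F) :
    FlatMod.IsFinLocFree E := by
  have := isLocNoeth C
  let e : F ⟶ F := 𝟙 F - r.r ≫ r.i
  have h1 : r.i ≫ e = 0 := by
    rw [Preadditive.comp_sub, r.retract_assoc, Category.comp_id, sub_self]
  have hk : IsLimit (KernelFork.ofι r.i h1) :=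
    KernelFork.IsLimit.ofι _ _ (fun s hs => s ≫ r.r) (fun s hs => by
      have : s ≫ e = s - s ≫ r.r ≫ r.i := by rw [Preadditive.comp_sub, Category.comp_id]
      rw [this, sub_eq_zero] at hs
      rw [Category.assoc, ← hs]) (fun s hs m hm => by
      have := congrArg (· ≫ r.r) hm
      simpa using this)
  have i1 : kernel e ≅ E := (limit.isLimit _).conePointUniqueUpToIso hk
  exact vb_iso i1 (vb_kernel C e hF (coh_of_vb hF))

/-- Stable modules are indecomposable. -/
theorem isZero_or_isZero (C : Crv k X) {E E₁ E₂ : X.Modules} (hE : St k E) (hEv : FlatMod.IsFinLocFree E)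
    (e : E ≅ E₁ ⊞ E₂) : IsZero E₁ ∨ IsZero E₂ := by
  have h1 := vb_of_retract C (E := E₁) (F := E) ⟨biprod.inl ≫ e.inv, e.hom ≫ biprod.fst, by simp⟩ hEv
  have h2 := vb_of_retract C (E := E₂) (F := E) ⟨biprod.inr ≫ e.inv, e.hom ≫ biprod.snd, by simp⟩ hEv
  have hc : Coh.IsCoh (E₁ ⊞ E₂) := coh_iso e (coh_of_vb hEv)
  have hr := rk_add' k _ (biprod_shortExact (X := X) E₁ E₂) hc
  have hd := dg_add k _ (biprod_shortExact (X := X) E₁ E₂) (coh_of_vb h1) hc (coh_of_vb h2)
  simp only at hr hd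
  rw [← rk_iso e] at hr
  rw [← dg_iso k e] at hd
  rcases Nat.eq_zero_or_pos (rk E₁) with h0 | h0
  · exact Or.inl (isZero_of_rk_eq_zero C h1 h0)
  rcases Nat.eq_zero_or_pos (rk E₂) with h0' | h0'
  · exact Or.inr (isZero_of_rk_eq_zero C h2 h0')
  exfalso
  have m1 : Mono (biprod.inl ≫ e.inv : E₁ ⟶ E) := mono_comp _ _
  have m2 : Mono (biprod.inr ≫ e.inv : E₂ ⟶ E) := mono_comp _ _
  have a1 := hE E₁ _ m1 h1 h0 (by omega)
  have a2 := hE E₂ _ m2 h2 h0' (by omega)
  have hr' : (rk E : ℤ) = rk E₁ + rk E₂ := by exact_mod_cast hr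
  rw [hr', hd] at a1 a2
  nlinarith

/-- The maximal slope of a direct sum is at most the maximum of the maximal slopes. -/
theorem slope_sub_biprod (C : Crv k X) {E₁ E₂ F : X.Modules} (hE₁ : FlatMod.IsFinLocFree E₁)
    (hE₂ : FlatMod.IsFinLocFree E₂) (m₁ m₂ : ℚ)
    (h₁ : ∀ (G : X.Modules) (i : G ⟶ E₁), Mono i → FlatMod.IsFinLocFree G → 0 < rk G → (dg k G : ℚ) / rk G ≤ m₁)
    (h₂ : ∀ (G : X.Modules) (i : G ⟶ E₂), Mono i → FlatMod.IsFinLocFree G → 0 < rk G → (dg k G : ℚ) / rk G ≤ m₂)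
    (hF : FlatMod.IsFinLocFree F) (i : F ⟶ E₁ ⊞ E₂) (hi : Mono i) (hpos : 0 < rk F) :
    (dg k F : ℚ) / rk F ≤ max m₁ m₂ := by
  obtain ⟨I, p, j, hp, hj, hpj, hI, e1, e2, -, -⟩ :=
    exists_factor C (i ≫ biprod.snd) (coh_of_vb hF) (coh_of_vb hE₂)
  have hIv := vb_of_mono C j hI hE₂
  have hKv := vb_kernel C (i ≫ biprod.snd) hF (coh_of_vb hE₂)
  have hKm : Mono (kernel.ι (i ≫ biprod.snd) ≫ i ≫ biprod.fst) := by
    refine Preadditive.mono_of_cancel_zero _ fun {P} g hg => ?_
    have h1 : g ≫ kernel.ι (i ≫ biprod.snd) ≫ i = 0 := by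
      apply biprod.hom_ext
      · simpa using hg
      · simp
    rw [← Category.assoc, ← zero_comp (f := i), cancel_mono, ← zero_comp (f := kernel.ι (i ≫ biprod.snd)), cancel_mono] at h1
    exact h1
  have key : ∀ (G : X.Modules) (m : ℚ), FlatMod.IsFinLocFree G → (0 < rk G → (dg k G : ℚ) / rk G ≤ m) →
      (dg k G : ℚ) ≤ m * rk G := fun G m hG h => by
    rcases Nat.eq_zero_or_pos (rk G) with h0 | h0
    · rw [dg_of_vb_of_rk_eq_zero C hG h0, h0]; simp
    · have h0' : (0 : ℚ) < rk G := by exact_mod_cast h0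
      exact (div_le_iff₀ h0').mp (h h0)
  have k1 := key _ m₁ hKv (h₁ _ _ hKm hKv)
  have k2 := key _ m₂ hIv (h₂ _ _ hj hIv)
  have hpos' : (0 : ℚ) < rk F := by exact_mod_cast hpos
  rw [div_le_iff₀ hpos']
  have e1' : (rk F : ℚ) = rk (kernel (i ≫ biprod.snd)) + rk I := by exact_mod_cast e1
  have e2' : (dg k F : ℚ) = dg k (kernel (i ≫ biprod.snd)) + dg k I := by exact_mod_cast e2
  rw [e1', e2']
  have n1 : m₁ * rk (kernel (i ≫ biprod.snd)) ≤ max m₁ m₂ * rk (kernel (i ≫ biprod.snd)) :=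
    mul_le_mul_of_nonneg_right (le_max_left _ _) (by positivity)
  have n2 : m₂ * rk I ≤ max m₁ m₂ * rk I := mul_le_mul_of_nonneg_right (le_max_right _ _) (by positivity)
  linarith

/-- Degrees of submodules are bounded above. -/
theorem bddAbove (C : Crv k X) {E : X.Modules} (hE : FlatMod.IsFinLocFree E) :
    ∃ N : ℤ, ∀ (F : X.Modules) (i : F ⟶ E), Mono i → FlatMod.IsFinLocFree F → dg k F ≤ N := by
  have := isNoetherian k (X := X)
  let χ := Curv2.euler k X (Coh.structureModule X)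
  refine ⟨Module.finrank k (Coh.HH X E 0) + rk E * |χ|, fun F i hi hF => ?_⟩
  have hf := Groth.Agent.S0002.result k X E (coh_of_vb hE) 0
  have h0 : Module.finrank k (Coh.HH X F 0) ≤ Module.finrank k (Coh.HH X E 0) := by
    refine LinearMap.finrank_le_finrank_of_injective (f := Groth.Agent.CurvesB.Pairing.hmapₗ k i 0) ?_
    rw [← LinearMap.ker_eq_bot, LinearMap.ker_eq_bot']
    intro x hx
    apply (Groth.Agent.CurvesB.HZero.equivAdd F).injective
    rw [map_zero]
    have h1 := Groth.Agent.CurvesB.HZero.equivAdd_map i x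
    have h2 : Groth.Agent.CurvesB.HZero.equivAdd E (Sheaf.H.map ((SheafOfModules.toSheaf X.ringCatSheaf).map i) 0 x) = 0 := by
      have h3 : Sheaf.H.map ((SheafOfModules.toSheaf X.ringCatSheaf).map i) 0 x = 0 := hx
      rw [h3, map_zero]
    rw [h1] at h2
    exact (injective_iff_map_eq_zero _).mp (Groth.Agent.Sga67.IdealTorsion.app_injective_of_mono i ⊤) _ h2
  have h1 := Groth.Agent.CurvesB.CurveRR.euler_eq k X C.dim.le F
  have h2 : (rk F : ℤ) ≤ rk E := by exact_mod_cast rk_le_of_mono C i (coh_of_vb hF) (coh_of_vb hE)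
  have h3 : dg k F = Curv2.euler k X F - rk F * χ := rfl
  have h4 : -(rk F * χ : ℤ) ≤ rk E * |χ| := by
    have h5 : -(rk F * χ : ℤ) ≤ rk F * |χ| := by
      have := neg_abs_le χ
      have h6 : (0 : ℤ) ≤ rk F := by positivity
      nlinarith
    have h7 : (rk F : ℤ) * |χ| ≤ rk E * |χ| := mul_le_mul_of_nonneg_right h2 (abs_nonneg _)
    linarith
  rw [h3, h1]
  have h0' : (Module.finrank k (Coh.HH X F 0) : ℤ) ≤ Module.finrank k (Coh.HH X E 0) := by exact_mod_cast h0
  have h8 : (0 : ℤ) ≤ Module.finrank k (Coh.HH X F 1) := by positivity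
  linarith

/-- Endomorphisms of a module all of whose non-zero endomorphisms are invertible, over an algebraically
closed field: they are scalars. -/
theorem exists_scalar [IsAlgClosed k] {E : X.Modules} (hEv : FlatMod.IsFinLocFree E)
    (hE : ∀ f : E ⟶ E, f ≠ 0 → IsIso f) (φ : E ⟶ E) : ∃ c : k, φ = c • 𝟙 E := by
  have hfin : Module.Finite k (End E) := K706.HomFin.finite_hom k hEv hEv
  by_cases h0 : (𝟙 E : E ⟶ E) = 0
  · refine ⟨0, ?_⟩
    rw [← Category.comp_id φ, h0, comp_zero, smul_zero]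
  have : Nontrivial (End E) := ⟨𝟙 E, 0, h0⟩
  obtain ⟨c, hc⟩ := spectrum.nonempty_of_isAlgClosed_of_finiteDimensional (𝕜 := k) (A := End E) φ
  refine ⟨c, ?_⟩
  by_contra hne
  have h1 : IsIso (c • 𝟙 E - φ) := hE _ (fun h => hne (sub_eq_zero.mp h).symm)
  apply hc
  let φ' : End E := φ
  have h2 : algebraMap k (End E) c - φ' = (c • 𝟙 E - φ : E ⟶ E) := by
    rw [Algebra.algebraMap_eq_smul_one]
    rfl
  change IsUnit (algebraMap k (End E) c - φ')
  rw [h2]
  exact (isUnit_iff_isIso (C := X.Modules) (c • 𝟙 E - φ)).mpr h1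

end K706.Tier1
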