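import Groth.Agent.VBCurve.K706.KSMult
import Mathlib.CategoryTheory.Monoidal.Preadditive
import Mathlib.CategoryTheory.Monoidal.Braided.Basic
import Mathlib.CategoryTheory.IsomorphismClasses
import Mathlib.CategoryTheory.Preadditive.AdditiveFunctor
import Mathlib.Algebra.Polynomial.Eval.Coeff

/-!
# The semiring of isomorphism classes of an additive symmetric monoidal category
-/

set_option autoImplicit false

open CategoryTheory CategoryTheory.Limits MonoidalCategory

namespace K706.Sem

universe w v u

/-- Isomorphism classes of objects. -/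
def IsoCl (C : Type u) [Category.{v} C] : Type u := Quotient (isIsomorphicSetoid C)

section Basic

variable {C : Type u} [Category.{v} C]

/-- The class of an object. -/
def cl (X : C) : IsoCl C := Quotient.mk (isIsomorphicSetoid C) X

theorem cl_eq_iff {X Y : C} : cl X = cl Y ↔ Nonempty (X ≅ Y) := Quotient.eq (r := isIsomorphicSetoid C)

theorem cl_eq {X Y : C} (e : X ≅ Y) : cl X = cl Y := cl_eq_iff.mpr ⟨e⟩

theorem exists_cl (x : IsoCl C) : ∃ X : C, cl X = x := Quotient.exists_rep x

theorem ind {p : IsoCl C → Prop} (h : ∀ X : C, p (cl X)) (x : IsoCl C) : p x := by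
  obtain ⟨X, rfl⟩ := exists_cl x
  exact h X

end Basic

section Add

variable {C : Type u} [Category.{v} C] [Preadditive C] [HasBinaryBiproducts C] [HasZeroObject C]

open ZeroObject

noncomputable instance : Zero (IsoCl C) := ⟨cl 0⟩

noncomputable instance : Add (IsoCl C) := ⟨Quotient.map₂ (fun X Y => X ⊞ Y) (by
    rintro X X' ⟨e⟩ Y Y' ⟨f⟩
    exact ⟨biprod.mapIso e f⟩)⟩

noncomputable instance : AddCommMonoid (IsoCl C) where
  add_assoc x y z := by
    induction x using ind
    induction y using ind
    induction z using ind
    exact cl_eq (biprod.associator _ _ _)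
  zero_add x := by
    induction x using ind
    exact cl_eq (isoZeroBiprod (isZero_zero C)).symm
  add_zero x := by
    induction x using ind
    exact cl_eq (isoBiprodZero (isZero_zero C)).symm
  add_comm x y := by
    induction x using ind
    induction y using ind
    exact cl_eq (biprod.braiding _ _)
  nsmul := nsmulRec

theorem cl_biprod (X Y : C) : cl (X ⊞ Y) = cl X + cl Y := rfl

theorem cl_of_isZero {X : C} (h : IsZero X) : cl X = 0 := cl_eq (h.iso (isZero_zero C))

theorem cl_eq_zero_iff {X : C} : cl X = 0 ↔ IsZero X :=
  ⟨fun h => by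
    obtain ⟨e⟩ := cl_eq_iff.mp (h : cl X = cl 0)
    exact (isZero_zero C).of_iso e, cl_of_isZero⟩

end Add

section Sum

variable {C : Type u} [Category.{v} C] [Preadditive C] [HasBinaryBiproducts C] [HasZeroObject C] [HasFiniteBiproducts C]

theorem cl_biproduct_fin (n : ℕ) : ∀ (W : Fin n → C), cl (⨁ W) = ∑ i, cl (W i) := by
  induction n with
  | zero =>
    intro W
    rw [Finset.univ_eq_empty, Finset.sum_empty]
    apply cl_of_isZero
    rw [IsZero.iff_id_eq_zero]
    exact biproduct.hom_ext _ _ fun i => i.elim0
  | succ n ih =>
    intro W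
    rw [Fin.sum_univ_castSucc, ← ih, ← cl_biprod]
    apply cl_eq_iff.mpr
    let i : ∀ a, W a ⟶ (⨁ fun i : Fin n => W i.castSucc) ⊞ W (Fin.last n) :=
      Fin.lastCases biprod.inr (fun a => biproduct.ι (fun i : Fin n => W i.castSucc) a ≫ biprod.inl)
    let p : ∀ a, (⨁ fun i : Fin n => W i.castSucc) ⊞ W (Fin.last n) ⟶ W a :=
      Fin.lastCases biprod.snd (fun a => biprod.fst ≫ biproduct.π (fun i : Fin n => W i.castSucc) a)
    obtain ⟨e⟩ := KS.nonempty_iso_biproduct W i p (by
        intro a
        induction a using Fin.lastCases with
        | last => simp [i, p]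
        | cast a => simp [i, p]) (by
        intro a b hab
        induction a using Fin.lastCases with
        | last =>
          induction b using Fin.lastCases with
          | last => exact absurd rfl hab
          | cast b => simp [i, p]
        | cast a =>
          induction b using Fin.lastCases with
          | last => simp [i, p]
          | cast b =>
            have : a ≠ b := fun h => hab (h ▸ rfl)
            simp [i, p, biproduct.ι_π_ne _ this]) (by
        rw [Fin.sum_univ_castSucc]
        simp only [i, p, Fin.lastCases_castSucc, Fin.lastCases_last]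
        have := congrArg (fun t => (biprod.fst : (⨁ fun i : Fin n => W i.castSucc) ⊞ W (Fin.last n) ⟶ _) ≫ t ≫
          (biprod.inl : _ ⟶ (⨁ fun i : Fin n => W i.castSucc) ⊞ W (Fin.last n)))
          (biproduct.total (f := fun i : Fin n => W i.castSucc))
        simp only [Preadditive.sum_comp, Preadditive.comp_sum, Category.id_comp, Category.assoc] at this
        simp only [Category.assoc]
        rw [this, biprod.total])
    exact ⟨e.symm⟩

theorem cl_biproduct {ι : Type} [Fintype ι] (W : ι → C) : cl (⨁ W) = ∑ i, cl (W i) := by
  let e := Fintype.equivFin ι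
  rw [← e.symm.sum_comp, ← cl_biproduct_fin]
  exact cl_eq (biproduct.whiskerEquiv e.symm (fun i => Iso.refl _) : (⨁ fun i => W (e.symm i)) ≅ ⨁ W).symm

theorem cl_coproduct {ι : Type} [Fintype ι] (W : ι → C) : cl (∐ W) = ∑ i, cl (W i) := by
  rw [← cl_biproduct]
  exact cl_eq (biproduct.isoCoproduct W).symm

theorem cl_copies (n : ℕ) (W : C) : cl (∐ fun _ : Fin n => W) = n • cl W := by
  rw [cl_coproduct, Finset.sum_const, Finset.card_univ, Fintype.card_fin]

theorem cl_copies' (n : ℕ) (W : C) : cl (⨁ fun _ : Fin n => W) = n • cl W := by
  rw [cl_biproduct, Finset.sum_const, Finset.card_univ, Fintype.card_fin]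

end Sum

section Mul

variable {C : Type u} [Category.{v} C] [Preadditive C] [HasBinaryBiproducts C] [HasZeroObject C]
  [MonoidalCategory C] [SymmetricCategory C] [MonoidalPreadditive C]

theorem cl_functor {D : Type*} [Category* D] [Preadditive D] [HasBinaryBiproducts D] [HasZeroObject D] (F : C ⥤ D)
    [F.Additive] (X Y : C) : cl (F.obj (X ⊞ Y)) = cl (F.obj X) + cl (F.obj Y) := by
  have := preservesBinaryBiproducts_of_preservesBiproducts F
  exact cl_eq (F.mapBiprod X Y)

noncomputable instance : One (IsoCl C) := ⟨cl (𝟙_ C)⟩

noncomputable instance : Mul (IsoCl C) := ⟨Quotient.map₂ (fun X Y => X ⊗ Y) (by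
    rintro X X' ⟨e⟩ Y Y' ⟨f⟩
    exact ⟨e ⊗ᵢ f⟩)⟩

noncomputable instance : CommSemiring (IsoCl C) where
  mul_assoc x y z := by
    induction x using ind
    induction y using ind
    induction z using ind
    exact cl_eq (α_ _ _ _)
  one_mul x := by
    induction x using ind
    exact cl_eq (λ_ _)
  mul_one x := by
    induction x using ind
    exact cl_eq (ρ_ _)
  mul_comm x y := by
    induction x using ind
    induction y using ind
    exact cl_eq (β_ _ _)
  left_distrib x y z := by
    induction x using ind with | _ X
    induction y using ind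
    induction z using ind
    exact cl_functor (tensorLeft X) _ _
  right_distrib x y z := by
    induction x using ind
    induction y using ind
    induction z using ind with | _ Z
    exact cl_functor (tensorRight Z) _ _
  zero_mul x := by
    induction x using ind with | _ X
    exact cl_of_isZero ((tensorRight X).map_isZero (isZero_zero C))
  mul_zero x := by
    induction x using ind with | _ X
    exact cl_of_isZero ((tensorLeft X).map_isZero (isZero_zero C))

theorem cl_tensor (X Y : C) : cl (X ⊗ Y) = cl X * cl Y := rfl

theorem cl_unit : cl (𝟙_ C) = 1 := rfl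

end Mul

end K706.Sem
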