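import Groth.Agent.VBCurve.K707.Semi
import Groth.Agent.PerfB.TensInv
import Groth.Agent.CurvesB.OmegaInv

/-!
# Maps out of invertible modules on a curve, and tensoring by an invertible module
-/

set_option autoImplicit false
set_option linter.unusedVariables false
universe u
open CategoryTheory CategoryTheory.Limits AlgebraicGeometry

namespace K706.VStab

open Groth.Agent K707.Base K707.Deg K707.Slope K707.Semi
open Groth.Agent.VarietyA.DegRank

theorem rank_one {X : Scheme.{u}} {L : X.Modules} (hL : PicF.IsInvertible L) : FlatMod.IsFinLocFreeOfRank 1 L :=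
  Ega2.QCohLocal.isFinLocFreeOfRank_one_iff.mpr hL

variable {k : Type u} [Field k] {X : Scheme.{u}} [X.Over (Spec (CommRingCat.of k))]
  [IsIntegral X] [IsProper (X ↘ (Spec (CommRingCat.of k)))]

/-- A non-zero morphism from an invertible module to a locally free module is a monomorphism. -/
theorem mono_of_ne_zero (C : Crv k X) {L E : X.Modules} (hL : PicF.IsInvertible L) (hE : FlatMod.IsFinLocFree E)
    (s : L ⟶ E) (hs : s ≠ 0) : Mono s := by
  have hr := rk_of_rank (rank_one hL)
  have hLc := isCoh_of_rank (rank_one hL)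
  obtain ⟨I, p, i, hp, hi, hpi, hI, h0, h1, -⟩ := exists_factor_pos C s hs hLc hE
  have h2 : rk (kernel s) = 0 := by omega
  have h3 := isZero_of_rk_eq_zero C (vb_kernel C s (isFinLocFree_of_rank (rank_one hL)) (coh_of_vb hE)) h2
  exact Preadditive.mono_of_isZero_kernel s h3

/-- Tensoring with an invertible module preserves monomorphisms. -/
theorem mono_tensorRight {X : Scheme.{u}} {K L E : X.Modules} (hK : PicF.IsInvertible K) (s : L ⟶ E) [Mono s] :
    Mono ((DCoh.tensorRightMod K).map s) := by
  have := PerfB.TensInv.preservesFiniteLimits_of_isInvertible hK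
  infer_instance

theorem isInvertible_of_iso {X : Scheme.{u}} {K L : X.Modules} (e : K ≅ L) (h : PicF.IsInvertible L) :
    PicF.IsInvertible K := by
  intro x
  obtain ⟨U, hU, ⟨a⟩⟩ := h x
  exact ⟨U, hU, ⟨(Scheme.Modules.restrictFunctor U.ι).mapIso e ≪≫ a⟩⟩

/-- In a very stable module there are no non-zero `L → E → L ⊗ K` with zero composite. -/
theorem comp_ne_zero (C : Crv k X) {K L E : X.Modules} (hK : PicF.IsInvertible K) (hL : PicF.IsInvertible L)
    (hE : FlatMod.IsFinLocFree E)
    (hvs : ∀ α : E ⟶ (DCoh.tensorRightMod K).obj E, α ≫ (DCoh.tensorRightMod K).map α = 0 → α = 0)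
    (s : L ⟶ E) (hs : s ≠ 0) (t : E ⟶ (DCoh.tensorRightMod K).obj L) (ht : t ≠ 0) : s ≫ t ≠ 0 := by
  intro h
  have : Mono s := mono_of_ne_zero C hL hE s hs
  have : Mono ((DCoh.tensorRightMod K).map s) := mono_tensorRight hK s
  apply ht
  rw [← cancel_mono ((DCoh.tensorRightMod K).map s), zero_comp]
  apply hvs
  rw [Functor.map_comp, Category.assoc, ← Functor.map_comp_assoc (DCoh.tensorRightMod K) s t, h]
  have : (DCoh.tensorRightMod K).map (0 : L ⟶ (DCoh.tensorRightMod K).obj L) = 0 := by
    apply Functor.map_zero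
  rw [this, zero_comp, comp_zero]

end K706.VStab
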