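import Groth.Agent.VBCurve.K706.Serre
import Groth.Agent.VBCurve.K706.InvTens
import Groth.Agent.VBCurve.K706.VStab
import Groth.Agent.VBCurve.K708.Deg
import Groth.Agent.VBCurve.K704.InvHom
import Groth.Agent.S1522

/-!
# Secant divisors of `|K ⊗ N|` on a smooth proper curve
-/

set_option autoImplicit false
set_option linter.unusedVariables false
set_option linter.unusedSectionVars false
universe u
open CategoryTheory CategoryTheory.Limits AlgebraicGeometry MonoidalCategory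

namespace K706.Secant

open scoped Groth.Agent.Dcoh.MonCat
open Groth.Agent K706.InvTens

section gen

variable {k : Type u} [Field k] {X : Scheme.{u}} [X.Over (Spec (CommRingCat.of k))]
  [IsIntegral X] [IsProper (X ↘ (Spec (CommRingCat.of k)))]

theorem deg_inv_tensor (hdim : topologicalKrullDim X = 1) {A B : X.Modules} (hA : PicF.IsInvertible A) (hB : PicF.IsInvertible B) :
    Curv2.deg k X (CohB1.tensorMod A B) 1 = Curv2.deg k X A 1 + Curv2.deg k X B 1 := by
  have h := K708.Deg.deg_tensor k hdim.le (VStab.rank_one hA) (VStab.rank_one hB)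
  push_cast at h
  linarith

/-- The section of `N` attached to an ideal `I ⊂ O` with `I ⊗ N ≅ O`. -/
noncomputable def sect {I N : X.Modules} (ι : I ⟶ 𝟙_ X.Modules) (i : I ⊗ N ≅ 𝟙_ X.Modules) : 𝟙_ X.Modules ⟶ N :=
  i.inv ≫ ι ▷ N ≫ (λ_ N).hom

theorem sect_ne_zero {I N : X.Modules} (hN : PicF.IsInvertible N) (ι : I ⟶ 𝟙_ X.Modules) [Mono ι] (i : I ⊗ N ≅ 𝟙_ X.Modules) :
    sect ι i ≠ 0 := by
  have : Mono (ι ▷ N) := VStab.mono_tensorRight hN ι
  have : Mono (sect ι i) := by unfold sect; infer_instance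
  exact K704.InvHom.ne_zero_of_mono Fdesc.LocGen.isInvertible_structureModule (sect ι i)

/-- `h⁰(N) = 0` means that `N` has no section. -/
theorem eq_zero_of_h0 {N : X.Modules} (hN : PicF.IsInvertible N) (h : Module.finrank k (Coh.HH X N 0) = 0)
    (s : 𝟙_ X.Modules ⟶ N) : s = 0 := by
  have hf : Module.Finite k (Coh.HH X N 0) := S0002.result k X N (K707.Base.isCoh_of_rank (VStab.rank_one hN)) 0
  have h1 : Subsingleton (Coh.HH X N 0) := Module.finrank_zero_iff.mp h
  have h2 : Subsingleton Γ(N, ⊤) := (CurvesB.HZero.equivAdd N).symm.injective.subsingleton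
  exact (Dcoh.Restrict.unitEquiv N).injective (Subsingleton.elim _ _)

theorem exists_sect {N : X.Modules} (h : 0 < Module.finrank k (Coh.HH X N 0)) : ∃ s : 𝟙_ X.Modules ⟶ N, s ≠ 0 := by
  have h1 : Nontrivial (Coh.HH X N 0) := Module.nontrivial_of_finrank_pos h
  obtain ⟨x, hx⟩ := exists_ne (0 : Coh.HH X N 0)
  refine ⟨(Dcoh.Restrict.unitEquiv N).symm (CurvesB.HZero.equivAdd N x), fun h0 => hx ?_⟩
  have h2 : (Dcoh.Restrict.unitEquiv N).symm (CurvesB.HZero.equivAdd N x) = 0 := h0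
  rw [EmbeddingLike.map_eq_zero_iff, EmbeddingLike.map_eq_zero_iff] at h2
  exact h2

/-- Two nonzero sections of `N` are proportional if `h⁰(N) ≤ 1`. -/
theorem exists_smul {N : X.Modules} (hN : PicF.IsInvertible N) (h : Module.finrank k (Coh.HH X N 0) ≤ 1)
    (s s' : 𝟙_ X.Modules ⟶ N) (hs : s ≠ 0) (hs' : s' ≠ 0) : ∃ c : k, c ≠ 0 ∧ s' = c • s := by
  have hf : Module.Finite k (Coh.HH X N 0) := S0002.result k X N (K707.Base.isCoh_of_rank (VStab.rank_one hN)) 0
  have hf' : Module.Finite k (Coh.structureModule X ⟶ N) := HomFin.finite_unit_hom k N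
  have h1 : Module.finrank k (Coh.structureModule X ⟶ N) ≤ 1 := by
    let := CurvesB.HZero.moduleΓ k N
    have : Module.Finite k Γ(N, ⊤) := Module.Finite.equiv (CurvesB.HZero.equivLin k N)
    rw [(CurvesB.HZero.equivLin k N).finrank_eq] at h
    exact (LinearMap.finrank_le_finrank_of_injective (HomFin.secLin_injective k N)).trans h
  have h2 : 0 < Module.finrank k (Coh.structureModule X ⟶ N) := by
    have : Nontrivial (Coh.structureModule X ⟶ N) := ⟨s, 0, hs⟩
    exact Module.finrank_pos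
  have h3 : Module.finrank k (Coh.structureModule X ⟶ N) = 1 := by omega
  obtain ⟨c, hc⟩ := (finrank_eq_one_iff_of_nonzero' s hs).mp h3 s'
  refine ⟨c, ?_, hc.symm⟩
  rintro rfl
  apply hs'
  rw [← hc, zero_smul]

end gen

section alg

variable {k : Type u} [Field k] [IsAlgClosed k] {X : Scheme.{u}} [X.Over (Spec (CommRingCat.of k))]
  [IsIntegral X] [IsProper (X ↘ (Spec (CommRingCat.of k)))] [Smooth (X ↘ (Spec (CommRingCat.of k)))]
  (hdim : topologicalKrullDim X = 1) {g : ℕ} (hgen : Curv2.genus k X = g)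
  {K : X.Modules} (eK : K ≅ Omega.sheaf (X ↘ Spec (CommRingCat.of k)))

include hdim

theorem inv_K (eK : K ≅ Omega.sheaf (X ↘ Spec (CommRingCat.of k))) : PicF.IsInvertible K :=
  VStab.isInvertible_of_iso eK (CurvesB.OmegaInv.isInvertible_omega _ hdim)

include hgen

theorem deg_K (eK : K ≅ Omega.sheaf (X ↘ Spec (CommRingCat.of k))) : Curv2.deg k X K 1 = 2 * (g : ℤ) - 2 := by
  rw [K708.Deg.deg_iso k eK, (S1612.result k X ⟨inferInstance, inferInstance, inferInstance, hdim⟩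
    (VarietyA.CurveFin.finrank_h0_structure k X)).2, hgen]

/-- Riemann–Roch. -/
theorem rr (M : X.Modules) : (Module.finrank k (Coh.HH X M 0) : ℤ) = Curv2.deg k X M 1 +
    Module.finrank k (Coh.HH X M 1) + 1 - g := by
  have h := K704.Base.deg_eq_one k X hdim M
  rw [hgen] at h
  omega

theorem h0_K (eK : K ≅ Omega.sheaf (X ↘ Spec (CommRingCat.of k))) : Module.finrank k (Coh.HH X K 0) = g := by
  have h1 := (S1612.result k X ⟨inferInstance, inferInstance, inferInstance, hdim⟩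
    (VarietyA.CurveFin.finrank_h0_structure k X)).1
  rw [hgen] at h1
  rw [← h1]
  exact (VarietyA.EulerLES.equivA k eK 0).finrank_eq

/-- `h¹ = 0` for degree at least `2g - 1`. -/
theorem h1_zero {M : X.Modules} (hM : PicF.IsInvertible M) (hd : 2 * (g : ℤ) - 1 ≤ Curv2.deg k X M 1) :
    Module.finrank k (Coh.HH X M 1) = 0 := by
  have := S1522.result k X hdim M hM (by rw [hgen]; exact hd)
  exact Module.finrank_zero_of_subsingleton

/-- If `deg I = - deg N` and `h⁰(I ⊗ K ⊗ N) = g` then `I ⊗ N ≅ O`. -/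
theorem nonempty_unit_of (eK : K ≅ Omega.sheaf (X ↘ Spec (CommRingCat.of k))) {I N : X.Modules} (hI : PicF.IsInvertible I)
    (hN : PicF.IsInvertible N) (hd : Curv2.deg k X I 1 = - Curv2.deg k X N 1)
    (h : Module.finrank k (Coh.HH X (CohB1.tensorMod I (CohB1.tensorMod K N)) 0) = g) :
    Nonempty (I ⊗ N ≅ 𝟙_ X.Modules) := by
  have hK := inv_K hdim eK
  have hKN : PicF.IsInvertible (CohB1.tensorMod K N) := Fdesc.LocGen.isInvertible_tensorMod hK hN
  have hM : PicF.IsInvertible (CohB1.tensorMod I (CohB1.tensorMod K N)) := Fdesc.LocGen.isInvertible_tensorMod hI hKN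
  have hdM : Curv2.deg k X (CohB1.tensorMod I (CohB1.tensorMod K N)) 1 = 2 * (g : ℤ) - 2 := by
    rw [deg_inv_tensor hdim hI hKN, deg_inv_tensor hdim hK hN, deg_K hdim hgen eK, hd]
    ring
  have h1 := rr hdim hgen (CohB1.tensorMod I (CohB1.tensorMod K N))
  rw [h, hdM] at h1
  obtain ⟨e⟩ := Serre.nonempty_iso_omega (k := k) hdim hM (by rw [hdM, hgen]) (by omega)
  exact nonempty_unit hK (e ≪≫ eK.symm)

theorem no_secant (hg : 3 ≤ g) (eK : K ≅ Omega.sheaf (X ↘ Spec (CommRingCat.of k))) {N : X.Modules}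
    (hN : PicF.IsInvertible N) (hdN : Curv2.deg k X N 1 = (g : ℤ) - 1)
    (h0 : Module.finrank k (Coh.HH X N 0) = 0) :
    ¬ ∃ (I : X.Modules) (ι : I ⟶ Coh.structureModule X),
        PicF.IsInvertible I ∧ Mono ι ∧ Curv2.deg k X I 1 = -((g : ℤ) - 1) ∧
        Module.finrank k (Coh.HH X (CohB1.tensorMod I (CohB1.tensorMod K N)) 0) + (g - 2) =
          Module.finrank k (Coh.HH X (CohB1.tensorMod K N) 0) := by
  rintro ⟨I, ι, hI, hι, hdI, hsec⟩
  have hK := inv_K hdim eK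
  have hKN : PicF.IsInvertible (CohB1.tensorMod K N) := Fdesc.LocGen.isInvertible_tensorMod hK hN
  have hdKN : Curv2.deg k X (CohB1.tensorMod K N) 1 = 3 * (g : ℤ) - 3 := by
    rw [deg_inv_tensor hdim hK hN, deg_K hdim hgen eK, hdN]; ring
  have h1 := rr hdim hgen (CohB1.tensorMod K N)
  rw [hdKN, h1_zero hdim hgen hKN (by rw [hdKN]; omega)] at h1
  obtain ⟨i⟩ := nonempty_unit_of hdim hgen eK hI hN (by rw [hdI, hdN]) (by omega)
  exact sect_ne_zero hN ι i (eq_zero_of_h0 hN h0 _)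

theorem h0_KN (hg : 3 ≤ g) (eK : K ≅ Omega.sheaf (X ↘ Spec (CommRingCat.of k))) {N : X.Modules}
    (hN : PicF.IsInvertible N) (hdN : Curv2.deg k X N 1 = (g : ℤ)) :
    Module.finrank k (Coh.HH X (CohB1.tensorMod K N) 0) = 2 * g - 1 := by
  have hK := inv_K hdim eK
  have hKN : PicF.IsInvertible (CohB1.tensorMod K N) := Fdesc.LocGen.isInvertible_tensorMod hK hN
  have hdKN : Curv2.deg k X (CohB1.tensorMod K N) 1 = 3 * (g : ℤ) - 2 := by
    rw [deg_inv_tensor hdim hK hN, deg_K hdim hgen eK, hdN]; ring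
  have h1 := rr hdim hgen (CohB1.tensorMod K N)
  rw [hdKN, h1_zero hdim hgen hKN (by rw [hdKN]; omega)] at h1
  omega

theorem unique_secant (hg : 3 ≤ g) (eK : K ≅ Omega.sheaf (X ↘ Spec (CommRingCat.of k))) {N : X.Modules}
    (hN : PicF.IsInvertible N) (hdN : Curv2.deg k X N 1 = (g : ℤ))
    (h0 : Module.finrank k (Coh.HH X N 0) ≤ 1) (I I' : X.Modules) (ι : I ⟶ Coh.structureModule X)
    (ι' : I' ⟶ Coh.structureModule X)
    (h : PicF.IsInvertible I ∧ Mono ι ∧ Curv2.deg k X I 1 = -((g : ℤ)) ∧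
        Module.finrank k (Coh.HH X (CohB1.tensorMod I (CohB1.tensorMod K N)) 0) + (g - 1) =
          Module.finrank k (Coh.HH X (CohB1.tensorMod K N) 0))
    (h' : PicF.IsInvertible I' ∧ Mono ι' ∧ Curv2.deg k X I' 1 = -((g : ℤ)) ∧
        Module.finrank k (Coh.HH X (CohB1.tensorMod I' (CohB1.tensorMod K N)) 0) + (g - 1) =
          Module.finrank k (Coh.HH X (CohB1.tensorMod K N) 0)) :
    ∃ φ : I' ≅ I, φ.hom ≫ ι = ι' := by
  obtain ⟨hI, hι, hdI, hs⟩ := h
  obtain ⟨hI', hι', hdI', hs'⟩ := h'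
  have h1 := h0_KN hdim hgen hg eK hN hdN
  obtain ⟨i⟩ := nonempty_unit_of hdim hgen eK hI hN (by rw [hdI, hdN]) (by omega)
  obtain ⟨i'⟩ := nonempty_unit_of hdim hgen eK hI' hN (by rw [hdI', hdN]) (by omega)
  obtain ⟨θ⟩ := cancel hN (i' ≪≫ i.symm)
  have hm : Mono (θ.hom ≫ ι) := mono_comp _ _
  obtain ⟨c, hc0, hc⟩ := exists_smul hN h0 (sect (θ.hom ≫ ι) i') (sect ι' i')
    (sect_ne_zero hN (θ.hom ≫ ι) i') (sect_ne_zero hN ι' i')
  have h2 : ι' ▷ N = c • ((θ.hom ≫ ι) ▷ N) := by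
    unfold sect at hc
    rw [← Linear.comp_smul, cancel_epi, ← Linear.smul_comp, cancel_mono] at hc
    exact hc
  rw [← HomFin.smul_whiskerRight] at h2
  have h3 := whiskerRight_inj hN h2
  refine ⟨⟨c • θ.hom, c⁻¹ • θ.inv, ?_, ?_⟩, ?_⟩
  · rw [Linear.smul_comp, Linear.comp_smul, smul_smul, mul_inv_cancel₀ hc0, one_smul, θ.hom_inv_id]
  · rw [Linear.smul_comp, Linear.comp_smul, smul_smul, inv_mul_cancel₀ hc0, one_smul, θ.inv_hom_id]
  · rw [h3, Linear.smul_comp]

theorem exists_secant (hg : 3 ≤ g) (eK : K ≅ Omega.sheaf (X ↘ Spec (CommRingCat.of k))) {N : X.Modules}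
    (hN : PicF.IsInvertible N) (hdN : Curv2.deg k X N 1 = (g : ℤ)) :
    ∃ (I : X.Modules) (ι : I ⟶ Coh.structureModule X),
        PicF.IsInvertible I ∧ Mono ι ∧ Curv2.deg k X I 1 = -((g : ℤ)) ∧
        Module.finrank k (Coh.HH X (CohB1.tensorMod I (CohB1.tensorMod K N)) 0) + (g - 1) =
          Module.finrank k (Coh.HH X (CohB1.tensorMod K N) 0) := by
  have hrr := rr hdim hgen N
  obtain ⟨s, hs⟩ := exists_sect (k := k) (N := N) (by omega)
  have hms : Mono s := K704.InvHom.mono_of_ne_zero Fdesc.LocGen.isInvertible_structureModule hN s hs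
  obtain ⟨N', hN', ⟨e⟩⟩ := exists_inv hN
  have hm : Mono (s ▷ N') := VStab.mono_tensorRight hN' s
  refine ⟨N', (λ_ N').inv ≫ s ▷ N' ≫ e.hom, hN', inferInstance, ?_, ?_⟩
  · rw [K708.Deg.deg_eq_neg k hdim.le (VStab.rank_one hN) (VStab.rank_one hN') e, hdN]
  · have i : N' ⊗ N ≅ 𝟙_ X.Modules := β_ N' N ≪≫ e
    have h1 := (VarietyA.EulerLES.equivA k (ofUnit (K := K) i) 0).finrank_eq
    have h2 := h0_K hdim hgen eK
    have h3 := h0_KN hdim hgen hg eK hN hdN
    have h4 : Module.finrank k (Coh.HH X (CohB1.tensorMod N' (CohB1.tensorMod K N)) 0) = g := h1.trans h2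
    omega

end alg

end K706.Secant
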