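import Groth.Agent.VBCurve.K706.VStab
import Groth.Agent.Sga67.LocBasisOps

/-!
# Twisted endomorphisms (Higgs fields) of bundles on curves: semistability of quotients, opposite filtrations
-/

set_option autoImplicit false
set_option linter.unusedVariables false
set_option linter.unusedSectionVars false
universe u
open CategoryTheory CategoryTheory.Limits AlgebraicGeometry

namespace K706.Higgs

open Groth.Agent K707.Base K707.Deg K707.Slope K707.Semi
open Groth.Agent.VarietyA.DegRank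

variable {k : Type u} [Field k] {X : Scheme.{u}} [X.Over (Spec (CommRingCat.of k))]
  [IsIntegral X] [IsProper (X ↘ (Spec (CommRingCat.of k)))]

/-- A morphism from a coherent module of rank zero to a locally free module vanishes. -/
theorem eq_zero_of_rk_eq_zero (C : Crv k X) {M N : X.Modules} (hM : Coh.IsCoh M) (hN : FlatMod.IsFinLocFree N)
    (h : rk M = 0) (f : M ⟶ N) : f = 0 := by
  by_contra hf
  obtain ⟨I, p, i, -, -, -, -, h0, h1, -⟩ := exists_factor_pos C f hf hM hN
  omega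

section tw

variable {L : X.Modules} (hL : PicF.IsInvertible L)

include hL

omit [IsIntegral X] in
/-- Tensoring with an invertible module preserves kernels. -/
theorem exists_lift {A B D M : X.Modules} (j : A ⟶ B) (q : B ⟶ D) (w : j ≫ q = 0)
    (hj : ∀ (Z : X.Modules) (z : Z ⟶ B), z ≫ q = 0 → ∃ l : Z ⟶ A, l ≫ j = z) [Mono j]
    (f : M ⟶ (DCoh.tensorRightMod L).obj B) (hf : f ≫ (DCoh.tensorRightMod L).map q = 0) :
    ∃ g : M ⟶ (DCoh.tensorRightMod L).obj A, g ≫ (DCoh.tensorRightMod L).map j = f := by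
  have := PerfB.TensInv.preservesFiniteLimits_of_isInvertible hL
  have hk : IsLimit (KernelFork.ofι j w) := by
    refine KernelFork.IsLimit.ofι' _ _ fun {Z} z hz => ?_
    exact ⟨(hj Z z hz).choose, (hj Z z hz).choose_spec⟩
  have hk' := KernelFork.mapIsLimit _ hk (DCoh.tensorRightMod L)
  exact ⟨hk'.lift (KernelFork.ofι f hf), hk'.fac _ WalkingParallelPair.zero⟩

end tw

variable (k) in
/-- Slope-semistability of a module with a twisted endomorphism. -/
def HSS {L E : X.Modules} (φ : E ⟶ (DCoh.tensorRightMod L).obj E) : Prop :=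
  ∀ (G : X.Modules) (j : G ⟶ E) (ψ : G ⟶ (DCoh.tensorRightMod L).obj G), Mono j → FlatMod.IsFinLocFree G →
    ψ ≫ (DCoh.tensorRightMod L).map j = j ≫ φ → dg k G * rk E ≤ dg k E * rk G

/-- The saturation of an invariant submodule is invariant. -/
theorem exists_sat (C : Crv k X) {L E F : X.Modules} (hL : PicF.IsInvertible L) (φ : E ⟶ (DCoh.tensorRightMod L).obj E)
    (hE : FlatMod.IsFinLocFree E) (hF : FlatMod.IsFinLocFree F) (i : F ⟶ E) [Mono i]
    (ψ : F ⟶ (DCoh.tensorRightMod L).obj F) (hψ : ψ ≫ (DCoh.tensorRightMod L).map i = i ≫ φ) :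
    ∃ (F' Q : X.Modules) (a : F ⟶ F') (j : F' ⟶ E) (q : E ⟶ Q) (w : j ≫ q = 0) (ψ' : F' ⟶ (DCoh.tensorRightMod L).obj F'),
      Mono a ∧ a ≫ j = i ∧ (ShortComplex.mk j q w).ShortExact ∧ FlatMod.IsFinLocFree F' ∧ FlatMod.IsFinLocFree Q ∧
        rk F' = rk F ∧ dg k F ≤ dg k F' ∧ rk E = rk F' + rk Q ∧ dg k E = dg k F' + dg k Q ∧
        ψ' ≫ (DCoh.tensorRightMod L).map j = j ≫ φ := by
  obtain ⟨F', Q, a, j, q, w, ha, haj, hS, hF', hQ, h1, h2, h3, h4⟩ := exists_saturation C i (coh_of_vb hF) (coh_of_vb hE)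
  have hj : Mono j := hS.mono_f
  have hF'v : FlatMod.IsFinLocFree F' := vb_of_mono C j hF' hE
  have hz : j ≫ φ ≫ (DCoh.tensorRightMod L).map q = 0 := by
    have e1 : a ≫ j ≫ φ ≫ (DCoh.tensorRightMod L).map q = 0 := by
      rw [← Category.assoc, haj, ← Category.assoc, ← hψ, Category.assoc, ← Functor.map_comp, ← haj, Category.assoc, w,
        comp_zero]
      have : (DCoh.tensorRightMod L).map (0 : F ⟶ Q) = 0 := by apply Functor.map_zero
      rw [this, comp_zero]
    have e2 : cokernel.π a ≫ cokernel.desc a (j ≫ φ ≫ (DCoh.tensorRightMod L).map q) e1 = j ≫ φ ≫ (DCoh.tensorRightMod L).map q :=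
      cokernel.π_desc _ _ _
    have hTQ : FlatMod.IsFinLocFree ((DCoh.tensorRightMod L).obj Q) :=
      Sga67.LocBasis.isFinLocFree_tensorMod hQ (isFinLocFree_of_rank (VStab.rank_one hL))
    have e3 := (mono_numbers C a (coh_of_vb hF) hF').1
    rw [← e2, eq_zero_of_rk_eq_zero C (coh_cokernel a (coh_of_vb hF) hF') hTQ (by omega)
      (cokernel.desc a (j ≫ φ ≫ (DCoh.tensorRightMod L).map q) e1), comp_zero]
  obtain ⟨ψ', hψ'⟩ := exists_lift hL j q w (fun Z z hz => ⟨hS.exact.lift z hz, hS.exact.lift_f z hz⟩) (j ≫ φ)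
    (by rw [Category.assoc]; exact hz)
  exact ⟨F', Q, a, j, q, w, ψ', ha, haj, hS, hF'v, hQ, h1, h2, h3, h4, hψ'⟩

/-- The quotient by an invariant submodule of the same slope is locally free. -/
theorem vb_cokernel (C : Crv k X) {L E F : X.Modules} (hL : PicF.IsInvertible L) (φ : E ⟶ (DCoh.tensorRightMod L).obj E)
    (hφ : HSS k φ) (hE : FlatMod.IsFinLocFree E) (hrE : 0 < rk E) (hF : FlatMod.IsFinLocFree F) (i : F ⟶ E) [Mono i]
    (ψ : F ⟶ (DCoh.tensorRightMod L).obj F) (hψ : ψ ≫ (DCoh.tensorRightMod L).map i = i ≫ φ)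
    (hs : dg k F * rk E = dg k E * rk F) : FlatMod.IsFinLocFree (cokernel i) := by
  obtain ⟨F', Q, a, j, q, w, ψ', ha, haj, hS, hF', hQ, h1, h2, h3, h4, hψ'⟩ := exists_sat C hL φ hE hF i ψ hψ
  have hj : Mono j := hS.mono_f
  have h5 := hφ F' j ψ' hj hF' hψ'
  have h6 : dg k F' ≤ dg k F := by
    have hr : (0 : ℤ) < rk E := by exact_mod_cast hrE
    rw [h1, ← hs] at h5
    exact le_of_mul_le_mul_right h5 hr
  have h7 : IsIso a := isIso_of_mono C a (coh_of_vb hF) (coh_of_vb hF') h1.le h6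
  have hq : Epi q := hS.epi_g
  have hc : IsColimit (CokernelCofork.ofπ q w) := hS.exact.gIsCokernel
  have e : cokernel i ≅ Q := by
    have e1 : cokernel i ≅ cokernel j := by
      refine cokernel.mapIso i j (asIso a) (Iso.refl E) ?_
      simp [haj]
    exact e1 ≪≫ IsColimit.coconePointUniqueUpToIso (cokernelIsCokernel j) hc
  exact vb_iso e.symm hQ

theorem numeric {e f r t g s : ℤ} (hr : 0 < r) (hle : 0 ≤ r - t) (hs : f * r = e * t) (h : g * r ≤ e * s) :
    g * (r - t) ≤ (e - f) * s := by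
  refine le_of_mul_le_mul_right ?_ hr
  have h1 := mul_le_mul_of_nonneg_right h hle
  have h2 : (e - f) * s * r = e * s * (r - t) := by linear_combination (-s) * hs
  rw [h2]
  linarith

/-- The quotient by an invariant submodule of the same slope is semistable. -/
theorem hss_cokernel (C : Crv k X) {L E F : X.Modules} (hL : PicF.IsInvertible L) (φ : E ⟶ (DCoh.tensorRightMod L).obj E)
    (hφ : HSS k φ) (hE : FlatMod.IsFinLocFree E) (hrE : 0 < rk E) (hF : FlatMod.IsFinLocFree F) (i : F ⟶ E) [Mono i]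
    (hs : dg k F * rk E = dg k E * rk F) (φ' : cokernel i ⟶ (DCoh.tensorRightMod L).obj (cokernel i))
    (hφ' : cokernel.π i ≫ φ' = φ ≫ (DCoh.tensorRightMod L).map (cokernel.π i)) : HSS k φ' := by
  intro G j ψ hj hG hψ
  have hFc := coh_of_vb hF
  have hEc := coh_of_vb hE
  have hGc := coh_of_vb hG
  obtain ⟨e1, e2⟩ := mono_numbers C i hFc hEc
  have hQc := coh_cokernel i hFc hEc
  have hRc := coh_cokernel j hGc hQc
  obtain ⟨e3, e4⟩ := mono_numbers C j hGc hQc
  -- the preimage of `G`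
  let q : E ⟶ cokernel j := cokernel.π i ≫ cokernel.π j
  have hq : Epi q := epi_comp _ _
  obtain ⟨e5, e6⟩ := epi_numbers C q hEc hRc
  have hK := vb_kernel C q hE hRc
  have hzj : (DCoh.tensorRightMod L).map j ≫ (DCoh.tensorRightMod L).map (cokernel.π j) = 0 := by
    rw [← Functor.map_comp, cokernel.condition]
    apply Functor.map_zero
  -- the factorization `kernel q → G`
  obtain ⟨p, hp⟩ : ∃ p : kernel q ⟶ G, p ≫ j = kernel.ι q ≫ cokernel.π i := by
    have hx : (ShortComplex.mk j (cokernel.π j) (cokernel.condition j)).Exact := ShortComplex.exact_cokernel j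
    have hw : (kernel.ι q ≫ cokernel.π i) ≫ cokernel.π j = 0 := by
      rw [Category.assoc]; exact kernel.condition q
    have hm : Mono (ShortComplex.mk j (cokernel.π j) (cokernel.condition j)).f := hj
    exact ⟨hx.lift _ hw, hx.lift_f _ hw⟩
  have hz : (kernel.ι q ≫ φ) ≫ (DCoh.tensorRightMod L).map q = 0 := by
    rw [Functor.map_comp, Category.assoc, ← reassoc_of% hφ', ← Category.assoc, ← hp, Category.assoc, ← Category.assoc j,
      ← hψ, Category.assoc, hzj, comp_zero, comp_zero]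
  obtain ⟨χ, hχ⟩ := exists_lift hL (kernel.ι q) q (kernel.condition q)
    (fun Z z hz => ⟨kernel.lift q z hz, kernel.lift_ι _ _ _⟩) (kernel.ι q ≫ φ) hz
  have h5 := hφ (kernel q) (kernel.ι q) χ inferInstance hK hχ
  have hr : (0 : ℤ) < rk E := by exact_mod_cast hrE
  have r1 : (rk (kernel q) : ℤ) = rk F + rk G := by omega
  have r2 : dg k (kernel q) = dg k F + dg k G := by omega
  have r3 : (rk (cokernel i) : ℤ) = rk E - rk F := by omega
  have r4 : dg k (cokernel i) = dg k E - dg k F := by omega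
  rw [r1, r2] at h5
  rw [r3, r4]
  have h6 : dg k G * rk E ≤ dg k E * rk G := by linarith [h5, hs, add_mul (dg k F) (dg k G) (rk E : ℤ), mul_add (dg k E) (rk F : ℤ) (rk G : ℤ)]
  have hle : (0 : ℤ) ≤ (rk E : ℤ) - rk F := by omega
  exact numeric hr hle hs h6

/-- The statement form of semistability. -/
theorem hss_of (C : Crv k X) {L E : X.Modules} {r : ℕ} (hE : FlatMod.IsFinLocFreeOfRank r E)
    (φ : E ⟶ (DCoh.tensorRightMod L).obj E)
    (h : ∀ (G : X.Modules) (s : ℕ) (j : G ⟶ E) (ψ : G ⟶ CohB1.tensorMod G L), Mono j → 0 < s →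
      FlatMod.IsFinLocFreeOfRank s G →
      ψ ≫ (CohB1.sheafifyMod X).map (MonoidalCategoryStruct.whiskerRight (C := CohB1.PMod X) j.val (CohB1.toPMod L)) = j ≫ φ →
      Curv2.deg k X G s * (r : ℤ) ≤ Curv2.deg k X E r * (s : ℤ)) : HSS k φ := by
  intro G j ψ hj hG hψ
  rw [rk_of_rank hE, dg_of_rank k hE]
  rcases Nat.eq_zero_or_pos (rk G) with h0 | h0
  · rw [h0, dg_of_vb_of_rk_eq_zero C hG h0]; simp
  · have h1 := isFinLocFreeOfRank_rk hG
    rw [dg_of_rank k h1]
    exact h G (rk G) j ψ hj h0 h1 hψ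

theorem of_hss {L E : X.Modules} {r : ℕ} (hE : FlatMod.IsFinLocFreeOfRank r E)
    (φ : E ⟶ (DCoh.tensorRightMod L).obj E) (h : HSS k φ)
    (G : X.Modules) (s : ℕ) (j : G ⟶ E) (ψ : G ⟶ CohB1.tensorMod G L) (hj : Mono j)
    (hG : FlatMod.IsFinLocFreeOfRank s G)
    (hψ : ψ ≫ (CohB1.sheafifyMod X).map (MonoidalCategoryStruct.whiskerRight (C := CohB1.PMod X) j.val (CohB1.toPMod L)) = j ≫ φ) :
      Curv2.deg k X G s * (r : ℤ) ≤ Curv2.deg k X E r * (s : ℤ) := by
  have h1 := h G j ψ hj (isFinLocFree_of_rank hG) hψ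
  rwa [rk_of_rank hE, dg_of_rank k hE, rk_of_rank hG, dg_of_rank k hG] at h1

theorem rank_of_vb {M : X.Modules} (h : FlatMod.IsFinLocFree M) {n : ℕ} (hn : rk M = n) :
    FlatMod.IsFinLocFreeOfRank n M := by
  subst hn
  exact isFinLocFreeOfRank_rk h

/-- A semistable twisted endomorphism restricts to a semistable one on submodules of the same slope. -/
theorem hss_sub (C : Crv k X) {L E F : X.Modules} (φ : E ⟶ (DCoh.tensorRightMod L).obj E)
    (hφ : HSS k φ) (hrE : 0 < rk E) (i : F ⟶ E) [Mono i]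
    (ψ : F ⟶ (DCoh.tensorRightMod L).obj F) (hψ : ψ ≫ (DCoh.tensorRightMod L).map i = i ≫ φ)
    (hs : dg k F * rk E = dg k E * rk F) : HSS k ψ := by
  intro G j χ hj hG hχ
  have h1 := hφ G (j ≫ i) χ (mono_comp j i) hG (by rw [Functor.map_comp, ← Category.assoc, hχ, Category.assoc, hψ, Category.assoc])
  have hr : (0 : ℤ) < rk E := by exact_mod_cast hrE
  have hF : (0 : ℤ) ≤ rk F := by positivity
  refine le_of_mul_le_mul_right ?_ hr
  have h2 := mul_le_mul_of_nonneg_right h1 hF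
  have h3 : dg k F * rk G * rk E = dg k E * rk G * rk F := by linear_combination (rk G : ℤ) * hs
  rw [h3]
  linarith

end K706.Higgs
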