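import Groth.Agent.VBCurve.K706.Higgs

/-!
# Opposite filtrations of semistable Higgs bundles
-/

set_option autoImplicit false
set_option linter.unusedVariables false
universe u
open CategoryTheory CategoryTheory.Limits AlgebraicGeometry

namespace K706.Opp

open Groth.Agent K707.Base K707.Deg K707.Slope K707.Semi K706.Higgs
open Groth.Agent.VarietyA.DegRank

theorem sum_eq (n : ℕ) (dE dF c : ℕ → ℤ) (d : ℤ) (hE : ∀ i, i < n → dE (i + 1) = dE i + c i)
    (hF : ∀ i, i < n → dF i = dF (i + 1) + c i) (hn : dE n + dF n = d) : ∀ i, i ≤ n → dE i + dF i = d := by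
  have key : ∀ m i, i + m = n → dE i + dF i = d := by
    intro m
    induction m with
    | zero => intro i hi; rw [add_zero] at hi; subst hi; exact hn
    | succ m ih =>
      intro i hi
      have h0 := ih (i + 1) (by omega)
      have h1 := hE i (by omega)
      have h2 := hF i (by omega)
      omega
  exact fun i hi => key (n - i) i (by omega)

theorem eq_of_le {x y d : ℤ} {a b r : ℕ} (h : a + b = r) (hs : x + y = d) (hx : x * r ≤ d * a) (hy : y * r ≤ d * b) :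
    x * r = d * a ∧ y * r = d * b := by
  have h1 : (x + y) * r = d * a + d * b := by
    rw [hs, ← mul_add, ← Nat.cast_add, h]
  have h2 : x * r + y * r = d * a + d * b := by rw [← h1]; ring
  constructor <;> linarith

variable {k : Type u} [Field k] {X : Scheme.{u}} [X.Over (Spec (CommRingCat.of k))]
  [IsIntegral X] [IsProper (X ↘ (Spec (CommRingCat.of k)))]

theorem slopes (C : Crv k X) {L : X.Modules} (r : ℕ) (hr : 0 < r) (d : ℤ)
    (E : X.Modules) (hE : FlatMod.IsFinLocFreeOfRank r E) (φE : E ⟶ (DCoh.tensorRightMod L).obj E)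
    (hEd : Curv2.deg k X E r = d) (hEss : HSS k φE)
    (F : X.Modules) (hF : FlatMod.IsFinLocFreeOfRank r F) (φF : F ⟶ (DCoh.tensorRightMod L).obj F)
    (hFd : Curv2.deg k X F r = d) (hFss : HSS k φF)
    (n : ℕ)
    (Es : ℕ → X.Modules) (rE : ℕ → ℕ) (hEs : ∀ i, FlatMod.IsFinLocFreeOfRank (rE i) (Es i))
    (ιE : ∀ i, Es i ⟶ E) (hιE : ∀ i, Mono (ιE i))
    (ψE : ∀ i, Es i ⟶ (DCoh.tensorRightMod L).obj (Es i))
    (hψE : ∀ i, ψE i ≫ (DCoh.tensorRightMod L).map (ιE i) = ιE i ≫ φE)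
    (a : ∀ i, Es i ⟶ Es (i + 1)) (ha : ∀ i, a i ≫ ιE (i + 1) = ιE i) (hEn : IsIso (ιE n))
    (Fs : ℕ → X.Modules) (rF : ℕ → ℕ) (hFs : ∀ i, FlatMod.IsFinLocFreeOfRank (rF i) (Fs i))
    (ιF : ∀ i, Fs i ⟶ F) (hιF : ∀ i, Mono (ιF i))
    (ψF : ∀ i, Fs i ⟶ (DCoh.tensorRightMod L).obj (Fs i))
    (hψF : ∀ i, ψF i ≫ (DCoh.tensorRightMod L).map (ιF i) = ιF i ≫ φF)
    (b : ∀ i, Fs (i + 1) ⟶ Fs i) (hb : ∀ i, b i ≫ ιF i = ιF (i + 1)) (hFn : IsZero (Fs n))
    (hrk : ∀ i, i ≤ n → rE i + rF i = r)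
    (hopp : ∀ i, i < n → Nonempty (cokernel (a i) ≅ cokernel (b i))) :
    ∀ i, i ≤ n → dg k (Es i) * (r : ℤ) = d * (rE i : ℤ) ∧ dg k (Fs i) * (r : ℤ) = d * (rF i : ℤ) := by
  have hEc : ∀ i, Coh.IsCoh (Es i) := fun i => isCoh_of_rank (hEs i)
  have hFc : ∀ i, Coh.IsCoh (Fs i) := fun i => isCoh_of_rank (hFs i)
  have hma : ∀ i, Mono (a i) := fun i => by
    have : Mono (a i ≫ ιE (i + 1)) := by rw [ha]; exact hιE i
    exact mono_of_mono (a i) (ιE (i + 1))
  have hmb : ∀ i, Mono (b i) := fun i => by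
    have : Mono (b i ≫ ιF i) := by rw [hb]; exact hιF (i + 1)
    exact mono_of_mono (b i) (ιF i)
  have hEn' : dg k (Es n) = d := by
    rw [← hEd, ← dg_of_rank k hE]
    exact dg_iso k (asIso (ιE n))
  have hFn' : dg k (Fs n) = 0 := dg_of_isZero hFn
  have hsum := sum_eq n (fun i => dg k (Es i)) (fun i => dg k (Fs i)) (fun i => dg k (cokernel (a i))) d
    (fun i hi => (mono_numbers C (a i) (hEc i) (hEc (i + 1))).2)
    (fun i hi => by
      obtain ⟨e⟩ := hopp i hi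
      rw [dg_iso k e]
      exact (mono_numbers C (b i) (hFc (i + 1)) (hFc i)).2) (by simp [hEn', hFn'])
  intro i hi
  refine eq_of_le (hrk i hi) (hsum i hi) ?_ ?_
  · have h1 := hEss (Es i) (ιE i) (ψE i) (hιE i) (isFinLocFree_of_rank (hEs i)) (hψE i)
    rwa [rk_of_rank hE, dg_of_rank k hE, hEd, rk_of_rank (hEs i)] at h1
  · have h1 := hFss (Fs i) (ιF i) (ψF i) (hιF i) (isFinLocFree_of_rank (hFs i)) (hψF i)
    rwa [rk_of_rank hF, dg_of_rank k hF, hFd, rk_of_rank (hFs i)] at h1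

/-- The restricted twisted endomorphisms of a chain are compatible. -/
theorem comm {X : Scheme.{u}} {L : X.Modules} (hL : PicF.IsInvertible L) {A B E : X.Modules} (φ : E ⟶ (DCoh.tensorRightMod L).obj E)
    (i : A ⟶ E) (j : B ⟶ E) [Mono j] (a : A ⟶ B) (ha : a ≫ j = i)
    (ψ : A ⟶ (DCoh.tensorRightMod L).obj A) (hψ : ψ ≫ (DCoh.tensorRightMod L).map i = i ≫ φ)
    (χ : B ⟶ (DCoh.tensorRightMod L).obj B) (hχ : χ ≫ (DCoh.tensorRightMod L).map j = j ≫ φ) :
    ψ ≫ (DCoh.tensorRightMod L).map a = a ≫ χ := by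
  have := VStab.mono_tensorRight hL j
  rw [← cancel_mono ((DCoh.tensorRightMod L).map j), Category.assoc, ← Functor.map_comp, ha, hψ, Category.assoc, hχ,
    ← ha, Category.assoc]

end K706.Opp
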