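import Groth.Agent.VBCurve.K706.TorsTriv
import Groth.Agent.S0017
import Groth.Agent.PerfC.PullRestrict
import Groth.Agent.PerfB.FibreConc
import Groth.Agent.Fdesc.StructMod

/-!
# The direct image of the structure sheaf of a torsor under a finite group scheme
-/

set_option autoImplicit false
set_option linter.unusedVariables false
universe u
open CategoryTheory CategoryTheory.Limits AlgebraicGeometry Opposite

namespace K706.TorsTens

open Groth.Agent

/-- The direct image of the structure sheaf of a finite scheme over a field is free, of rank the dimension of `H⁰`. -/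
theorem nonempty_push_free (k : Type u) [Field k] (G : Scheme.{u}) [G.Over (Spec (CommRingCat.of k))]
    [IsFinite (G ↘ Spec (CommRingCat.of k))] :
    Nonempty ((Scheme.Modules.pushforward (G ↘ Spec (CommRingCat.of k))).obj (Coh.structureModule G) ≅
      FlatMod.freeMod (Spec (CommRingCat.of k)) (Module.finrank k (Coh.HH G (Coh.structureModule G) 0))) := by
  set g : G ⟶ Spec (CommRingCat.of k) := G ↘ Spec (CommRingCat.of k) with hg
  let x₀ : Spec (CommRingCat.of k) := (⊥ : PrimeSpectrum k)
  have hS : Subsingleton (Spec (CommRingCat.of k)) := inferInstanceAs (Subsingleton (PrimeSpectrum k))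
  have hfl : Flat g := inferInstance
  have hlfp : LocallyOfFinitePresentation g :=
    LocallyOfFinitePresentation.iff_locallyOfFiniteType.2 inferInstance
  have hcov : FinCov.IsCover g (g.finrank x₀) :=
    ⟨⟨inferInstance, inferInstance, inferInstance⟩, fun y => by rw [Subsingleton.elim y x₀]⟩
  have h1 := ((K993.LocFree.isCover_iff g _).mp hcov).2
  obtain ⟨e⟩ := PerfB.FibreConc.free_of_subsingleton x₀ h1
  suffices h : Module.finrank k (Coh.HH G (Coh.structureModule G) 0) = g.finrank x₀ by
    rw [h]; exact ⟨e⟩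
  obtain ⟨b, hb⟩ := VarietyB.TensLoc.exists_isBasis_freeMod (Spec (CommRingCat.of k)) (g.finrank x₀)
  have hb' := hb.of_iso e.symm
  let B := hb'.basis le_rfl
  let _ := CurvesB.HZero.moduleΓ k (Coh.structureModule G)
  rw [(CurvesB.HZero.equivLin k (Coh.structureModule G)).finrank_eq]
  let ρ : Γ(Spec (CommRingCat.of k), ⊤) ≃+* k := (Scheme.ΓSpecIso (CommRingCat.of k)).commRingCatIsoToRingEquiv
  let _ : Module k Γ((Scheme.Modules.pushforward g).obj (Coh.structureModule G), ⊤) :=
    CurvesB.HZero.moduleΓ k (Coh.structureModule G)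
  have key : ∀ (c : Γ(Spec (CommRingCat.of k), ⊤)) (x : Γ((Scheme.Modules.pushforward g).obj (Coh.structureModule G), ⊤)),
      ρ c • x = c • x := fun c x => by
    have h2 : (Scheme.ΓSpecIso (CommRingCat.of k)).inv.hom ((Scheme.ΓSpecIso (CommRingCat.of k)).hom.hom c) = c := by
      rw [← CommRingCat.comp_apply, Iso.hom_inv_id, CommRingCat.id_apply]
    have h3 : ∀ y : Γ(Coh.structureModule G, ⊤), (g.appTop.hom ((Scheme.ΓSpecIso (CommRingCat.of k)).inv.hom
        ((Scheme.ΓSpecIso (CommRingCat.of k)).hom.hom c)) : Γ(G, ⊤)) • y =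
        (g.appTop.hom c : Γ(G, ⊤)) • y := fun y => by rw [h2]
    exact h3 x
  let B' : Module.Basis (Fin (g.finrank x₀)) k Γ((Scheme.Modules.pushforward g).obj (Coh.structureModule G), ⊤) :=
    B.mapCoeffs ρ key
  exact (Module.finrank_eq_card_basis B').trans (Fintype.card_fin _)

variable {k : Type u} [Field k] {X : Scheme.{u}} (f : X ⟶ Spec (CommRingCat.of k))
  {G : Over (Spec (CommRingCat.of k))} {T : Over X}

theorem isPullback_bc : IsPullback (pullback.fst (Red.bc f G).hom T.hom ≫ pullback.fst G.hom f)
    (pullback.snd (Red.bc f G).hom T.hom) G.hom (T.hom ≫ f) :=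
  (IsPullback.of_hasPullback (Red.bc f G).hom T.hom).paste_horiz (IsPullback.of_hasPullback G.hom f)

open CartesianMonoidalCategory MonoidalCategory in
/-- The action and the projection make the product with a pseudo-torsor the fibre square of the pseudo-torsor. -/
theorem isPullback_act {S : Scheme.{u}} {H T : Over S} [GrpObj H] (a : AlgGrp.Action H T) (ha : NonAbH1.IsPseudoTorsorSch a) :
    IsPullback (a.act).left (pullback.snd H.hom T.hom) T.hom T.hom := by
  have h7 : IsIso (lift a.act (snd H T)) := ha
  have h9 : IsIso (lift a.act (snd H T)).left :=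
    inferInstanceAs (IsIso ((Over.forget _).map (lift a.act (snd H T))))
  have h1 : (lift a.act (snd H T)).left ≫ pullback.fst T.hom T.hom = (a.act).left := by
    have := congrArg CommaMorphism.left (lift_fst a.act (snd H T))
    exact this
  have h2 : (lift a.act (snd H T)).left ≫ pullback.snd T.hom T.hom = pullback.snd H.hom T.hom := by
    have := congrArg CommaMorphism.left (lift_snd a.act (snd H T))
    exact this
  refine IsPullback.of_iso_pullback ⟨?_⟩ (asIso (lift a.act (snd H T)).left) h1 h2
  rw [← h1, ← h2, Category.assoc, Category.assoc, pullback.condition]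

variable [GrpObj G] [IsFinite G.hom] {a : AlgGrp.Action (Red.bc f G) T}
  (hT : NonAbH1.IsTorsorFor Scheme.fppfPrecoverage a)

include hT

theorem nonempty_pull_push {n : ℕ} (hn : Nonempty ((Scheme.Modules.pushforward G.hom).obj (Coh.structureModule G.left) ≅
      FlatMod.freeMod (Spec (CommRingCat.of k)) n)) :
    Nonempty ((Scheme.Modules.pullback T.hom).obj ((Scheme.Modules.pushforward T.hom).obj (Coh.structureModule T.left)) ≅
      FlatMod.freeMod T.left n) := by
  have h0 := TorsTriv.isFinite_hom f hT
  have q1 : Coh.IsQCoh (Coh.structureModule T.left) := (Fdesc.StructMod.isCoh_structureModule T.left).1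
  have q2 : Coh.IsQCoh (Coh.structureModule G.left) := (Fdesc.StructMod.isCoh_structureModule G.left).1
  obtain ⟨e1⟩ := Groth.Agent.S0017.result _ _ _ _ (isPullback_act a hT.1) (Coh.structureModule T.left)
  obtain ⟨e2⟩ := Groth.Agent.S0017.result _ _ _ _ (isPullback_bc f (G := G) (T := T)) (Coh.structureModule G.left)
  obtain ⟨e3⟩ := hn
  exact ⟨e1 ≪≫ (Scheme.Modules.pushforward _).mapIso (PerfC.PullRestrict.pullbackUnit _ ≪≫
    (PerfC.PullRestrict.pullbackUnit _).symm) ≪≫ e2.symm ≪≫ (Scheme.Modules.pullback _).mapIso e3 ≪≫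
    PerfC.PullRestrict.pullbackFreeMod _ n⟩

omit hT [GrpObj G] [IsFinite G.hom] in
/-- The direct image of a free module. -/
noncomputable def pushFree {Y Z : Scheme.{u}} (g : Y ⟶ Z) (n : ℕ) :
    (Scheme.Modules.pushforward g).obj (FlatMod.freeMod Y n) ≅
      ∐ fun _ : Fin n => (Scheme.Modules.pushforward g).obj (Coh.structureModule Y) :=
  (Scheme.Modules.pushforward g).mapIso (biproduct.isoCoproduct _).symm ≪≫
    (Scheme.Modules.pushforward g).mapBiproduct _ ≪≫ biproduct.isoCoproduct _

/-- `A ⊗ A ≅ A^n` for `A = f_* O_T`, `T` a torsor under a finite group scheme of order `n`. -/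
theorem nonempty_tensor [ConnectedSpace X] {n : ℕ}
    (hn : Nonempty ((Scheme.Modules.pushforward G.hom).obj (Coh.structureModule G.left) ≅
      FlatMod.freeMod (Spec (CommRingCat.of k)) n)) :
    Nonempty (CohB1.tensorMod ((Coh.push T.hom).obj (Coh.structureModule T.left))
        ((Coh.push T.hom).obj (Coh.structureModule T.left)) ≅
      ∐ fun _ : Fin n => (Coh.push T.hom).obj (Coh.structureModule T.left)) := by
  have h0 := TorsTriv.isFinite_hom f hT
  have h1 := TorsTriv.flat_hom f hT
  have h2 := TorsTriv.lfp_hom f hT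
  have h3 := TorsTriv.surjective_hom f hT
  obtain ⟨d, hd0, hd⟩ := CovRetr.exists_isCover T.hom
  have hA : FlatMod.IsFinLocFree ((Scheme.Modules.pushforward T.hom).obj (Coh.structureModule T.left)) :=
    K706.WeilX.isFinLocFree_of_rank ((K993.LocFree.isCover_iff T.hom d).mp hd).2
  obtain ⟨e⟩ := nonempty_pull_push f hT hn
  exact ⟨VarietyB.ProjForm.projIsoUnit T.hom (VarietyB.TensCoh.HasBases.of_isFinLocFree hA) ≪≫
    (Scheme.Modules.pushforward T.hom).mapIso e ≪≫ pushFree T.hom n⟩

end K706.TorsTens
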