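import Groth.Agent.VBCurve.K706.WeilX2
import Groth.Agent.VarietyB.ProjForm
import Groth.Agent.FinCov.K993.LocFree
import Groth.Agent.FinCov.K993.Split
import Mathlib.AlgebraicGeometry.Morphisms.FlatRank

/-!
# Modules trivialised by a finite flat surjective morphism are finite in the sense of Weil (characteristic zero)
-/

set_option autoImplicit false
set_option linter.unusedVariables false
universe u
open CategoryTheory CategoryTheory.Limits AlgebraicGeometry MonoidalCategory Opposite

namespace K706.CovRetr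

open scoped Groth.Agent.Dcoh.MonCat
open Groth.Agent
open K706.Sem K706.KSFin K706.SemiFin K706.KS K706.WeilX

variable {X Y : Scheme.{u}} (f : Y ⟶ X)

/-- The two incarnations of `f_* O_Y` agree. -/
noncomputable def dirIso [QuasiCompact f] [QuasiSeparated f] :
    (RelSpec.QCAlg.directImage f).toModule ≅ (Scheme.Modules.pushforward f).obj (Coh.structureModule Y) where
  hom := Fdesc.LocGen.mkHom (fun U => AddMonoidHom.mk' (fun a => a) fun _ _ => rfl) (fun U a m => rfl) (fun U V h m => rfl)
  inv := Fdesc.LocGen.mkHom (fun U => AddMonoidHom.mk' (fun a => a) fun _ _ => rfl) (fun U a m => rfl) (fun U V h m => rfl)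
  hom_inv_id := rfl
  inv_hom_id := rfl

/-- The rank of a finite flat surjective morphism onto a connected scheme is a positive constant. -/
theorem exists_isCover [ConnectedSpace X] [IsFinite f] [Flat f] [LocallyOfFinitePresentation f] [Surjective f] :
    ∃ d : ℕ, 0 < d ∧ FinCov.IsCover f d := by
  obtain ⟨x⟩ : Nonempty X := inferInstance
  refine ⟨f.finrank x, ?_, ⟨inferInstance, inferInstance, inferInstance⟩, fun y => ?_⟩
  · exact (Scheme.Hom.one_le_finrank_iff_surjective f).mpr inferInstance x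
  · exact (Scheme.Hom.isLocallyConstant_finrank f).apply_eq_of_preconnectedSpace y x

theorem rank_iso {n : ℕ} {M N : X.Modules} (e : M ≅ N) (h : FlatMod.IsFinLocFreeOfRank n M) :
    FlatMod.IsFinLocFreeOfRank n N := by
  intro x
  obtain ⟨U, hU, ⟨a⟩⟩ := h x
  exact ⟨U, hU, ⟨(Scheme.Modules.restrictFunctor U.ι).mapIso e.symm ≪≫ a⟩⟩

/-- In characteristic zero, `O_X` is a direct summand of `f_* O_Y`. -/
theorem nonempty_retract [QuasiCompact f] [QuasiSeparated f] {d : ℕ} (hf : FinCov.IsCover f d) (hd : IsUnit (d : Γ(X, ⊤))) :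
    Nonempty (Retract (Coh.structureModule X) ((Scheme.Modules.pushforward f).obj (Coh.structureModule Y))) := by
  have h1 := ((K993.LocFree.isCover_iff f d).mp hf).2
  have h2 : FlatMod.IsFinLocFreeOfRank d (RelSpec.QCAlg.directImage f).toModule := rank_iso (dirIso f).symm h1
  obtain ⟨τ, hτ, -⟩ := K993.Trace.existsUnique (K993.Rank.isFinLocFree h2)
  have h3 : IsSplitEpi τ := K993.Split.isSplitEpi h2 hτ hd
  exact ⟨⟨section_ τ ≫ (dirIso f).hom, (dirIso f).inv ≫ τ, by simp⟩⟩

theorem cl_pushforward_free (n : ℕ) :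
    cl ((Scheme.Modules.pushforward f).obj (FlatMod.freeMod Y n)) =
      n • cl ((Scheme.Modules.pushforward f).obj (Coh.structureModule Y)) := by
  rw [← cl_copies']
  have e1 : FlatMod.freeMod Y n ≅ ⨁ fun _ : Fin n => Coh.structureModule Y := (biproduct.isoCoproduct _).symm
  exact cl_eq ((Scheme.Modules.pushforward f).mapIso e1 ≪≫ (Scheme.Modules.pushforward f).mapBiproduct _)

/-- `E ⊗ f_* O_Y ≅ (f_* O_Y)^r` if `f^* E` is free of rank `r`. -/
theorem cl_mul_push {E : X.Modules} (hE : FlatMod.IsFinLocFree E) (r : ℕ)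
    (e : (Scheme.Modules.pullback f).obj E ≅ FlatMod.freeMod Y r) :
    cl E * cl ((Scheme.Modules.pushforward f).obj (Coh.structureModule Y)) =
      r • cl ((Scheme.Modules.pushforward f).obj (Coh.structureModule Y)) := by
  rw [← cl_tensor, ← cl_pushforward_free]
  exact cl_eq (VarietyB.ProjForm.projIsoUnit f (VarietyB.TensCoh.HasBases.of_isFinLocFree hE) ≪≫
    (Scheme.Modules.pushforward f).mapIso e)

/-- The main statement. -/
theorem weilFin_of_trivial (k : Type u) [Field k] [CharZero k] [X.Over (Spec (CommRingCat.of k))]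
    [IsProper (X ↘ Spec (CommRingCat.of k))] [ConnectedSpace X]
    [IsFinite f] [Flat f] [LocallyOfFinitePresentation f] [Surjective f]
    {E : X.Modules} (hE : FlatMod.IsFinLocFree E) (r : ℕ)
    (e : (Scheme.Modules.pullback f).obj E ≅ FlatMod.freeMod Y r) : WeilFin E := by
  obtain ⟨d, hd0, hd⟩ := exists_isCover f
  have hu : IsUnit (d : Γ(X, ⊤)) := by
    have h1 : IsUnit (d : k) := isUnit_iff_ne_zero.mpr (Nat.cast_ne_zero.mpr hd0.ne')
    have h2 := h1.map (CurvesB.HZero.gl k X)
    rwa [map_natCast] at h2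
  obtain ⟨ρ⟩ := nonempty_retract f hd hu
  have hA : FlatMod.IsFinLocFree ((Scheme.Modules.pushforward f).obj (Coh.structureModule Y)) :=
    isFinLocFree_of_rank ((K993.LocFree.isCover_iff f d).mp hd).2
  obtain ⟨Z, ⟨e'⟩⟩ := leS_of_retract ρ
  refine (weilFinite_iff E).mpr (wf_of_mul_eq (good k) (gg_of hA) ⟨cl Z, ?_⟩ r (cl_mul_push f hE r e))
  rw [cl_eq e', cl_biprod]
  rfl

end K706.CovRetr
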