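import Groth.Agent.VBCurve.K706.CovRetr
import Groth.Agent.NonAbH1.K551.Tors

/-!
# Torsors under finite group schemes over a field: finite, flat, of finite presentation, surjective
-/

set_option autoImplicit false
set_option linter.unusedVariables false
universe u
open CategoryTheory CategoryTheory.Limits AlgebraicGeometry

namespace K706.TorsTriv

variable {k : Type u} [Field k] {X : Scheme.{u}} (f : X ⟶ Spec (CommRingCat.of k))
  {G : Over (Spec (CommRingCat.of k))} [GrpObj G] [IsFinite G.hom] {T : Over X}
  {a : AlgGrp.Action (Red.bc f G) T} (hT : NonAbH1.IsTorsorFor Scheme.fppfPrecoverage a)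

include hT

theorem isFinite_hom : IsFinite T.hom :=
  haveI : IsFinite (Red.bc f G).hom := inferInstanceAs (IsFinite (pullback.snd G.hom f))
  K551.Tors.isFinite_of_torsor hT

omit [IsFinite G.hom] in
theorem flat_hom : Flat T.hom :=
  haveI : Flat (Red.bc f G).hom := inferInstanceAs (Flat (pullback.snd G.hom f))
  K551.Tors.flat_of_torsor hT

theorem lfp_hom : LocallyOfFinitePresentation T.hom := by
  have h0 : LocallyOfFinitePresentation G.hom :=
    LocallyOfFinitePresentation.iff_locallyOfFiniteType.2 inferInstance
  have h1 : LocallyOfFinitePresentation (Red.bc f G).hom :=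
    inferInstanceAs (LocallyOfFinitePresentation (pullback.snd G.hom f))
  exact K551.Tors.lfp_of_torsor hT

omit [IsFinite G.hom] in
theorem surjective_hom : Surjective T.hom := K551.Tors.surjective_of_torsor hT

end K706.TorsTriv
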