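import Groth.Agent.VBCurve.K707.TensL
import Groth.Agent.VBCurve.K707.MaxSlope
import Groth.Agent.VBCurve.K706.WeilX2

/-!
# Weil-finite bundles on a curve are semistable of degree zero
-/

set_option autoImplicit false
set_option linter.unusedVariables false
set_option linter.unusedSectionVars false
universe u
open CategoryTheory CategoryTheory.Limits AlgebraicGeometry MonoidalCategory

namespace K706.WeilDeg

open Groth.Agent K707.Base K707.Deg K707.Slope K707.Semi
open Groth.Agent.VarietyA.DegRank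
open scoped Groth.Agent.Dcoh.MonCat
open K706.Sem K706.KSFin K706.SemiFin K706.KS K706.WeilX

variable {k : Type u} [Field k] {X : Scheme.{u}} [X.Over (Spec (CommRingCat.of k))]
  [IsIntegral X] [IsProper (X ↘ (Spec (CommRingCat.of k)))]

variable (k) in
/-- Slopes of coherent submodules are at most `B`. -/
def UB (B : ℤ) (A : X.Modules) : Prop := ∀ (F : X.Modules) (i : F ⟶ A), Mono i → Coh.IsCoh F → dg k F ≤ B * rk F

variable (k) in
/-- Slopes of coherent quotients are at least `-B`. -/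
def LB (B : ℤ) (A : X.Modules) : Prop := ∀ (Q : X.Modules) (p : A ⟶ Q), Epi p → Coh.IsCoh Q → -(B * rk Q) ≤ dg k Q

theorem UB.mono {B : ℤ} {A A' : X.Modules} (h : UB k B A') (j : A ⟶ A') [Mono j] : UB k B A :=
  fun F i hi hF => h F (i ≫ j) (mono_comp i j) hF

theorem LB.epi {B : ℤ} {A A' : X.Modules} (h : LB k B A') (q : A' ⟶ A) [Epi q] : LB k B A :=
  fun Q p hp hQ => h Q (q ≫ p) (epi_comp q p) hQ

theorem exists_ub (C : Crv k X) {A : X.Modules} (hA : FlatMod.IsFinLocFree A) : ∃ B : ℤ, 0 ≤ B ∧ UB k B A ∧ LB k B A := by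
  obtain ⟨B, hB0, hB⟩ := K707.MaxSlope.exists_dg_le C (coh_of_vb hA)
  refine ⟨B + |dg k A|, by positivity, fun F i hi hF => ?_, fun Q p hp hQ => ?_⟩
  · have hFv := vb_of_mono C i hF hA
    rcases Nat.eq_zero_or_pos (rk F) with h0 | h0
    · rw [h0, dg_of_vb_of_rk_eq_zero C hFv h0]; simp
    · have h1 := hB F i hi hF
      have h2 : (1 : ℤ) ≤ rk F := by exact_mod_cast h0
      have h3 : (0 : ℤ) ≤ B + |dg k A| := by positivity
      have h4 := abs_nonneg (dg k A)
      nlinarith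
  · obtain ⟨e1, e2⟩ := epi_numbers C p (coh_of_vb hA) hQ
    rcases Nat.eq_zero_or_pos (rk Q) with h0 | h0
    · have h1 := dg_nonneg_of_torsion k C.dim hQ (subsingleton_of_rk_eq_zero hQ h0)
      rw [h0]
      simpa using h1
    · have h1 := hB (kernel p) (kernel.ι p) inferInstance (coh_kernel C p (coh_of_vb hA) hQ)
      have h2 : (1 : ℤ) ≤ rk Q := by exact_mod_cast h0
      have h3 : (0 : ℤ) ≤ B + |dg k A| := by positivity
      have h4 := neg_abs_le (dg k A)
      nlinarith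

theorem UB.ext (C : Crv k X) {B : ℤ} {S : ShortComplex X.Modules} (hS : S.ShortExact) (h₁ : UB k B S.X₁) (h₃ : UB k B S.X₃)
    (hc : Coh.IsCoh S.X₃) : UB k B S.X₂ := by
  intro F i hi hF
  obtain ⟨I, p, j, hp, hj, hpj, hI, e1, e2, -, -⟩ := exists_factor C (i ≫ S.g) hF hc
  have hK := coh_kernel C (i ≫ S.g) hF hc
  have hm := hS.mono_f
  obtain ⟨l, hl⟩ : ∃ l : kernel (i ≫ S.g) ⟶ S.X₁, l ≫ S.f = kernel.ι (i ≫ S.g) ≫ i :=
    ⟨hS.exact.lift _ (by rw [Category.assoc, kernel.condition]), hS.exact.lift_f _ _⟩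
  have hlm : Mono l := by
    have : Mono (l ≫ S.f) := by rw [hl]; infer_instance
    exact mono_of_mono l S.f
  have h2 := h₁ _ l hlm hK
  have h3 := h₃ I j hj hI
  rw [e2, e1]
  push_cast
  linarith [mul_add B (rk (kernel (i ≫ S.g)) : ℤ) (rk I : ℤ)]

theorem LB.ext (C : Crv k X) {B : ℤ} {S : ShortComplex X.Modules} (hS : S.ShortExact) (h₁ : LB k B S.X₁) (h₃ : LB k B S.X₃)
    (hc : Coh.IsCoh S.X₁) : LB k B S.X₂ := by
  intro Q p hp hQ
  obtain ⟨I, q, j, hq, hj, hqj, hI, -, -, e1, e2⟩ := exists_factor C (S.f ≫ p) hc hQ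
  have hC := coh_cokernel (S.f ≫ p) hc hQ
  have he := hS.epi_g
  have h2 := h₁ I q hq hI
  obtain ⟨l, hl⟩ : ∃ l : S.X₃ ⟶ cokernel (S.f ≫ p), S.g ≫ l = p ≫ cokernel.π (S.f ≫ p) :=
    ⟨hS.exact.desc _ (by rw [← Category.assoc, cokernel.condition]), hS.exact.g_desc _ _⟩
  have hle : Epi l := by
    have : Epi (S.g ≫ l) := by rw [hl]; exact epi_comp _ _
    exact epi_of_epi S.g l
  have h3 := h₃ _ l hle hC
  rw [e2, e1]
  push_cast
  linarith [mul_add B (rk I : ℤ) (rk (cokernel (S.f ≫ p)) : ℤ)]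

theorem UB.iso {B : ℤ} {A A' : X.Modules} (e : A ≅ A') (h : UB k B A') : UB k B A := h.mono e.hom

theorem LB.iso {B : ℤ} {A A' : X.Modules} (e : A ≅ A') (h : LB k B A') : LB k B A := LB.epi h e.inv

variable (k) in
/-- The bounds, on isomorphism classes. -/
def Bd (B : ℤ) (x : IsoCl X.Modules) : Prop := ∀ A : X.Modules, cl A = x → Coh.IsCoh A ∧ UB k B A ∧ LB k B A

theorem bd_cl {B : ℤ} {A : X.Modules} (hc : Coh.IsCoh A) (h1 : UB k B A) (h2 : LB k B A) : Bd k B (cl A) := by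
  intro A' hA'
  obtain ⟨e⟩ := cl_eq_iff.mp hA'
  exact ⟨coh_iso e.symm hc, h1.iso e, h2.iso e⟩

theorem bd_add (C : Crv k X) {B : ℤ} {x y : IsoCl X.Modules} (hx : Bd k B x) (hy : Bd k B y) : Bd k B (x + y) := by
  induction x using ind with | _ E
  induction y using ind with | _ F
  obtain ⟨c1, u1, l1⟩ := hx E rfl
  obtain ⟨c2, u2, l2⟩ := hy F rfl
  rw [← cl_biprod]
  let S : ShortComplex X.Modules := ShortComplex.mk (biprod.inl : E ⟶ E ⊞ F) biprod.snd (by simp)
  have hS : S.ShortExact := (ShortComplex.Splitting.ofHasBinaryBiproduct E F).shortExact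
  have := isNoetherian k (X := X)
  have hc : Coh.IsCoh (E ⊞ F) := Sga67.CohBasic.isCoh_biprod c1 c2
  exact bd_cl hc (UB.ext C hS u1 u2 c2) (LB.ext C hS l1 l2 c1)

theorem bd_zero (C : Crv k X) {B : ℤ} : Bd k B (0 : IsoCl X.Modules) := by
  have hz : ∀ A : X.Modules, cl A = 0 → IsZero A := fun A h => cl_eq_zero_iff.mp h
  intro A hA
  have h0 := hz A hA
  refine ⟨Sga67.CohBasic.isCoh_of_isZero h0, fun F i hi hF => ?_, fun Q p hp hQ => ?_⟩
  · have hF0 : IsZero F := h0.of_mono i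
    rw [dg_of_isZero hF0, rk_of_isZero hF0]; simp
  · have hQ0 : IsZero Q := h0.of_epi p
    rw [dg_of_isZero hQ0, rk_of_isZero hQ0]; simp

theorem bd_nsmul (C : Crv k X) {B : ℤ} {x : IsoCl X.Modules} (hx : Bd k B x) (n : ℕ) : Bd k B (n • x) := by
  induction n with
  | zero => rw [zero_smul]; exact bd_zero C
  | succ n ih => rw [succ_nsmul]; exact bd_add C ih hx

/-- Summands satisfy the same bounds. -/
theorem bd_leS {B : ℤ} {E : X.Modules} {y : IsoCl X.Modules} (h : LeS (cl E) y) (hy : Bd k B y) :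
    UB k B E ∧ LB k B E := by
  obtain ⟨z, rfl⟩ := h
  induction z using ind with | _ Z
  rw [← cl_biprod] at hy
  obtain ⟨-, u, l⟩ := hy _ rfl
  exact ⟨u.mono (biprod.inl : E ⟶ E ⊞ Z), LB.epi l (biprod.fst : E ⊞ Z ⟶ E)⟩

/-- Tensor powers. -/
theorem pow_facts (C : Crv k X) {E : X.Modules} (hE : FlatMod.IsFinLocFree E) (n : ℕ) :
    FlatMod.IsFinLocFree (CohB1.tensorPow E n) ∧ rk (CohB1.tensorPow E n) = rk E ^ n ∧
      dg k (CohB1.tensorPow E n) * rk E = n * (rk E : ℤ) ^ n * dg k E := by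
  have hN := isLocNoeth C
  induction n with
  | zero =>
    have h1 : FlatMod.IsFinLocFreeOfRank 1 (Coh.structureModule X) :=
      K707.TensL.rank_one_iff.mpr Fdesc.LocGen.isInvertible_structureModule
    refine ⟨Dcoh.ResFree.isFinLocFree_unit, ?_, ?_⟩
    · rw [pow_zero]
      exact rk_of_rank h1
    · have h2 : dg k (Coh.structureModule X) = 0 := by
        rw [dg, rk_of_rank h1]; push_cast; ring
      change dg k (Coh.structureModule X) * _ = _
      rw [h2]; simp
  | succ n ih =>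
    obtain ⟨i1, i2, i3⟩ := ih
    have hr := isFinLocFreeOfRank_rk hE
    have hc := coh_of_vb i1
    refine ⟨K707.TensL.vb_tensor i1 hE, ?_, ?_⟩
    · change rk (CohB1.tensorMod (CohB1.tensorPow E n) E) = _
      rw [K707.TensL.rk_tensor hr hc, i2, pow_succ, mul_comm]
    · change dg k (CohB1.tensorMod (CohB1.tensorPow E n) E) * _ = _
      rw [K707.TensL.dg_tensor k C.dim hr hc, i2, add_mul, mul_assoc, i3]
      push_cast
      ring

/-- Tensor powers of monomorphisms. -/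
theorem exists_mono_pow {E F : X.Modules} (hE : FlatMod.IsFinLocFree E) (hF : FlatMod.IsFinLocFree F) (i : F ⟶ E) [Mono i]
    (C : Crv k X) (n : ℕ) : ∃ j : CohB1.tensorPow F n ⟶ CohB1.tensorPow E n, Mono j := by
  induction n with
  | zero => exact ⟨𝟙 (Coh.structureModule X), inferInstanceAs (Mono (𝟙 (Coh.structureModule X)))⟩
  | succ n ih =>
    obtain ⟨j, hj⟩ := ih
    have h1 : Mono (j ▷ F) := by
      have := K707.TensL.preservesFiniteLimits hF
      exact inferInstanceAs (Mono ((DCoh.tensorRightMod F).map j))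
    have h2 : Mono (CohB1.tensorPow E n ◁ i) := by
      have := K707.TensL.preservesFiniteLimits (pow_facts C hE n).1
      have h3 : Mono (i ▷ CohB1.tensorPow E n) := inferInstanceAs (Mono ((DCoh.tensorRightMod (CohB1.tensorPow E n)).map i))
      have h4 : CohB1.tensorPow E n ◁ i = (β_ (CohB1.tensorPow E n) F).hom ≫ i ▷ CohB1.tensorPow E n ≫
          (β_ (CohB1.tensorPow E n) E).inv := by
        rw [← BraidedCategory.braiding_naturality_right_assoc, Iso.hom_inv_id, Category.comp_id]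
      rw [h4]
      infer_instance
    have h5 : Mono (j ▷ F ≫ CohB1.tensorPow E n ◁ i) := mono_comp _ _
    exact ⟨j ▷ F ≫ CohB1.tensorPow E n ◁ i, h5⟩

theorem le_zero_of_forall {a b : ℤ} (hb : 0 ≤ b) (h : ∀ n : ℕ, (n : ℤ) * a ≤ b) : a ≤ 0 := by
  by_contra h0
  push Not at h0
  have h1 := h (b.toNat + 1)
  have h2 : ((b.toNat + 1 : ℕ) : ℤ) = b + 1 := by push_cast; omega
  rw [h2] at h1
  nlinarith

/-- Weil-finite bundles: submodules have degree at most zero, and the degree is zero. -/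
theorem main (C : Crv k X) {E : X.Modules} (hE : FlatMod.IsFinLocFree E) (h : WeilFin E) :
    (∀ (F : X.Modules) (i : F ⟶ E), Mono i → Coh.IsCoh F → dg k F ≤ 0) ∧ dg k E = 0 := by
  obtain ⟨a, ⟨A, ⟨A', hA', ⟨r⟩⟩, rfl⟩, ha⟩ := tf_of_wf (good k) (gg_of hE) ((weilFinite_iff E).mp h)
  obtain ⟨Z, ⟨e⟩⟩ := leS_of_retract r
  obtain ⟨B, hB0, hU, hL⟩ := exists_ub C hA'
  have hbd : Bd k B (cl A') := bd_cl (coh_of_vb hA') hU hL
  have hAA : LeS (cl A) (cl A') := ⟨cl Z, by rw [← cl_biprod, ← cl_eq e]⟩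
  have hpow : ∀ n, UB k B (CohB1.tensorPow E n) ∧ LB k B (CohB1.tensorPow E n) := fun n => by
    obtain ⟨N, hN⟩ := ha n
    rw [← cl_tensorPow] at hN
    exact bd_leS (hN.trans (hAA.nsmul N)) (bd_nsmul C hbd N)
  have key : ∀ (F : X.Modules) (i : F ⟶ E), Mono i → Coh.IsCoh F → dg k F ≤ 0 := by
    intro F i hi hF
    have hFv := vb_of_mono C i hF hE
    rcases Nat.eq_zero_or_pos (rk F) with h0 | h0
    · exact (dg_of_vb_of_rk_eq_zero C hFv h0).le
    · have hr : (0 : ℤ) < rk F := by exact_mod_cast h0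
      refine le_zero_of_forall (b := B * rk F) (by positivity) fun n => ?_
      obtain ⟨f1, f2, f3⟩ := pow_facts C hFv n
      obtain ⟨j, hj⟩ := exists_mono_pow hE hFv i C n
      have h1 := (hpow n).1 _ j hj (coh_of_vb f1)
      rw [f2] at h1
      push_cast at h1
      have h2 : (0 : ℤ) < (rk F : ℤ) ^ n := by positivity
      have h3 := mul_le_mul_of_nonneg_right h1 hr.le
      rw [f3] at h3
      refine le_of_mul_le_mul_left ?_ h2
      linarith
  refine ⟨key, le_antisymm (key E (𝟙 E) inferInstance (coh_of_vb hE)) ?_⟩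
  rcases Nat.eq_zero_or_pos (rk E) with h0 | h0
  · exact (dg_of_vb_of_rk_eq_zero C hE h0).ge
  · have hr : (0 : ℤ) < rk E := by exact_mod_cast h0
    rw [← neg_nonpos]
    refine le_zero_of_forall (b := B * rk E) (by positivity) fun n => ?_
    obtain ⟨f1, f2, f3⟩ := pow_facts C hE n
    have h1 := (hpow n).2 _ (𝟙 _) inferInstance (coh_of_vb f1)
    rw [f2] at h1
    push_cast at h1
    have h2 : (0 : ℤ) < (rk E : ℤ) ^ n := by positivity
    have h3 := mul_le_mul_of_nonneg_right h1 hr.le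
    rw [f3] at h3
    refine le_of_mul_le_mul_left ?_ h2
    linarith

end K706.WeilDeg
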