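import Groth.Agent.VBCurve.K706.HomShIso
import Groth.Agent.VBCurve.K706.WeilX2
import Groth.Agent.Dcoh.MonClosed
import Groth.Agent.Dcoh.DualFLF
import Groth.Agent.Sga2.PnHomExact

/-!
# The dual of a Weil-finite module is Weil-finite
-/

set_option autoImplicit false
set_option linter.unusedVariables false
set_option linter.unusedSectionVars false
universe u
open CategoryTheory CategoryTheory.Limits AlgebraicGeometry MonoidalCategory

namespace K706.WeilDual

open scoped Groth.Agent.Dcoh.MonCat ZeroObject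
open Groth.Agent Groth.Agent.Dcoh.MonClosed Groth.Agent.CohqB.HomSheaf
open Groth.Agent.Sga2.PnHomAdj Groth.Agent.Sga2.PnHomExact
open K706.Sem K706.KSFin K706.SemiFin K706.KS K706.WeilX

variable {X : Scheme.{u}}

/-- The dual. -/
noncomputable abbrev D (E : X.Modules) : X.Modules := homSheaf E (𝟙_ X.Modules)

/-- The dual is determined by an adjunction. -/
noncomputable def dOfAdj {E E' : X.Modules} (adj : tensorLeft E ⊣ tensorLeft E') : D E ≅ E' :=
  ((tensorHomAdj E).rightAdjointUniq adj).app (𝟙_ X.Modules) ≪≫ ρ_ E'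

/-- Adjunction from an exact pairing. -/
noncomputable def adjOf (E E' : X.Modules) [ExactPairing E E'] : tensorLeft E ⊣ tensorLeft E' :=
  letI := BraidedCategory.exactPairing_swap E E'
  tensorLeftAdjunction E' E

/-- Adjunction for a tensor product. -/
noncomputable def adjTensor {E E' F F' : X.Modules} (a : tensorLeft E ⊣ tensorLeft E') (b : tensorLeft F ⊣ tensorLeft F') :
    tensorLeft (E ⊗ F) ⊣ tensorLeft (F' ⊗ E') :=
  ((b.comp a).ofNatIsoLeft (tensorLeftTensor E F).symm).ofNatIsoRight (tensorLeftTensor F' E').symm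

/-- Duals of isomorphic modules. -/
noncomputable def dIso {E F : X.Modules} (e : E ≅ F) : D E ≅ D F where
  hom := homMapLeft e.inv _
  inv := homMapLeft e.hom _
  hom_inv_id := by rw [homMapLeft_comp, e.hom_inv_id, homMapLeft_id]
  inv_hom_id := by rw [homMapLeft_comp, e.inv_hom_id, homMapLeft_id]

/-- The dual of a sum. -/
noncomputable def dBiprod (E F : X.Modules) : D (E ⊞ F) ≅ D E ⊞ D F where
  hom := biprod.lift (homMapLeft biprod.inl _) (homMapLeft biprod.inr _)
  inv := biprod.desc (homMapLeft biprod.fst _) (homMapLeft biprod.snd _)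
  hom_inv_id := by
    rw [biprod.lift_desc, homMapLeft_comp, homMapLeft_comp, ← homMapLeft_add, biprod.total, homMapLeft_id]
  inv_hom_id := by
    apply biprod.hom_ext <;> apply biprod.hom_ext'
    · simp [homMapLeft_comp, homMapLeft_id]
    · simp [homMapLeft_comp, homMapLeft_zero]
    · simp [homMapLeft_comp, homMapLeft_zero]
    · simp [homMapLeft_comp, homMapLeft_id]

/-- Duality on isomorphism classes. -/
noncomputable def d (x : IsoCl X.Modules) : IsoCl X.Modules :=
  Quotient.lift (s := isIsomorphicSetoid X.Modules) (fun E => cl (D E)) (fun _ _ h => cl_eq (dIso h.some)) x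

theorem d_cl (E : X.Modules) : d (cl E) = cl (D E) := rfl

theorem d_add (x y : IsoCl X.Modules) : d (x + y) = d x + d y := by
  induction x using ind with | _ E
  induction y using ind with | _ F
  rw [← cl_biprod, d_cl, d_cl, d_cl, cl_eq (dBiprod E F), cl_biprod]

theorem d_zero : d (0 : IsoCl X.Modules) = 0 := by
  rw [← cl_of_isZero (isZero_zero X.Modules), d_cl, cl_of_isZero (isZero_zero X.Modules), cl_eq_zero_iff, IsZero.iff_id_eq_zero]
  have h1 : 𝟙 (0 : X.Modules) = 0 := (isZero_zero X.Modules).eq_of_src _ _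
  rw [← homMapLeft_id, h1, homMapLeft_zero]

theorem d_nsmul (n : ℕ) (x : IsoCl X.Modules) : d (n • x) = n • d x := by
  induction n with
  | zero => rw [zero_smul, zero_smul, d_zero]
  | succ n ih => rw [succ_nsmul, succ_nsmul, d_add, ih]

theorem d_sum {ι : Type*} (s : Finset ι) (x : ι → IsoCl X.Modules) : d (∑ i ∈ s, x i) = ∑ i ∈ s, d (x i) := by
  classical
  induction s using Finset.induction_on with
  | empty => rw [Finset.sum_empty, Finset.sum_empty, d_zero]
  | insert a s ha ih => rw [Finset.sum_insert ha, Finset.sum_insert ha, d_add, ih]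

/-- Classes of finite locally free modules. -/
def VB (x : IsoCl X.Modules) : Prop := ∃ E : X.Modules, FlatMod.IsFinLocFree E ∧ cl E = x

theorem d_one : d (1 : IsoCl X.Modules) = 1 := by
  obtain ⟨E', ⟨p⟩⟩ := Dcoh.DualFLF.exists_exactPairing (X := X) Dcoh.ResFree.isFinLocFree_unit
  rw [← cl_unit, d_cl]
  apply cl_eq
  have e1 : tensorLeft (𝟙_ X.Modules) ⊣ tensorLeft (𝟙_ X.Modules) :=
    ((Adjunction.id.ofNatIsoLeft (leftUnitorNatIso X.Modules).symm).ofNatIsoRight (leftUnitorNatIso X.Modules).symm)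
  exact dOfAdj e1

theorem d_mul {x y : IsoCl X.Modules} (hx : VB x) (hy : VB y) : d (x * y) = d x * d y := by
  obtain ⟨E, hE, rfl⟩ := hx
  obtain ⟨F, hF, rfl⟩ := hy
  obtain ⟨E', ⟨p⟩⟩ := Dcoh.DualFLF.exists_exactPairing hE
  obtain ⟨F', ⟨q⟩⟩ := Dcoh.DualFLF.exists_exactPairing hF
  rw [← cl_tensor, d_cl, d_cl, d_cl, cl_eq (dOfAdj (adjTensor (adjOf E E') (adjOf F F'))), cl_tensor,
    cl_eq (dOfAdj (adjOf E E')), cl_eq (dOfAdj (adjOf F F')), mul_comm]

theorem vb_mul {x y : IsoCl X.Modules} (hx : VB x) (hy : VB y) : VB (x * y) := by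
  obtain ⟨E, hE, rfl⟩ := hx
  obtain ⟨F, hF, rfl⟩ := hy
  exact ⟨E ⊗ F, Sga67.LocBasis.isFinLocFree_tensorMod hE hF, rfl⟩

theorem vb_pow {x : IsoCl X.Modules} (hx : VB x) (n : ℕ) : VB (x ^ n) := by
  induction n with
  | zero => exact ⟨𝟙_ X.Modules, Dcoh.ResFree.isFinLocFree_unit, (pow_zero x).symm⟩
  | succ n ih => rw [pow_succ]; exact vb_mul ih hx

theorem d_pow {x : IsoCl X.Modules} (hx : VB x) (n : ℕ) : d (x ^ n) = d x ^ n := by
  induction n with
  | zero => rw [pow_zero, pow_zero, d_one]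
  | succ n ih => rw [pow_succ, pow_succ, d_mul (vb_pow hx n) hx, ih]

theorem d_eval {x : IsoCl X.Modules} (hx : VB x) (P : Polynomial ℕ) :
    d (P.eval₂ (Nat.castRingHom (IsoCl X.Modules)) x) = P.eval₂ (Nat.castRingHom (IsoCl X.Modules)) (d x) := by
  rw [eval₂_eq_sum_fin, eval₂_eq_sum_fin, d_sum]
  refine Finset.sum_congr rfl fun i _ => ?_
  rw [d_nsmul, d_pow hx]

theorem wf_d {x : IsoCl X.Modules} (hx : VB x) (h : WF x) : WF (d x) := by
  obtain ⟨P, Q, hPQ, he⟩ := h
  exact ⟨P, Q, hPQ, by rw [← d_eval hx, ← d_eval hx, he]⟩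

theorem dd {E E' : X.Modules} [ExactPairing E E'] : d (d (cl E)) = cl E ∧ d (cl E) = cl E' := by
  have h1 : d (cl E) = cl E' := by rw [d_cl, cl_eq (dOfAdj (adjOf E E'))]
  refine ⟨?_, h1⟩
  have := BraidedCategory.exactPairing_swap E E'
  rw [h1, d_cl, cl_eq (dOfAdj (adjOf E' E))]

/-- Weil-finiteness is invariant under duality. -/
theorem wf_iff {E : X.Modules} (hE : FlatMod.IsFinLocFree E) : WF (cl E) ↔ WF (cl (RefHull.dual E)) := by
  have h0 : cl (RefHull.dual E) = d (cl E) := by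
    rw [d_cl]
    exact cl_eq (HomShIso.homShIso E (Coh.structureModule X)).symm
  rw [h0]
  obtain ⟨E', ⟨p⟩⟩ := Dcoh.DualFLF.exists_exactPairing hE
  let := p
  obtain ⟨h1, h2⟩ := dd (E := E) (E' := E')
  have hE' : FlatMod.IsFinLocFree E' := Dcoh.DualFLF.isFinLocFree_dual hE E'
  constructor
  · exact fun h => wf_d ⟨E, hE, rfl⟩ h
  · intro h
    have h3 := wf_d (x := d (cl E)) ⟨E', hE', h2.symm⟩ h
    rwa [h1] at h3

end K706.WeilDual
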