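import Groth.Agent.VBCurve.K706.VStab
import Groth.Agent.VBCurve.K706.InvTens
import Groth.Agent.VBCurve.K707.TensL
import Groth.Agent.VBCurve.K708.PtTwist
import Groth.Agent.VBCurve.K704.Eval

/-!
# Twisting semistable modules by invertible modules, and a bound for global sections
-/

set_option autoImplicit false
set_option linter.unusedVariables false
set_option linter.unusedSectionVars false
universe u
open CategoryTheory CategoryTheory.Limits AlgebraicGeometry MonoidalCategory

namespace K706.Twist

open Groth.Agent K707.Base K707.Deg K707.Slope K707.Semi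
open Groth.Agent.VarietyA.DegRank
open scoped Groth.Agent.Dcoh.MonCat

variable {k : Type u} [Field k] {X : Scheme.{u}} [X.Over (Spec (CommRingCat.of k))]
  [IsIntegral X] [IsProper (X ↘ (Spec (CommRingCat.of k)))]

theorem dg_twist (C : Crv k X) {L M : X.Modules} (hL : PicF.IsInvertible L) (hM : Coh.IsCoh M) :
    dg k (CohB1.tensorMod M L) = dg k M + rk M * dg k L := by
  have := K707.TensL.dg_tensor k C.dim (K706.VStab.rank_one hL) hM
  simpa using this

theorem rk_twist (C : Crv k X) {L M : X.Modules} (hL : PicF.IsInvertible L) (hM : Coh.IsCoh M) :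
    rk (CohB1.tensorMod M L) = rk M := by
  have := isLocNoeth C
  simpa using K707.TensL.rk_tensor (K706.VStab.rank_one hL) hM

theorem vb_inv {X : Scheme.{u}} {L : X.Modules} (hL : PicF.IsInvertible L) : FlatMod.IsFinLocFree L :=
  isFinLocFree_of_rank (K706.VStab.rank_one hL)

theorem ss_twist (C : Crv k X) {L E : X.Modules} (hL : PicF.IsInvertible L) (hE : FlatMod.IsFinLocFree E)
    (h : SS k E) : SS k (CohB1.tensorMod E L) := by
  have hN := isLocNoeth C
  obtain ⟨N, hNi, ⟨e⟩, -, hd⟩ := K708.PtTwist.exists_inv C hL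
  intro F i hi hF
  have hm : Mono ((DCoh.tensorRightMod N).map i) := K706.VStab.mono_tensorRight hNi i
  have e' : (DCoh.tensorRightMod N).obj (CohB1.tensorMod E L) ≅ E :=
    (α_ E L N ≪≫ whiskerLeftIso E e ≪≫ ρ_ E)
  have hg : Mono ((DCoh.tensorRightMod N).map i ≫ e'.hom) := mono_comp _ _
  have h1 := h (CohB1.tensorMod F N) ((DCoh.tensorRightMod N).map i ≫ e'.hom) hg
    (K707.TensL.vb_tensor hF (vb_inv hNi))
  rw [dg_twist C hNi (coh_of_vb hF), rk_twist C hNi (coh_of_vb hF), hd] at h1
  rw [dg_twist C hL (coh_of_vb hE), rk_twist C hL (coh_of_vb hE)]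
  linarith

section

variable [IsAlgClosed k] [Smooth (X ↘ (Spec (CommRingCat.of k)))]

/-- A semistable module of degree `< n · rank` has at most `n · rank` independent sections. -/
theorem h0_le (C : Crv k X) (r n : ℕ) : ∀ (E : X.Modules), FlatMod.IsFinLocFreeOfRank r E → SS k E → dg k E < n * r →
    Module.finrank k (Coh.HH X E 0) ≤ n * r := by
  induction n with
  | zero =>
    intro E hE hss hd
    simp only [CharP.cast_eq_zero, zero_mul] at hd
    have h0 : Subsingleton (Coh.HH X E 0) := by
      rw [← K708.HomH0.forall_unit_hom_eq_zero_iff E]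
      intro f
      by_contra hf
      have hO : PicF.IsInvertible (Coh.structureModule X) := K707.TensL.rank_one_iff.mp K708.SSH0.rank_structureModule
      have h1 : Mono f := K706.VStab.mono_of_ne_zero C hO (isFinLocFree_of_rank hE) f hf
      have h2 := hss _ f h1 (vb_inv hO)
      rw [K708.SSH0.dg_structureModule, K708.SSH0.rk_structureModule, zero_mul] at h2
      simp at h2
      omega
    rw [Module.finrank_zero_of_subsingleton]
    simp
  | succ n ih =>
    intro E hE hss hd
    have hN := isLocNoeth C
    obtain ⟨p, hp⟩ := K708.PtTwist.exists_closedPoint k (X := X)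
    have hI := K704.Pt.isInvertible k X C.dim p hp
    have h1 := K704.Eval.finrank_le_Kp k C.dim hE p hp
    rw [K704.Eval.finrank_Kp k hE p hp, K704.HomK.finrank_hom] at h1
    have h2 := ss_twist C hI (isFinLocFree_of_rank hE) hss
    have hv := K707.TensL.vb_tensor (isFinLocFree_of_rank hE) (vb_inv hI)
    have hr : FlatMod.IsFinLocFreeOfRank r (CohB1.tensorMod E (ClSub.idealMod (Dix.PointIdeal.pt p hp))) := by
      have := isFinLocFreeOfRank_rk hv
      rwa [rk_twist C hI (isCoh_of_rank hE), rk_of_rank hE] at this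
    have h3 := dg_add k _ (K704.Pt.sq_shortExact hE (Dix.PointIdeal.pt p hp)) (coh_of_vb hv) (isCoh_of_rank hE)
      (K704.Pt.coh_tens_quot k X p hp hE)
    have h4 := K704.Pt.dg_tens_quot k X C.dim p hp hE
    have h5 : dg k E = dg k (CohB1.tensorMod E (ClSub.idealMod (Dix.PointIdeal.pt p hp))) + r := h3.trans (by rw [← h4]; rfl)
    have h6 := ih _ hr h2 (by push_cast at hd; linarith)
    linarith

end

end K706.Twist
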