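import Groth.Agent.VBCurve.K706.DimOne
import Groth.Agent.Models.H73.SmoothCount

/-!
# Semistability in dimension one and connected components
-/

set_option autoImplicit false
set_option linter.unusedVariables false
set_option linter.unusedSectionVars false
universe u
open CategoryTheory CategoryTheory.Limits AlgebraicGeometry

namespace K706.CompSS

open Groth.Agent Scheme.Modules K706.Clopen K706.DimOne

variable {k : Type u} [Field k] {Y : Scheme.{u}} [Y.Over (Spec (CommRingCat.of k))]
  [IsProper (Y ↘ Spec (CommRingCat.of k))] {L : Y.Modules} (H : Pol Y L)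

theorem shortExact_zero {M : Y.Modules} (h : IsZero M) : (ShortComplex.mk (𝟙 M) (𝟙 M) (h.eq_of_src _ _)).ShortExact :=
  ShortComplex.ShortExact.mk' (ShortComplex.exact_of_isZero_X₂ _ h) inferInstance inferInstance

theorem c_zero {M : Y.Modules} (hM : Coh.IsCoh M) (h : IsZero M) : c k M = 0 := by
  have := c_add k (shortExact_zero h) hM hM hM
  dsimp only at this
  omega

theorem a_zero (hL : PicF.IsInvertible L) {M : Y.Modules} (hM : Coh.IsCoh M) (h : IsZero M) : a k L M = 0 := by
  have := a_add k hL (shortExact_zero h) hM hM hM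
  dsimp only at this
  omega

include H

/-- The parts of a semistable module. -/
theorem part_of_ss {U V : Y.Opens} (h : U ⊓ V = ⊥) (h' : U ⊔ V = ⊤) {E : Y.Modules}
    (hE : ShStab.IsSemistable k Y L E 1) (h0 : ¬ IsZero (part U E)) :
    ShStab.IsSemistable k Y L (part U E) 1 ∧ c k (part U E) * a k L E = c k E * a k L (part U E) := by
  have := K707.Deg.isNoetherian k (X := Y)
  rw [ss_iff H] at hE ⊢
  obtain ⟨hc, hz, hE⟩ := hE
  have g : V ⊓ U = ⊥ := by rwa [inf_comm]
  have g' : V ⊔ U = ⊤ := by rwa [sup_comm]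
  have cU := isCoh_part h h' hc
  have cV := isCoh_part g g' hc
  have hm := mono_inc h h' E
  have hm' := mono_inc g g' E
  have e1 := c_add k (sq_shortExact h h' E) cU hc cV
  have e2 := a_add k H.amp.1 (sq_shortExact h h' E) cU hc cV
  change c k E = c k (part U E) + c k (part V E) at e1
  change a k L E = a k L (part U E) + a k L (part V E) at e2
  have h1 := (hE _ (inc h h' E) hm cU h0).2
  have h2 : a k L E * c k (part V E) ≤ a k L (part V E) * c k E := by
    by_cases hV : IsZero (part V E)
    · rw [c_zero cV hV, a_zero H.amp.1 cV hV]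
      simp
    · exact (hE _ (inc g g' E) hm' cV hV).2
  have h3 : 0 < a k L E := (hE E (𝟙 E) inferInstance hc hz).1
  have h4 : c k (part U E) * a k L E = c k E * a k L (part U E) := by
    have h5 := congrArg (fun z => a k L E * z) e1
    have h6 := congrArg (fun z => z * c k E) e2
    simp only [mul_add, add_mul] at h5 h6
    rw [mul_comm (c k (part U E)), mul_comm (c k E)]
    linarith
  refine ⟨⟨cU, h0, fun F i hi hF hF0 => ?_⟩, h4⟩
  obtain ⟨h5, h6⟩ := hE F (i ≫ inc h h' E) (mono_comp _ _) hF hF0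
  refine ⟨h5, ?_⟩
  have h7 := a_nonneg H cU (k := k)
  have h8 : a k L E * (a k L (part U E) * c k F) ≤ a k L E * (a k L F * c k (part U E)) := by
    have : a k L (part U E) * (a k L E * c k F) ≤ a k L (part U E) * (a k L F * c k E) :=
      mul_le_mul_of_nonneg_left h6 h7
    nlinarith
  exact le_of_mul_le_mul_left h8 h3

/-- A module whose parts are semistable with the same slope. -/
theorem ss_of_parts {ι : Type*} [Fintype ι] {W : ι → Y.Opens} (disj : ∀ i j, i ≠ j → W i ⊓ W j = ⊥)
    (cov : ∀ x, ∃ i, x ∈ W i) {E : Y.Modules} (hc : Coh.IsCoh E) (h0 : ¬ IsZero E)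
    (h : ∀ i, ¬ IsZero (part (W i) E) → ShStab.IsSemistable k Y L (part (W i) E) 1 ∧
      c k (part (W i) E) * a k L E = c k E * a k L (part (W i) E)) :
    ShStab.IsSemistable k Y L E 1 := by
  have := K707.Deg.isNoetherian k (X := Y)
  rw [ss_iff H]
  have hcoh : ∀ (i : ι) {M : Y.Modules}, Coh.IsCoh M → Coh.IsCoh (part (W i) M) := fun i M hM =>
    isCoh_part (inf_compl disj i) (sup_compl cov i) hM
  have sc : ∀ M : Y.Modules, Coh.IsCoh M → c k M = ∑ i, c k (part (W i) M) := fun M hM =>
    sum_parts disj cov (c k) (fun S hS h₁ h₂ h₃ => c_add k hS h₁ h₂ h₃) (fun M N e => c_iso k e) hM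
  have sa : ∀ M : Y.Modules, Coh.IsCoh M → a k L M = ∑ i, a k L (part (W i) M) := fun M hM =>
    sum_parts disj cov (a k L) (fun S hS h₁ h₂ h₃ => a_add k H.amp.1 hS h₁ h₂ h₃) (fun M N e => a_iso k e) hM
  refine ⟨hc, h0, fun F i hi hF hF0 => ?_⟩
  -- the parts
  have hpart : ∀ j, 0 ≤ a k L (part (W j) F) ∧
      a k L E * c k (part (W j) F) ≤ a k L (part (W j) F) * c k E ∧
      (¬ IsZero (part (W j) F) → 0 < a k L (part (W j) F)) := by
    intro j
    have hm : Mono (pm (W j) i) := by
      have h1 : Mono ((restrictFunctor (W j).ι).map i) := inferInstance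
      exact inferInstanceAs (Mono ((pushforward (W j).ι).map ((restrictFunctor (W j).ι).map i)))
    have cF := hcoh j hF
    by_cases hz : IsZero (part (W j) F)
    · rw [a_zero H.amp.1 cF hz, c_zero cF hz]
      simp [hz]
    · have hE0 : ¬ IsZero (part (W j) E) := fun h => hz (IsZero.of_mono (pm (W j) i) h)
      obtain ⟨h1, h2⟩ := h j hE0
      obtain ⟨h3, h4, h5⟩ := (ss_iff H _).1 h1
      obtain ⟨h6, h7⟩ := h5 _ (pm (W j) i) hm cF hz
      refine ⟨h6.le, ?_, fun _ => h6⟩
      have h8 : 0 < a k L (part (W j) E) := (h5 _ (𝟙 _) inferInstance h3 h4).1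
      have h9 : 0 ≤ a k L E := a_nonneg H hc
      have h10 : a k L (part (W j) E) * (a k L E * c k (part (W j) F)) ≤
          a k L (part (W j) E) * (a k L (part (W j) F) * c k E) := by
        have : a k L E * (a k L (part (W j) E) * c k (part (W j) F)) ≤
          a k L E * (a k L (part (W j) F) * c k (part (W j) E)) := mul_le_mul_of_nonneg_left h7 h9
        nlinarith
      exact le_of_mul_le_mul_left h10 h8
  constructor
  · rw [sa F hF]
    obtain ⟨j, hj⟩ : ∃ j, ¬ IsZero (part (W j) F) := by
      by_contra hcon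
      push Not at hcon
      exact hF0 (isZero_of_parts W cov F hcon)
    exact Finset.sum_pos' (fun j _ => (hpart j).1) ⟨j, Finset.mem_univ _, (hpart j).2.2 hj⟩
  · rw [sc F hF, sa F hF, Finset.mul_sum, Finset.sum_mul]
    exact Finset.sum_le_sum fun j _ => (hpart j).2.1

end K706.CompSS

namespace K706.CompSS

open Groth.Agent Scheme.Modules K706.Clopen K706.DimOne TopologicalSpace

/-- The complement of a clopen. -/
def cpl {Y : Scheme.{u}} (U : Y.Opens) (h : IsClopen (U : Set Y)) : Y.Opens := ⟨(U : Set Y)ᶜ, h.1.isOpen_compl⟩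

theorem inf_cpl {Y : Scheme.{u}} (U : Y.Opens) (h : IsClopen (U : Set Y)) : U ⊓ cpl U h = ⊥ := by
  rw [eq_bot_iff]
  rintro x ⟨h1, h2⟩
  exact h2 h1

theorem sup_cpl {Y : Scheme.{u}} (U : Y.Opens) (h : IsClopen (U : Set Y)) : U ⊔ cpl U h = ⊤ := by
  rw [eq_top_iff]
  intro x _
  by_cases hx : x ∈ U
  · exact Or.inl hx
  · exact Or.inr hx

theorem coh_of_vb {Y : Scheme.{u}} {E : Y.Modules} (h : FlatMod.IsFinLocFree E) : Coh.IsCoh E :=
  PerfA.CohSerre.isCoh_of_isFinLocFree h

section

variable (Y : Scheme.{u}) [AlgebraicGeometry.IsNoetherian Y]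

/-- The connected components. -/
noncomputable abbrev W (c : ConnectedComponents Y) : Y.Opens := Sga5.CompDecomp.comp Y c

theorem W_coe (c : ConnectedComponents Y) (x : Y) (hx : ConnectedComponents.mk x = c) : (W Y c : Set Y) = connectedComponent x := by
  rw [← hx]
  exact connectedComponents_preimage_singleton

theorem W_clopen (c : ConnectedComponents Y) : IsClopen (W Y c : Set Y) := by
  obtain ⟨x, hx⟩ := ConnectedComponents.surjective_coe c
  refine ⟨?_, (W Y c).2⟩
  rw [W_coe Y c x hx]
  exact isClosed_connectedComponent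

theorem W_conn (c : ConnectedComponents Y) : _root_.IsConnected (W Y c : Set Y) := by
  obtain ⟨x, hx⟩ := ConnectedComponents.surjective_coe c
  rw [W_coe Y c x hx]
  exact isConnected_connectedComponent

theorem W_cov (x : Y) : ∃ c, x ∈ W Y c := ⟨ConnectedComponents.mk x, by
  change x ∈ (W Y (ConnectedComponents.mk x) : Set Y)
  rw [W_coe Y _ x rfl]
  exact mem_connectedComponent⟩

theorem W_disj (i j : ConnectedComponents Y) (h : i ≠ j) : W Y i ⊓ W Y j = ⊥ := by
  rw [eq_bot_iff]
  rintro x ⟨h1, h2⟩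
  have := Sga5.CompDecomp.disjoint_comp (X := Y) i j h
  exact Set.disjoint_left.1 this h1 h2

end

theorem main17 (k : Type u) [Field k] {Y : Scheme.{u}} [Y.Over (Spec (CommRingCat.of k))]
    [IsProper (Y ↘ Spec (CommRingCat.of k))] {L : Y.Modules} (H : Pol Y L) {E : Y.Modules} (hE : Coh.IsCoh E)
    (hE0 : ¬ IsZero E) :
    ShStab.IsSemistable k Y L E 1 ↔
      ∀ U : Y.Opens, IsClopen (U : Set Y) → _root_.IsConnected (U : Set Y) →
        ¬ IsZero (part U E) →
        ShStab.IsSemistable k Y L (part U E) 1 ∧ c k (part U E) * a k L E = c k E * a k L (part U E) := by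
  have := K707.Deg.isNoetherian k (X := Y)
  constructor
  · intro h U hU _ h0
    exact part_of_ss H (inf_cpl U hU) (sup_cpl U hU) h h0
  · intro h
    have := Models.H73.SmoothCount.finite_components Y
    have := Fintype.ofFinite (ConnectedComponents Y)
    exact ss_of_parts H (W_disj Y) (W_cov Y) hE hE0 fun c hc => h _ (W_clopen Y c) (W_conn Y c) hc

end K706.CompSS
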