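import Groth.Agent.VBCurve.K706.CompSS
import Groth.Agent.VBCurve.K706.TensSS
import Groth.Agent.CurvesC.DegIso
import Groth.Agent.PicF.K247.OpenClosed
import Groth.Agent.VarietyB.ProjForm
import Groth.Agent.PerfC.PcLocal
import Groth.Agent.S2297
import Groth.Agent.CohqA.FTStalk

/-!
# Bundles on a disjoint union of curves: numbers and semistability through the components

For `U` open and closed in `Y`: `c_push`, `a_push` (Euler characteristic and multiplicity of `j_* G`),
`ss_push_iff`: `j_* G` is semistable of dimension one iff `G` is slope semistable.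
-/

set_option autoImplicit false
set_option linter.unusedVariables false
set_option linter.unusedSectionVars false
universe u
open CategoryTheory CategoryTheory.Limits AlgebraicGeometry

namespace K706.CompTens

open Groth.Agent Scheme.Modules K706.Clopen K706.DimOne K706.CompSS K707.Base K707.Deg K707.Slope K707.Semi
open Groth.Agent.VarietyA.DegRank TopologicalSpace

theorem one_le_dim {Z : Scheme.{u}} [IsIntegral Z] {x : Z} (h : x ≠ genericPoint Z) : 1 ≤ topologicalKrullDim Z := by
  let a : IrreducibleCloseds Z := ⟨closure {x}, isIrreducible_singleton.closure, isClosed_closure⟩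
  let b : IrreducibleCloseds Z := ⟨Set.univ, (irreducibleSpace_def Z).mp inferInstance, isClosed_univ⟩
  refine Order.one_le_krullDim_iff.mpr ⟨a, b, ?_⟩
  refine lt_of_le_of_ne (fun y _ => Set.mem_univ y) fun hab => h ?_
  have h1 : closure ({x} : Set Z) = Set.univ := congrArg (fun z : IrreducibleCloseds Z => (z : Set Z)) hab
  have h2 : IsGenericPoint x Set.univ := h1
  exact h2.eq (genericPoint_spec Z)

variable {k : Type u} [Field k] {Y : Scheme.{u}} [Y.Over (Spec (CommRingCat.of k))]
  [IsProper (Y ↘ Spec (CommRingCat.of k))]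

section clopen

variable {U : Y.Opens} (hU : IsClopen (U : Set Y))

include hU

theorem c_push (G : (U : Scheme.{u}).Modules) : c k ((pushforward U.ι).obj G) = Curv2.euler k U G :=
  have := K247.OpenClosed.isClosedImmersion_of_clopen U hU.1
  CurvesC.DegIso.euler_push k U.ι rfl G

theorem a_push {L : Y.Modules} (hL : PicF.IsInvertible L) (G : (U : Scheme.{u}).Modules) :
    a k L ((pushforward U.ι).obj G) =
      Curv2.euler k U (CohB1.tensorMod G ((Scheme.Modules.pullback U.ι).obj L)) - Curv2.euler k U G := by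
  have hb : VarietyB.TensCoh.HasBases L := .of_isFinLocFree (K706.Twist.vb_inv hL)
  have e : CohB1.tensorMod ((pushforward U.ι).obj G) L ≅
      (pushforward U.ι).obj (CohB1.tensorMod G ((Scheme.Modules.pullback U.ι).obj L)) :=
    Ega2.Tens.swap _ _ ≪≫ VarietyB.ProjForm.projIso U.ι hb G ≪≫ (pushforward U.ι).mapIso (Ega2.Tens.swap _ _)
  have h1 := c_iso k e
  have h2 := c_push (k := k) hU (CohB1.tensorMod G ((Scheme.Modules.pullback U.ι).obj L))
  have h3 := c_push (k := k) hU G
  simp only [a]
  change c k _ - c k _ = _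
  rw [h1, h2, h3]

omit [Y.Over (Spec (CommRingCat.of k))] [IsProper (Y ↘ Spec (CommRingCat.of k))] in
theorem isCoh_push [IsLocallyNoetherian Y] {G : (U : Scheme.{u}).Modules} (hG : Coh.IsCoh G) : Coh.IsCoh ((pushforward U.ι).obj G) := by
  have := K247.OpenClosed.isClosedImmersion_of_clopen U hU.1
  exact Krr.H498.PushRes.isCoh_pushforward U.ι hG

theorem proper : IsProper ((U : Scheme.{u}) ↘ Spec (CommRingCat.of k)) := by
  have := K247.OpenClosed.isClosedImmersion_of_clopen U hU.1
  exact inferInstanceAs (IsProper (U.ι ≫ (Y ↘ Spec (CommRingCat.of k))))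

end clopen

theorem ss_of_iso {L : Y.Modules} (H : Pol Y L) {M N : Y.Modules} (e : M ≅ N)
    (h : ShStab.IsSemistable k Y L M 1) : ShStab.IsSemistable k Y L N 1 := by
  have hNY := K707.Deg.isNoetherian k (X := Y)
  rw [ss_iff H] at h ⊢
  obtain ⟨h1, h2, h3⟩ := h
  refine ⟨Sga67.CohBasic.isCoh_of_iso e h1, fun hz => h2 (hz.of_iso e), fun F i hi hF hF0 => ?_⟩
  have h4 := h3 F (i ≫ e.inv) (mono_comp _ _) hF hF0
  rwa [c_iso k e, a_iso k e] at h4

section curve

variable {U : Y.Opens} (hU : IsClopen (U : Set Y)) [IsIntegral (U : Scheme.{u})]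
  [IsProper ((U : Scheme.{u}) ↘ Spec (CommRingCat.of k))] (C : Crv k (U : Scheme.{u}))

include hU

/-- The Euler characteristic of `j_* G`. -/
theorem c_push' (G : (U : Scheme.{u}).Modules) : c k ((pushforward U.ι).obj G) =
    dg k G + rk G * Curv2.euler k U (Coh.structureModule U) := by
  rw [c_push hU, dg]
  ring

include C in
/-- The multiplicity of `j_* G`. -/
theorem a_push' {L : Y.Modules} (hL : PicF.IsInvertible L) {G : (U : Scheme.{u}).Modules} (hG : Coh.IsCoh G) :
    a k L ((pushforward U.ι).obj G) = rk G * dg k ((Scheme.Modules.pullback U.ι).obj L) := by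
  have hjL := Fdesc.LocGen.isInvertible_pullback U.ι hL
  have h1 := K706.Twist.dg_twist C hjL hG
  have h2 := K706.Twist.rk_twist C hjL hG
  rw [a_push hU hL, ← h2]
  rw [dg, dg, h2] at h1
  rw [h2]
  linarith

/-- A submodule of `j_* G` is supported on `U`. -/
theorem isIso_eta {G : (U : Scheme.{u}).Modules} {F : Y.Modules} (i : F ⟶ (pushforward U.ι).obj G) [Mono i] :
    IsIso (eta U F) := by
  have h1 := inf_cpl U hU
  have h2 := sup_cpl U hU
  have g1 : cpl U hU ⊓ U = ⊥ := by rwa [inf_comm]
  have g2 : cpl U hU ⊔ U = ⊤ := by rwa [sup_comm]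
  have hm : Mono (pm (cpl U hU) i) := by
    have h1 : Mono ((restrictFunctor (cpl U hU).ι).map i) := inferInstance
    exact inferInstanceAs (Mono ((pushforward (cpl U hU).ι).map ((restrictFunctor (cpl U hU).ι).map i)))
  have hz : IsZero (part (cpl U hU) F) :=
    IsZero.of_mono (pm (cpl U hU) i) ((pushforward (cpl U hU).ι).map_isZero (isZero_restrict_push U h1 _))
  have he := epi_eta h1 h2 F
  have hs := sq_shortExact g1 g2 F
  have hinc : inc g1 g2 F = 0 := hz.eq_of_src _ _
  have hm2 : Mono (eta U F) := hs.exact.mono_g hinc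
  exact isIso_of_mono_of_epi _

include C in
theorem ss_push_iff {L : Y.Modules} (H : Pol Y L) (hd : 0 < dg k ((Scheme.Modules.pullback U.ι).obj L))
    {G : (U : Scheme.{u}).Modules} (hG : FlatMod.IsFinLocFree G) (h0 : 0 < rk G) :
    ShStab.IsSemistable k Y L ((pushforward U.ι).obj G) 1 ↔ SS k G := by
  have hNY := K707.Deg.isNoetherian k (X := Y)
  have hNU := isLocNoeth C
  rw [ss_iff H]
  have cG := CompSS.coh_of_vb hG
  have aG := a_push' hU C H.amp.1 cG
  have eG := c_push' (k := k) hU G
  have hG0 : ¬ IsZero G := fun h => by rw [rk_of_isZero h] at h0; exact lt_irrefl _ h0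
  have zero_iff : ∀ G' : (U : Scheme.{u}).Modules, IsZero ((pushforward U.ι).obj G') → IsZero G' := by
    intro G' h
    exact ((restrictFunctor U.ι).map_isZero h).of_iso (asIso ((restrictAdjunction U.ι).counit.app G')).symm
  have h0' : (0 : ℤ) < rk G := by exact_mod_cast h0
  constructor
  · rintro ⟨-, -, h3⟩ G' i hi hG'
    rcases Nat.eq_zero_or_pos (rk G') with h4 | h4
    · rw [h4, dg_of_vb_of_rk_eq_zero C hG' h4]; simp
    have cG' := CompSS.coh_of_vb hG'
    have hz : ¬ IsZero ((pushforward U.ι).obj G') := fun h => by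
      rw [rk_of_isZero (zero_iff _ h)] at h4; exact lt_irrefl _ h4
    have h5 := (h3 _ ((pushforward U.ι).map i) inferInstance (isCoh_push hU cG') hz).2
    rw [aG, eG, a_push' hU C H.amp.1 cG', c_push' (k := k) hU G'] at h5
    have h6 : dg k ((Scheme.Modules.pullback U.ι).obj L) * (dg k G' * rk G) ≤
        dg k ((Scheme.Modules.pullback U.ι).obj L) * (dg k G * rk G') := by nlinarith
    exact le_of_mul_le_mul_left h6 hd
  · intro h
    refine ⟨isCoh_push hU cG, fun hz => hG0 (zero_iff _ hz), fun F i hi hF hF0 => ?_⟩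
    have hiso := isIso_eta hU i
    let e : F ≅ (pushforward U.ι).obj (F.restrict U.ι) := asIso (eta U F)
    let j : F.restrict U.ι ⟶ G := (restrictFunctor U.ι).map i ≫ (restrictAdjunction U.ι).counit.app G
    have hj1 : Mono ((restrictFunctor U.ι).map i) := inferInstance
    have hj : Mono j := mono_comp _ _
    have cF : Coh.IsCoh (F.restrict U.ι) := PerfA.CohSerre.isCoh_restrict U.ι hF
    have vF := vb_of_mono C j cF hG
    have rF : 0 < rk (F.restrict U.ι) := by
      rcases Nat.eq_zero_or_pos (rk (F.restrict U.ι)) with h4 | h4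
      · exact absurd (((pushforward U.ι).map_isZero (isZero_of_rk_eq_zero C vF h4)).of_iso e) hF0
      · exact h4
    have rF' : (0 : ℤ) < rk (F.restrict U.ι) := by exact_mod_cast rF
    rw [c_iso k e, a_iso k e, aG, eG, a_push' hU C H.amp.1 cF, c_push' (k := k) hU (F.restrict U.ι)]
    refine ⟨mul_pos rF' hd, ?_⟩
    have h5 := h _ j hj vF
    have h6 : dg k ((Scheme.Modules.pullback U.ι).obj L) * (dg k (F.restrict U.ι) * rk G) ≤
        dg k ((Scheme.Modules.pullback U.ι).obj L) * (dg k G * rk (F.restrict U.ι)) := mul_le_mul_of_nonneg_left h5 hd.le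
    nlinarith

end curve

section tens

variable {U : Y.Opens}

omit [Y.Over (Spec (CommRingCat.of k))] [IsProper (Y ↘ Spec (CommRingCat.of k))] in
/-- Restriction of a tensor product. -/
theorem restrict_tensor (E F : Y.Modules) : Nonempty ((CohB1.tensorMod E F).restrict U.ι ≅
    CohB1.tensorMod (E.restrict U.ι) (F.restrict U.ι)) := by
  let r : ∀ M : Y.Modules, M.restrict U.ι ≅ (Scheme.Modules.pullback U.ι).obj M := fun M =>
    (Scheme.Modules.restrictFunctorIsoPullback U.ι).app M
  exact ⟨r _ ≪≫ (K706.TensSS.pullTens U.ι E F).symm ≪≫ Ega2.Tens.mapTIso (r E).symm (r F).symm⟩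

end tens

section main

variable [IsAlgClosed k] [Smooth (Y ↘ Spec (CommRingCat.of k))] [AlgebraicGeometry.IsNoetherian Y]

include k in
omit [IsProper (Y ↘ Spec (CommRingCat.of k))] in
theorem isIntegral_W (hdim : topologicalKrullDim Y = 1) (c : ConnectedComponents Y) :
    IsIntegral (W Y c : Scheme.{u}) :=
  Sga5.CompDecomp.isIntegral_comp
    (Models.H73.SmoothCount.isDomain_stalk (Y ↘ Spec (CommRingCat.of k)) hdim.le) c

theorem crv_W (hdim : topologicalKrullDim Y = 1) (hpure : ∀ y : Y, ¬ IsOpen ({y} : Set Y))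
    (c : ConnectedComponents Y) [IsIntegral (W Y c : Scheme.{u})] : Crv k (W Y c : Scheme.{u}) := by
  have hs : Smooth ((W Y c : Scheme.{u}) ↘ Spec (CommRingCat.of k)) :=
    inferInstanceAs (Smooth ((W Y c).ι ≫ (Y ↘ Spec (CommRingCat.of k))))
  refine Crv.of_smooth (le_antisymm ?_ ?_)
  · exact (Topology.IsInducing.subtypeVal.topologicalKrullDim_le).trans hdim.le
  · obtain ⟨x, hx⟩ : ∃ x : (W Y c : Scheme.{u}), x ≠ genericPoint (W Y c : Scheme.{u}) := by
      by_contra hcon
      push Not at hcon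
      refine hpure ((W Y c).ι (genericPoint (W Y c : Scheme.{u}))) ?_
      have h1 : ({(W Y c).ι (genericPoint (W Y c : Scheme.{u}))} : Set Y) = (W Y c : Set Y) := by
        ext y
        constructor
        · rintro rfl
          exact (genericPoint (W Y c : Scheme.{u})).2
        · intro hy
          exact congrArg (W Y c).ι (hcon ⟨y, hy⟩)
      rw [h1]
      exact (W Y c).2
    exact one_le_dim hx

theorem isZero_restrict_of_part {U : Y.Opens} {E : Y.Modules} (h : IsZero (part U E)) : IsZero (E.restrict U.ι) :=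
  ((restrictFunctor U.ι).map_isZero h).of_iso (asIso ((restrictAdjunction U.ι).counit.app (E.restrict U.ι))).symm

/-- The data of a semistable bundle of full support on a component. -/
theorem comp_data {L : Y.Modules} (H : Pol Y L) (hpure : ∀ y : Y, ¬ IsOpen ({y} : Set Y)) {E : Y.Modules}
    (hE : FlatMod.IsFinLocFree E) (hE0 : ∀ y : Y, ¬ Subsingleton (E.presheaf.stalk y))
    (hEs : ShStab.IsSemistable k Y L E 1) (i : ConnectedComponents Y) [IsIntegral (W Y i : Scheme.{u})]
    [IsProper ((W Y i : Scheme.{u}) ↘ Spec (CommRingCat.of k))] :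
    0 < rk (E.restrict (W Y i).ι) ∧ 0 < dg k ((Scheme.Modules.pullback (W Y i).ι).obj L) ∧
      SS k (E.restrict (W Y i).ι) ∧ 0 < a k L E ∧
      c k (part (W Y i) E) * a k L E = c k E * a k L (part (W Y i) E) := by
  have hU := W_clopen Y i
  have C := crv_W (k := k) H.dim hpure i
  have vE : FlatMod.IsFinLocFree (E.restrict (W Y i).ι) := PerfC.PcLocal.isFinLocFree_restrict _ hE
  have cE := CompSS.coh_of_vb vE
  have h1 : 0 < rk (E.restrict (W Y i).ι) := by
    rcases Nat.eq_zero_or_pos (rk (E.restrict (W Y i).ι)) with h | h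
    · exfalso
      have h2 := isZero_of_rk_eq_zero C vE h
      rw [VarietyB.ExactLoc.isZero_iff_stalk] at h2
      have h3 := h2 (genericPoint (W Y i : Scheme.{u}))
      rw [CohqA.FTStalk.subsingleton_stalk_restrict_iff] at h3
      exact hE0 _ h3
    · exact h
  have hz : ¬ IsZero (part (W Y i) E) := fun h => by
    rw [rk_of_isZero (isZero_restrict_of_part h)] at h1
    exact lt_irrefl _ h1
  obtain ⟨h2, h3⟩ := part_of_ss H (inf_cpl _ hU) (sup_cpl _ hU) hEs hz
  obtain ⟨c1, n1, h4⟩ := (ss_iff H _).1 h2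
  obtain ⟨c2, n2, h5⟩ := (ss_iff H _).1 hEs
  have h6 : 0 < a k L (part (W Y i) E) := (h4 _ (𝟙 _) inferInstance c1 n1).1
  rw [a_push' hU C H.amp.1 cE] at h6
  have h7 : 0 < dg k ((Scheme.Modules.pullback (W Y i).ι).obj L) := by
    have : (0 : ℤ) < rk (E.restrict (W Y i).ι) := by exact_mod_cast h1
    exact (mul_pos_iff_of_pos_left this).1 h6
  exact ⟨h1, h7, (ss_push_iff hU C H h7 vE h1).1 h2, (h5 _ (𝟙 _) inferInstance c2 n2).1, h3⟩

theorem arith (x y a b s t χ d o e : ℚ) (ha : 0 < a) (hb : 0 < b) (ho : 0 < o) (hd : 0 < d)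
    (r q : ℚ) (hr : 0 < r) (hq : 0 < q) (h1 : (x + r * χ) * a = s * (r * d)) (h2 : (y + q * χ) * b = t * (q * d))
    (h3 : χ * o = e * d) : q * x + r * y + q * r * χ = (s / a + t / b - e / o) * (q * r * d) := by
  have e1 : x + r * χ = s / a * (r * d) := by field_simp; linarith
  have e2 : y + q * χ = t / b * (q * d) := by field_simp; linarith
  have e3 : χ = e / o * d := by field_simp; linarith
  have e4 : q * (x + r * χ) + r * (y + q * χ) - q * r * χ = q * (s / a * (r * d)) + r * (t / b * (q * d)) -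
    q * r * (e / o * d) := by rw [e1, e2, ← e3]
  linarith

variable [CharZero k]

theorem tensor_comp {L : Y.Modules} (H : Pol Y L) (hpure : ∀ y : Y, ¬ IsOpen ({y} : Set Y))
    (hB : ∀ U : Y.Opens, IsClopen (U : Set Y) → _root_.IsConnected (U : Set Y) →
      c k (part U (Coh.structureModule Y)) * (c k L - c k (Coh.structureModule Y)) =
        c k (Coh.structureModule Y) * (c k (part U L) - c k (part U (Coh.structureModule Y))))
    {E F : Y.Modules}
    (hE : FlatMod.IsFinLocFree E) (hE0 : ∀ y : Y, ¬ Subsingleton (E.presheaf.stalk y))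
    (hEs : ShStab.IsSemistable k Y L E 1)
    (hF : FlatMod.IsFinLocFree F) (hF0 : ∀ y : Y, ¬ Subsingleton (F.presheaf.stalk y))
    (hFs : ShStab.IsSemistable k Y L F 1) (hO : 0 < c k L - c k (Coh.structureModule Y))
    (i : ConnectedComponents Y) :
    ShStab.IsSemistable k Y L (part (W Y i) (CohB1.tensorMod E F)) 1 ∧
      0 < a k L (part (W Y i) (CohB1.tensorMod E F)) ∧
      (c k (part (W Y i) (CohB1.tensorMod E F)) : ℚ) =
        ((c k E : ℚ) / a k L E + (c k F : ℚ) / a k L F -
          (c k (Coh.structureModule Y) : ℚ) / ((c k L - c k (Coh.structureModule Y) : ℤ) : ℚ)) *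
          a k L (part (W Y i) (CohB1.tensorMod E F)) := by
  have hU := W_clopen Y i
  have := isIntegral_W (k := k) H.dim i
  have := proper (k := k) hU
  have C := crv_W (k := k) H.dim hpure i
  have hNU := isLocNoeth C
  obtain ⟨rE, hd, sE, aE, eE⟩ := comp_data H hpure hE hE0 hEs i
  obtain ⟨rF, -, sF, aF, eF⟩ := comp_data H hpure hF hF0 hFs i
  have vE : FlatMod.IsFinLocFree (E.restrict (W Y i).ι) := PerfC.PcLocal.isFinLocFree_restrict _ hE
  have vF : FlatMod.IsFinLocFree (F.restrict (W Y i).ι) := PerfC.PcLocal.isFinLocFree_restrict _ hF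
  have cE := CompSS.coh_of_vb vE
  have cF := CompSS.coh_of_vb vF
  have hL' := Fdesc.LocGen.isInvertible_pullback (W Y i).ι H.amp.1
  have vT := K707.TensL.vb_tensor vE vF
  have cT := CompSS.coh_of_vb vT
  have sT := K706.TensSS.ss_tensor' C vE vF sE sF
  have rT := K707.TensL.rk_tensor (isFinLocFreeOfRank_rk vF) cE
  have dT := K707.TensL.dg_tensor k C.dim (isFinLocFreeOfRank_rk vF) cE
  obtain ⟨e⟩ := restrict_tensor (U := W Y i) E F
  let e' : part (W Y i) (CohB1.tensorMod E F) ≅ (pushforward (W Y i).ι).obj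
    (CohB1.tensorMod (E.restrict (W Y i).ι) (F.restrict (W Y i).ι)) := (pushforward (W Y i).ι).mapIso e
  have rT0 : 0 < rk (CohB1.tensorMod (E.restrict (W Y i).ι) (F.restrict (W Y i).ι)) := by
    rw [rT]; exact Nat.mul_pos rF rE
  have h1 := (ss_push_iff hU C H hd vT rT0).2 sT
  -- the structure sheaf
  obtain ⟨eO⟩ := Ega3B.PullTensor.nonempty_pullUnitIso (W Y i).ι
  have eO' : (Coh.structureModule Y).restrict (W Y i).ι ≅ Coh.structureModule (W Y i : Scheme.{u}) :=
    (Scheme.Modules.restrictFunctorIsoPullback (W Y i).ι).app _ ≪≫ eO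
  have hχ : c k (part (W Y i) (Coh.structureModule Y)) = Curv2.euler k (W Y i : Scheme.{u}) (Coh.structureModule _) := by
    rw [c_push hU]
    exact VarietyA.DegRank.euler_iso k eO'
  have hχL : c k (part (W Y i) L) = dg k ((Scheme.Modules.pullback (W Y i).ι).obj L) +
      Curv2.euler k (W Y i : Scheme.{u}) (Coh.structureModule _) := by
    rw [c_push hU, VarietyA.DegRank.euler_iso k ((Scheme.Modules.restrictFunctorIsoPullback (W Y i).ι).app L), dg,
      K708.PtTwist.rk_inv hL']
    push_cast
    ring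
  have h2 := hB _ hU (W_conn Y i)
  rw [hχL, hχ] at h2
  rw [a_push' hU C H.amp.1 cE, c_push' (k := k) hU] at eE
  rw [a_push' hU C H.amp.1 cF, c_push' (k := k) hU] at eF
  refine ⟨ss_of_iso H e'.symm h1, ?_, ?_⟩
  · rw [a_iso k e', a_push' hU C H.amp.1 cT]
    exact mul_pos (by exact_mod_cast rT0) hd
  · rw [c_iso k e', a_iso k e', a_push' hU C H.amp.1 cT, c_push' (k := k) hU, rT, dT]
    push_cast
    refine arith _ _ _ _ _ _ _ _ _ _ (by exact_mod_cast aE) (by exact_mod_cast aF) (by exact_mod_cast hO)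
      (by exact_mod_cast hd) _ _ (by exact_mod_cast rE) (by exact_mod_cast rF) (by exact_mod_cast eE)
      (by exact_mod_cast eF) ?_
    have h3 : Curv2.euler k (W Y i : Scheme.{u}) (Coh.structureModule _) * (c k L - c k (Coh.structureModule Y)) =
      c k (Coh.structureModule Y) * dg k ((Scheme.Modules.pullback (W Y i).ι).obj L) := by
      rw [h2]; ring
    exact_mod_cast h3

theorem comp_pos {L : Y.Modules} (H : Pol Y L) (hpure : ∀ y : Y, ¬ IsOpen ({y} : Set Y)) {E : Y.Modules}
    (hE : FlatMod.IsFinLocFree E) (hE0 : ∀ y : Y, ¬ Subsingleton (E.presheaf.stalk y))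
    (hEs : ShStab.IsSemistable k Y L E 1) : 0 < c k L - c k (Coh.structureModule Y) := by
  have := Models.H73.SmoothCount.finite_components Y
  have := Fintype.ofFinite (ConnectedComponents Y)
  have hO : Coh.IsCoh (Coh.structureModule Y) := CurvesB.UnitCoh.isCoh_structureModule Y
  have hLc : Coh.IsCoh L := S2329.isCoh_of_isInvertible H.amp.1
  have sc : ∀ M : Y.Modules, Coh.IsCoh M → c k M = ∑ i, c k (part (W Y i) M) := fun M hM =>
    sum_parts (W_disj Y) (W_cov Y) (c k) (fun S hS h₁ h₂ h₃ => c_add k hS h₁ h₂ h₃) (fun M N e => c_iso k e) hM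
  rw [sc L hLc, sc _ hO, ← Finset.sum_sub_distrib]
  have hne : Nonempty Y := by
    by_contra hcon
    rw [not_nonempty_iff] at hcon
    have h1 := H.dim
    rw [topologicalKrullDim, Order.krullDim_eq_bot_iff.2 ⟨fun z => hcon.elim z.isIrreducible'.1.some⟩] at h1
    exact absurd h1 (by simp)
  refine Finset.sum_pos (fun i _ => ?_) ⟨ConnectedComponents.mk hne.some, Finset.mem_univ _⟩
  have hU := W_clopen Y i
  have := isIntegral_W (k := k) H.dim i
  have := proper (k := k) hU
  obtain ⟨-, hd, -, -, -⟩ := comp_data H hpure hE hE0 hEs i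
  have hL' := Fdesc.LocGen.isInvertible_pullback (W Y i).ι H.amp.1
  obtain ⟨eO⟩ := Ega3B.PullTensor.nonempty_pullUnitIso (W Y i).ι
  have eO' : (Coh.structureModule Y).restrict (W Y i).ι ≅ Coh.structureModule (W Y i : Scheme.{u}) :=
    (Scheme.Modules.restrictFunctorIsoPullback (W Y i).ι).app _ ≪≫ eO
  have hχ : c k (part (W Y i) (Coh.structureModule Y)) = Curv2.euler k (W Y i : Scheme.{u}) (Coh.structureModule _) := by
    rw [c_push hU]
    exact VarietyA.DegRank.euler_iso k eO'
  have hχL : c k (part (W Y i) L) = dg k ((Scheme.Modules.pullback (W Y i).ι).obj L) +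
      Curv2.euler k (W Y i : Scheme.{u}) (Coh.structureModule _) := by
    rw [c_push hU, VarietyA.DegRank.euler_iso k ((Scheme.Modules.restrictFunctorIsoPullback (W Y i).ι).app L), dg,
      K708.PtTwist.rk_inv hL']
    push_cast
    ring
  rw [hχ, hχL]
  linarith

/-- **Tensor products of semistable bundles on possibly disconnected polarized curves with vanishing
correction terms.** -/
theorem main {L : Y.Modules} (H : Pol Y L) (hpure : ∀ y : Y, ¬ IsOpen ({y} : Set Y))
    (hB : ∀ U : Y.Opens, IsClopen (U : Set Y) → _root_.IsConnected (U : Set Y) →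
      c k (part U (Coh.structureModule Y)) * (c k L - c k (Coh.structureModule Y)) =
        c k (Coh.structureModule Y) * (c k (part U L) - c k (part U (Coh.structureModule Y))))
    {E F : Y.Modules}
    (hE : FlatMod.IsFinLocFree E) (hE0 : ∀ y : Y, ¬ Subsingleton (E.presheaf.stalk y))
    (hEs : ShStab.IsSemistable k Y L E 1)
    (hF : FlatMod.IsFinLocFree F) (hF0 : ∀ y : Y, ¬ Subsingleton (F.presheaf.stalk y))
    (hFs : ShStab.IsSemistable k Y L F 1) :
    ShStab.IsSemistable k Y L (CohB1.tensorMod E F) 1 ∧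
      (c k (CohB1.tensorMod E F) : ℚ) / a k L (CohB1.tensorMod E F) =
        (c k E : ℚ) / a k L E + (c k F : ℚ) / a k L F -
          (c k (Coh.structureModule Y) : ℚ) / ((c k L - c k (Coh.structureModule Y) : ℤ) : ℚ) := by
  have := Models.H73.SmoothCount.finite_components Y
  have := Fintype.ofFinite (ConnectedComponents Y)
  have hO := comp_pos H hpure hE hE0 hEs
  have key := fun i => tensor_comp H hpure hB hE hE0 hEs hF hF0 hFs hO i
  set σ : ℚ := (c k E : ℚ) / a k L E + (c k F : ℚ) / a k L F -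
          (c k (Coh.structureModule Y) : ℚ) / ((c k L - c k (Coh.structureModule Y) : ℤ) : ℚ) with hσ
  have hbE : VarietyB.TensCoh.HasBases E := .of_isFinLocFree hE
  have cT : Coh.IsCoh (CohB1.tensorMod E F) := by
    haveI := (CompSS.coh_of_vb hE).1
    haveI := (CompSS.coh_of_vb hF).1
    exact ⟨(S2297.result E F).1, (S2297.result E F).2 (CompSS.coh_of_vb hE).2 (CompSS.coh_of_vb hF).2⟩
  have sc : c k (CohB1.tensorMod E F) = ∑ i, c k (part (W Y i) (CohB1.tensorMod E F)) :=
    sum_parts (W_disj Y) (W_cov Y) (c k) (fun S hS h₁ h₂ h₃ => c_add k hS h₁ h₂ h₃) (fun M N e => c_iso k e) cT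
  have sa : a k L (CohB1.tensorMod E F) = ∑ i, a k L (part (W Y i) (CohB1.tensorMod E F)) :=
    sum_parts (W_disj Y) (W_cov Y) (a k L) (fun S hS h₁ h₂ h₃ => a_add k H.amp.1 hS h₁ h₂ h₃) (fun M N e => a_iso k e) cT
  have hne : Nonempty Y := by
    by_contra hcon
    rw [not_nonempty_iff] at hcon
    have h1 := H.dim
    rw [topologicalKrullDim, Order.krullDim_eq_bot_iff.2 ⟨fun z => hcon.elim z.isIrreducible'.1.some⟩] at h1
    exact absurd h1 (by simp)
  have hpos : 0 < a k L (CohB1.tensorMod E F) := by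
    rw [sa]
    exact Finset.sum_pos (fun i _ => (key i).2.1) ⟨ConnectedComponents.mk hne.some, Finset.mem_univ _⟩
  have htot : (c k (CohB1.tensorMod E F) : ℚ) = σ * a k L (CohB1.tensorMod E F) := by
    rw [sc, sa]
    push_cast
    rw [Finset.mul_sum]
    exact Finset.sum_congr rfl fun i _ => (key i).2.2
  have hpos' : (0 : ℚ) < a k L (CohB1.tensorMod E F) := by exact_mod_cast hpos
  constructor
  · refine ss_of_parts H (W_disj Y) (W_cov Y) cT (fun hz => ?_) fun i hi => ⟨(key i).1, ?_⟩
    · rw [a_zero H.amp.1 cT hz] at hpos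
      exact lt_irrefl _ hpos
    · have h1 : (c k (part (W Y i) (CohB1.tensorMod E F)) : ℚ) * a k L (CohB1.tensorMod E F) =
        c k (CohB1.tensorMod E F) * a k L (part (W Y i) (CohB1.tensorMod E F)) := by
        rw [(key i).2.2, htot]; ring
      exact_mod_cast h1
  · rw [htot, mul_div_assoc, div_self hpos'.ne', mul_one]

end main

end K706.CompTens
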