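import Groth.Agent.VBCurve.K706.WeilDeg
import Groth.Agent.Dcoh.MonClosed

/-!
# Tensor products of essentially finite bundles
-/

set_option autoImplicit false
set_option linter.unusedVariables false
set_option linter.unusedSectionVars false
universe u
open CategoryTheory CategoryTheory.Limits AlgebraicGeometry MonoidalCategory

namespace K706.EssFin

open Groth.Agent K707.Base K707.Deg K707.Slope K707.Semi
open Groth.Agent.VarietyA.DegRank
open scoped Groth.Agent.Dcoh.MonCat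
open K706.WeilX K706.WeilDeg

variable {k : Type u} [Field k] {X : Scheme.{u}} [X.Over (Spec (CommRingCat.of k))]
  [IsIntegral X] [IsProper (X ↘ (Spec (CommRingCat.of k)))]

variable (k) in
/-- Coherent submodules have degree at most zero. -/
def N0 (A : X.Modules) : Prop := ∀ (F : X.Modules) (i : F ⟶ A), Mono i → Coh.IsCoh F → dg k F ≤ 0

theorem N0.mono {A B : X.Modules} (h : N0 k B) (i : A ⟶ B) [Mono i] : N0 k A :=
  fun F j hj hF => h F (j ≫ i) (mono_comp j i) hF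

theorem N0.quot (C : Crv k X) {A Q : X.Modules} (h : N0 k A) (hA : Coh.IsCoh A) (hQ : Coh.IsCoh Q) (p : A ⟶ Q) [Epi p]
    (h1 : dg k A = 0) (h2 : dg k Q = 0) : N0 k Q := by
  intro S j hj hS
  have hR := coh_cokernel j hS hQ
  obtain ⟨-, e1⟩ := mono_numbers C j hS hQ
  have hq : Epi (p ≫ cokernel.π j) := epi_comp _ _
  obtain ⟨-, e2⟩ := epi_numbers C (p ≫ cokernel.π j) hA hR
  have e3 := h _ (kernel.ι (p ≫ cokernel.π j)) inferInstance (coh_kernel C _ hA hR)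
  omega

theorem N0.ss {A : X.Modules} (h : N0 k A) (h0 : dg k A = 0) : SS k A := by
  intro F i hi hF
  rw [h0, zero_mul]
  exact mul_nonpos_of_nonpos_of_nonneg (h F i hi (coh_of_vb hF)) (by positivity)

/-- A submodule of degree zero is saturated. -/
theorem N0.vb_cokernel (C : Crv k X) {F G : X.Modules} (h : N0 k G) (hG : FlatMod.IsFinLocFree G)
    (hF : FlatMod.IsFinLocFree F) (i : F ⟶ G) [Mono i] (h0 : dg k F = 0) : FlatMod.IsFinLocFree (cokernel i) := by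
  obtain ⟨F', Q, a, j, q, w, ha, haj, hS, hF', hQ, h1, h2, h3, h4⟩ := exists_saturation C i (coh_of_vb hF) (coh_of_vb hG)
  have hj : Mono j := hS.mono_f
  have h5 := h F' j hj hF'
  have h7 : IsIso a := isIso_of_mono C a (coh_of_vb hF) hF' h1.le (by omega)
  have hq : Epi q := hS.epi_g
  have hc : IsColimit (CokernelCofork.ofπ q w) := hS.exact.gIsCokernel
  have e : cokernel i ≅ Q := by
    have e1 : cokernel i ≅ cokernel j := by
      refine cokernel.mapIso i j (asIso a) (Iso.refl G) ?_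
      simp [haj]
    exact e1 ≪≫ IsColimit.coconePointUniqueUpToIso (cokernelIsCokernel j) hc
  exact vb_iso e.symm hQ

theorem mono_tensor {A A' B B' : X.Modules} (hB : FlatMod.IsFinLocFree B) (hA' : FlatMod.IsFinLocFree A') (f : A ⟶ A') [Mono f]
    (g : B ⟶ B') [Mono g] : Mono (f ⊗ₘ g) := by
  have h1 : Mono (f ▷ B) := by
    have := K707.TensL.preservesFiniteLimits hB
    exact inferInstanceAs (Mono ((DCoh.tensorRightMod B).map f))
  have h2 : Mono (A' ◁ g) := by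
    have := K707.TensL.preservesFiniteLimits hA'
    have h3 : Mono (g ▷ A') := inferInstanceAs (Mono ((DCoh.tensorRightMod A').map g))
    have h4 : A' ◁ g = (β_ A' B).hom ≫ g ▷ A' ≫ (β_ A' B').inv := by
      rw [← BraidedCategory.braiding_naturality_right_assoc, Iso.hom_inv_id, Category.comp_id]
    rw [h4]
    infer_instance
  rw [tensorHom_def]
  exact mono_comp _ _

theorem epi_tensor {A A' B B' : X.Modules} (f : A ⟶ A') [Epi f] (g : B ⟶ B') [Epi g] : Epi (f ⊗ₘ g) := by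
  have h0 : ∀ (B : X.Modules) {A A' : X.Modules} (f : A ⟶ A') [Epi f], Epi (B ◁ f) := fun B A A' f _ => by
    have h : (tensorLeft B).IsLeftAdjoint := (Dcoh.MonClosed.tensorHomAdj B).isLeftAdjoint
    exact inferInstanceAs (Epi ((tensorLeft B).map f))
  have h1 : Epi (f ▷ B) := by
    have h4 : f ▷ B = (β_ A B).hom ≫ B ◁ f ≫ (β_ A' B).inv := by
      rw [← BraidedCategory.braiding_naturality_left_assoc, Iso.hom_inv_id, Category.comp_id]
    have := h0 B f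
    rw [h4]
    infer_instance
  have h2 := h0 A' g
  rw [tensorHom_def]
  exact epi_comp _ _

variable (k) in
/-- Subquotients `F₁ / F₂` of a Weil-finite bundle, all of degree zero. -/
def EF (E : X.Modules) : Prop := ∃ (G F₁ F₂ : X.Modules) (i₁ : F₁ ⟶ G) (i₂ : F₂ ⟶ F₁),
  FlatMod.IsFinLocFree G ∧ WeilFin G ∧ FlatMod.IsFinLocFree F₁ ∧ FlatMod.IsFinLocFree F₂ ∧ Mono i₁ ∧ Mono i₂ ∧
    FlatMod.IsFinLocFree (cokernel i₁) ∧ FlatMod.IsFinLocFree (cokernel i₂) ∧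
    dg k F₁ = 0 ∧ SS k F₁ ∧ dg k F₂ = 0 ∧ SS k F₂ ∧ Nonempty (E ≅ cokernel i₂)

theorem EF.tensor (C : Crv k X) {E E' : X.Modules} (hE : FlatMod.IsFinLocFree E) (hE' : FlatMod.IsFinLocFree E')
    (h0 : dg k E = 0) (h0' : dg k E' = 0)
    (h : EF k E) (h' : EF k E') : FlatMod.IsFinLocFree (E ⊗ E') ∧ rk (E ⊗ E') = rk E * rk E' ∧ dg k (E ⊗ E') = 0 ∧
      SS k (E ⊗ E') ∧ EF k (E ⊗ E') := by
  have hN := isLocNoeth C
  obtain ⟨G, F₁, F₂, i₁, i₂, hG, hw, hF₁, hF₂, hi₁, hi₂, hc₁, hc₂, d₁, s₁, d₂, s₂, ⟨e⟩⟩ := h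
  obtain ⟨G', F₁', F₂', i₁', i₂', hG', hw', hF₁', hF₂', hi₁', hi₂', hc₁', hc₂', d₁', s₁', d₂', s₂', ⟨e'⟩⟩ := h'
  have hGG : FlatMod.IsFinLocFree (G ⊗ G') := K707.TensL.vb_tensor hG hG'
  have hFF : FlatMod.IsFinLocFree (F₁ ⊗ F₁') := K707.TensL.vb_tensor hF₁ hF₁'
  have hEE : FlatMod.IsFinLocFree (E ⊗ E') := K707.TensL.vb_tensor hE hE'
  have hwG : WeilFin (G ⊗ G') := weilFin_tensor k hG hG' hw hw'
  obtain ⟨n1, n2⟩ := WeilDeg.main C hGG hwG
  have n1' : N0 k (G ⊗ G') := n1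
  have dF : dg k (F₁ ⊗ F₁') = 0 :=
    (K707.TensL.dg_tensor k C.dim (isFinLocFreeOfRank_rk hF₁') (coh_of_vb hF₁)).trans (by simp [d₁, d₁'])
  have dE : dg k (E ⊗ E') = 0 :=
    (K707.TensL.dg_tensor k C.dim (isFinLocFreeOfRank_rk hE') (coh_of_vb hE)).trans (by simp [h0, h0'])
  have rE : rk (E ⊗ E') = rk E * rk E' := by
    have := K707.TensL.rk_tensor (isFinLocFreeOfRank_rk hE') (coh_of_vb hE)
    rw [mul_comm] at this
    exact this
  have hm : Mono (i₁ ⊗ₘ i₁') := mono_tensor hF₁' hG i₁ i₁'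
  have nF : N0 k (F₁ ⊗ F₁') := n1'.mono (i₁ ⊗ₘ i₁')
  let p : F₁ ⟶ E := cokernel.π i₂ ≫ e.inv
  let p' : F₁' ⟶ E' := cokernel.π i₂' ≫ e'.inv
  have hp : Epi (p ⊗ₘ p') := epi_tensor p p'
  have nE : N0 k (E ⊗ E') := nF.quot C (coh_of_vb hFF) (coh_of_vb hEE) (p ⊗ₘ p') dF dE
  have hK : FlatMod.IsFinLocFree (kernel (p ⊗ₘ p')) := vb_kernel C _ hFF (coh_of_vb hEE)
  obtain ⟨-, e2⟩ := epi_numbers C (p ⊗ₘ p') (coh_of_vb hFF) (coh_of_vb hEE)
  have dK : dg k (kernel (p ⊗ₘ p')) = 0 := by omega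
  have nK : N0 k (kernel (p ⊗ₘ p')) := nF.mono (kernel.ι (p ⊗ₘ p'))
  have hcok : cokernel (kernel.ι (p ⊗ₘ p')) ≅ E ⊗ E' :=
    IsColimit.coconePointUniqueUpToIso (cokernelIsCokernel (kernel.ι (p ⊗ₘ p')))
      (Abelian.epiIsCokernelOfKernel (KernelFork.ofι (kernel.ι (p ⊗ₘ p')) (kernel.condition (p ⊗ₘ p')))
        (kernelIsKernel (p ⊗ₘ p')))
  refine ⟨hEE, rE, dE, nE.ss dE, G ⊗ G', F₁ ⊗ F₁', kernel (p ⊗ₘ p'), i₁ ⊗ₘ i₁', kernel.ι (p ⊗ₘ p'), hGG, hwG, hFF, hK, hm,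
    inferInstance, n1'.vb_cokernel C hGG hFF (i₁ ⊗ₘ i₁') dF, vb_iso hcok.symm hEE, dF, nF.ss dF, dK, nK.ss dK, ⟨hcok.symm⟩⟩

end K706.EssFin
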