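import Groth.Agent.LoccohA.OmFinal
import Groth.Agent.CurvesC.DualInvNodal
import Groth.Agent.CurvesC.DualSetup
import Groth.Agent.S1612
import Groth.Agent.S1535
import Groth.Agent.S1521
import Groth.Agent.CurvesB.OmegaInv
import Groth.Agent.VBCurve.K704.Base

/-!
# Serre duality on a smooth proper curve in the usable form; invertible modules of degree `2g - 2` with `h¹ ≠ 0`
-/

set_option autoImplicit false
set_option linter.unusedVariables false
universe u
open CategoryTheory CategoryTheory.Limits AlgebraicGeometry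

namespace K706.Serre

open Groth.Agent Groth.Agent.CurvesC

section ex

variable (k : Type u) [Field k] (X : Scheme.{u}) [X.Over (Spec (CommRingCat.of k))]
  [IsIntegral X] [IsProper (X ↘ (Spec (CommRingCat.of k)))] [Smooth (X ↘ (Spec (CommRingCat.of k)))]
  (hdim : topologicalKrullDim X = 1)

include hdim

/-- A dualizing pair with invertible dualizing module. -/
theorem exists_pair : ∃ (w : X.Modules) (t : Coh.HH X w 1 →ₗ[k] k), PicF.IsInvertible w ∧ DualCount.IsPair k t := by
  have hN : IsNoetherian X := CurveCoh.noetherianSpace k X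
  obtain ⟨w, t, hw, h⟩ := LoccohA.OmFinal.main (k := k) (X := X) 1 (by rw [hdim]; rfl)
  refine ⟨w, t, ?_, h⟩
  refine DualInv.isInvertible (fun Z hZ => ?_) (fun x hx => ?_) (isDual_of_raw h) hw
  · have h1 : irreducibleComponents (X : Type u) = {Set.univ} := irreducibleComponents_eq_singleton
    rw [h1, Set.mem_singleton_iff] at hZ
    subst hZ
    rw [← hdim]
    exact IsHomeomorph.topologicalKrullDim_eq _ (Homeomorph.Set.univ X).isHomeomorph
  · have h1 := Groth.Agent.S1535.result k X x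
    exact DualInvNodal.isDouble_of_isRegularLocalRing (CurvesB.NodeSch2.krullDimLE_one_stalk hdim.le x)

end ex

variable {k : Type u} [Field k] {X : Scheme.{u}} [X.Over (Spec (CommRingCat.of k))]

theorem exists_ne_zero {w : X.Modules} {t : Coh.HH X w 1 →ₗ[k] k} (ht : DualCount.IsPair k t) {M : X.Modules}
    (hM : Coh.IsQCoh M) (h : ¬ Subsingleton (Coh.HH X M 1)) : ∃ φ : M ⟶ w, φ ≠ 0 := by
  obtain ⟨x, hx⟩ : ∃ x : Coh.HH X M 1, x ≠ 0 := by
    by_contra h'
    push Not at h'
    exact h ⟨fun a b => (h' a).trans (h' b).symm⟩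
  obtain ⟨ψ, hψ⟩ : ∃ ψ : Coh.HH X M 1 →ₗ[k] k, ψ x ≠ 0 := by
    by_contra h'
    push Not at h'
    have h1 : Module.Free k (Coh.HH X M 1) := Module.Free.of_divisionRing k _
    have h2 : Module.Projective k (Coh.HH X M 1) := Module.Projective.of_free
    exact hx ((Module.forall_dual_apply_eq_zero_iff k x).mp h')
  obtain ⟨φ, hφ, -⟩ := ht M hM ψ
  refine ⟨φ, ?_⟩
  rintro rfl
  apply hψ
  rw [hφ x]
  have h1 : (SheafOfModules.toSheaf X.ringCatSheaf).map (0 : M ⟶ w) = 0 := rfl
  rw [h1]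
  have h2 : Sheaf.H.map (0 : Coh.toAb M ⟶ Coh.toAb w) 1 x = 0 := by
    have := Sheaf.H.map_add_apply (0 : Coh.toAb M ⟶ Coh.toAb w) 0 x
    rw [add_zero] at this
    exact left_eq_add.mp this
  exact (congrArg t h2).trans (map_zero t)

section alg

variable [IsAlgClosed k] [IsIntegral X] [IsProper (X ↘ (Spec (CommRingCat.of k)))]
  (hdim : topologicalKrullDim X = 1)

include hdim

theorem deg_w {w : X.Modules} (hw : PicF.IsInvertible w) {t : Coh.HH X w 1 →ₗ[k] k} (ht : DualCount.IsPair k t) :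
    Curv2.deg k X w 1 = 2 * (Curv2.genus k X : ℤ) - 2 := by
  have hO : Coh.IsQCoh (Coh.structureModule X) := (Fdesc.StructMod.isCoh_structureModule X).1
  have h1 := DualSetup.h0_w ht hO
  have h2 := DualSetup.h0_unit hw ht (Ega2.QCohLocal.isQCoh_of_isInvertible hw)
  rw [K704.Base.deg_eq_one k X hdim, h1, ← h2, VarietyA.CurveFin.finrank_h0_structure k X]
  unfold Curv2.genus
  push_cast
  ring

theorem nonempty_iso_w {w : X.Modules} (hw : PicF.IsInvertible w) {t : Coh.HH X w 1 →ₗ[k] k} (ht : DualCount.IsPair k t)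
    {M : X.Modules} (hM : PicF.IsInvertible M) (hd : Curv2.deg k X M 1 = 2 * (Curv2.genus k X : ℤ) - 2)
    (h1 : Module.finrank k (Coh.HH X M 1) ≠ 0) : Nonempty (M ≅ w) := by
  obtain ⟨φ, hφ⟩ := exists_ne_zero ht (Ega2.QCohLocal.isQCoh_of_isInvertible hM)
    (fun h => h1 (Module.finrank_zero_of_subsingleton))
  have h2 := (S1521.result k X hdim M w hM hw φ hφ).2 (by rw [hd, deg_w hdim hw ht])
  exact ⟨asIso φ⟩

variable [Smooth (X ↘ (Spec (CommRingCat.of k)))]

/-- An invertible module of degree `2g - 2` with `h¹ ≠ 0` is the canonical one. -/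
theorem nonempty_iso_omega {M : X.Modules} (hM : PicF.IsInvertible M)
    (hd : Curv2.deg k X M 1 = 2 * (Curv2.genus k X : ℤ) - 2)
    (h1 : Module.finrank k (Coh.HH X M 1) ≠ 0) : Nonempty (M ≅ Omega.sheaf (X ↘ (Spec (CommRingCat.of k)))) := by
  obtain ⟨w, t, hw, ht⟩ := exists_pair k X hdim
  obtain ⟨h2, h3⟩ := S1612.result k X ⟨inferInstance, inferInstance, inferInstance, hdim⟩
    (VarietyA.CurveFin.finrank_h0_structure k X)
  have hΩ : PicF.IsInvertible (Omega.sheaf (X ↘ (Spec (CommRingCat.of k)))) := CurvesB.OmegaInv.isInvertible_omega _ hdim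
  obtain ⟨e1⟩ := nonempty_iso_w hdim hw ht hM hd h1
  obtain ⟨e2⟩ := nonempty_iso_w hdim hw ht hΩ h3 (by
    have h4 := K704.Base.deg_eq_one k X hdim (Omega.sheaf (X ↘ (Spec (CommRingCat.of k))))
    rw [h3, h2] at h4
    omega)
  exact ⟨e1 ≪≫ e2.symm⟩

end alg

end K706.Serre
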