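import Groth.Agent.PerfA.Restrict
import Groth.Agent.Flat2B.ExtZero
import Groth.Agent.VarietyB.ExactLoc
import Groth.Agent.VBCurve.K707.Deg
import Groth.Agent.ShStab.K849.HilbFacts

/-!
# Decomposition of modules over an open and closed subset
-/

set_option autoImplicit false
set_option linter.unusedVariables false
set_option linter.unusedSectionVars false
universe u
open CategoryTheory CategoryTheory.Limits AlgebraicGeometry

namespace K706.Clopen

open Groth.Agent Scheme.Modules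

section abs

variable {C D : Type*} [Category* C] [Category* D] [Preadditive C] [Preadditive D] [HasBinaryBiproducts C]

theorem isIso_map_lift (R : C ⥤ D) [R.Additive] {M A B : C} (f : M ⟶ A) (g : M ⟶ B) (hf : IsIso (R.map f))
    (hB : IsZero (R.obj B)) : IsIso (R.map (biprod.lift f g)) := by
  have h1 : IsIso (R.map (biprod.fst : A ⊞ B ⟶ A)) := by
    refine ⟨R.map biprod.inl, ?_, ?_⟩
    · have h2 : (biprod.fst ≫ biprod.inl : A ⊞ B ⟶ A ⊞ B) = 𝟙 _ - biprod.snd ≫ biprod.inr := by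
        rw [← biprod.total]; abel
      rw [← R.map_comp, h2, R.map_sub, R.map_id, R.map_comp, hB.eq_of_tgt (R.map biprod.snd) 0, zero_comp, sub_zero]
    · rw [← R.map_comp, biprod.inl_fst, R.map_id]
  have h3 : R.map (biprod.lift f g) ≫ R.map (biprod.fst : A ⊞ B ⟶ A) = R.map f := by
    rw [← R.map_comp, biprod.lift_fst]
  have : IsIso (R.map (biprod.lift f g) ≫ R.map (biprod.fst : A ⊞ B ⟶ A)) := by rw [h3]; exact hf
  exact IsIso.of_isIso_comp_right _ (R.map (biprod.fst : A ⊞ B ⟶ A))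

theorem isIso_map_lift' (R : C ⥤ D) [R.Additive] {M A B : C} (f : M ⟶ A) (g : M ⟶ B) (hf : IsIso (R.map g))
    (hB : IsZero (R.obj A)) : IsIso (R.map (biprod.lift f g)) := by
  have h1 := isIso_map_lift R g f hf hB
  have h2 : biprod.lift f g = biprod.lift g f ≫ (biprod.braiding B A).hom := by
    ext <;> simp
  rw [h2, R.map_comp]
  infer_instance

end abs

variable {Y : Scheme.{u}} (U : Y.Opens)

/-- The part of a module over `U`. -/
noncomputable abbrev part (M : Y.Modules) : Y.Modules := (pushforward U.ι).obj (M.restrict U.ι)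

/-- The functor `M ↦ M_U` on maps. -/
noncomputable def pm {M N : Y.Modules} (f : M ⟶ N) : part U M ⟶ part U N :=
  (pushforward U.ι).map ((restrictFunctor U.ι).map f)

/-- The unit. -/
noncomputable def eta (M : Y.Modules) : M ⟶ part U M := (restrictAdjunction U.ι).unit.app M

theorem eta_nat {M N : Y.Modules} (f : M ⟶ N) : f ≫ eta U N = eta U M ≫ pm U f :=
  (restrictAdjunction U.ι).unit.naturality f

theorem pm_comp {M N P : Y.Modules} (f : M ⟶ N) (g : N ⟶ P) : pm U (f ≫ g) = pm U f ≫ pm U g := by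
  simp only [pm, Functor.map_comp]

theorem isIso_restrict_eta (M : Y.Modules) : IsIso ((restrictFunctor U.ι).map (eta U M)) := by
  have h := (restrictAdjunction U.ι).left_triangle_components M
  exact IsIso.of_isIso_fac_right h

theorem isZero_restrict_push {V : Y.Opens} (h : U ⊓ V = ⊥) (N : (U : Scheme.{u}).Modules) :
    IsZero ((restrictFunctor V.ι).obj ((pushforward U.ι).obj N)) := by
  refine Flat2B.ExtZero.isZero_of_subsingleton fun W => ?_
  have h1 : U.ι ⁻¹ᵁ (V.ι ''ᵁ W) = ⊥ := by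
    rw [eq_bot_iff]
    intro x hx
    have h2 : U.ι x ∈ U ⊓ V := ⟨x.2, V.ι_image_le W hx⟩
    rw [h] at h2
    exact h2
  change Subsingleton Γ(N, U.ι ⁻¹ᵁ (V.ι ''ᵁ W))
  rw [h1]
  have h3 := (TopCat.Sheaf.isTerminalOfEmpty (⟨N.presheaf, N.isSheaf⟩ : TopCat.Sheaf Ab.{u} (U : Scheme.{u})))
  exact AddCommGrpCat.subsingleton_of_isZero h3.isZero

variable {U}

/-- `M ≅ M_U ⊞ M_V`. -/
theorem isIso_lift {V : Y.Opens} (h : U ⊓ V = ⊥) (h' : U ⊔ V = ⊤) (M : Y.Modules) :
    IsIso (biprod.lift (eta U M) (eta V M)) := by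
  refine PerfA.Restrict.isIso_of_restrict_opens _ fun x => ?_
  have hx : x ∈ U ⊔ V := by rw [h']; trivial
  rcases hx with hx | hx
  · exact ⟨U, hx, isIso_map_lift (restrictFunctor U.ι) _ _ (isIso_restrict_eta U M)
      (isZero_restrict_push V (by rwa [inf_comm] at h) _)⟩
  · exact ⟨V, hx, isIso_map_lift' (restrictFunctor V.ι) _ _ (isIso_restrict_eta V M)
      (isZero_restrict_push U h _)⟩

/-- `M ≅ M_U ⊞ M_V`. -/
noncomputable def iso {V : Y.Opens} (h : U ⊓ V = ⊥) (h' : U ⊔ V = ⊤) (M : Y.Modules) :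
    M ≅ part U M ⊞ part V M :=
  have := isIso_lift h h' M
  asIso (biprod.lift (eta U M) (eta V M))

theorem iso_hom_fst {V : Y.Opens} (h : U ⊓ V = ⊥) (h' : U ⊔ V = ⊤) (M : Y.Modules) :
    (iso h h' M).hom ≫ biprod.fst = eta U M := by
  change biprod.lift _ _ ≫ _ = _
  simp

theorem iso_hom_snd {V : Y.Opens} (h : U ⊓ V = ⊥) (h' : U ⊔ V = ⊤) (M : Y.Modules) :
    (iso h h' M).hom ≫ biprod.snd = eta V M := by
  change biprod.lift _ _ ≫ _ = _
  simp

/-- The inclusion of the part over `U`. -/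
noncomputable def inc {V : Y.Opens} (h : U ⊓ V = ⊥) (h' : U ⊔ V = ⊤) (M : Y.Modules) : part U M ⟶ M :=
  biprod.inl ≫ (iso h h' M).inv

theorem inc_eta {V : Y.Opens} (h : U ⊓ V = ⊥) (h' : U ⊔ V = ⊤) (M : Y.Modules) :
    inc h h' M ≫ eta U M = 𝟙 _ := by
  rw [← iso_hom_fst h h' M, inc, Category.assoc, Iso.inv_hom_id_assoc, biprod.inl_fst]

theorem mono_inc {V : Y.Opens} (h : U ⊓ V = ⊥) (h' : U ⊔ V = ⊤) (M : Y.Modules) : Mono (inc h h' M) :=
  mono_of_mono_fac (inc_eta h h' M)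

theorem epi_eta {V : Y.Opens} (h : U ⊓ V = ⊥) (h' : U ⊔ V = ⊤) (M : Y.Modules) : Epi (eta U M) :=
  epi_of_epi_fac (inc_eta h h' M)

/-- `0 → M_U → M → M_V → 0`. -/
noncomputable def sq {V : Y.Opens} (h : U ⊓ V = ⊥) (h' : U ⊔ V = ⊤) (M : Y.Modules) : ShortComplex Y.Modules :=
  ShortComplex.mk (inc h h' M) (eta V M) (by
    rw [← iso_hom_snd h h' M, inc, Category.assoc, Iso.inv_hom_id_assoc]
    exact biprod.inl_snd)

theorem sq_shortExact {V : Y.Opens} (h : U ⊓ V = ⊥) (h' : U ⊔ V = ⊤) (M : Y.Modules) : (sq h h' M).ShortExact := by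
  have s : (ShortComplex.mk (biprod.inl : part U M ⟶ part U M ⊞ part V M) biprod.snd (by simp)).Splitting :=
    ShortComplex.Splitting.ofHasBinaryBiproduct _ _
  refine ShortComplex.shortExact_of_iso ?_ s.shortExact
  refine ShortComplex.isoMk (Iso.refl _) (iso h h' M).symm (Iso.refl _) ?_ ?_
  · change 𝟙 _ ≫ (biprod.inl ≫ (iso h h' M).inv) = biprod.inl ≫ (iso h h' M).inv
    rw [Category.id_comp]
  · change (iso h h' M).inv ≫ eta V M = biprod.snd ≫ 𝟙 _
    rw [← iso_hom_snd h h' M, Iso.inv_hom_id_assoc]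
    exact (Category.comp_id _).symm

/-- The part over `U` is coherent. -/
theorem isCoh_part [IsLocallyNoetherian Y] {V : Y.Opens} (h : U ⊓ V = ⊥) (h' : U ⊔ V = ⊤) {M : Y.Modules} (hM : Coh.IsCoh M) :
    Coh.IsCoh (part U M) := by
  have h1 : V ⊓ U = ⊥ := by rwa [inf_comm] at h
  have h2 : V ⊔ U = ⊤ := by rwa [sup_comm] at h'
  let e : M ⟶ M := eta V M ≫ inc h1 h2 M
  have h3 : cokernel e ≅ part U M := by
    have hs := sq_shortExact h1 h2 M
    have h4 : Epi (eta V M) := epi_eta h1 h2 M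
    exact (cokernelEpiComp (eta V M) (inc h1 h2 M)) ≪≫
      IsColimit.coconePointUniqueUpToIso (cokernelIsCokernel (inc h1 h2 M)) (have := hs.epi_g; hs.exact.gIsCokernel)
  exact Sga67.CohBasic.isCoh_of_iso h3 (Sga67.CohBasic.isCoh_cokernel e hM.1 hM)

end K706.Clopen
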