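import Groth.Agent.VBCurve.K706.Clopen
import Groth.Agent.VBCurve.K707.TensL

/-!
# Semistability in dimension one, numerically
-/

set_option autoImplicit false
set_option linter.unusedVariables false
set_option linter.unusedSectionVars false
universe u
open CategoryTheory CategoryTheory.Limits AlgebraicGeometry Polynomial

namespace K706.DimOne

open Groth.Agent Scheme.Modules K706.Clopen

variable (k : Type u) [Field k] {Y : Scheme.{u}} [Y.Over (Spec (CommRingCat.of k))]

/-- The Euler characteristic. -/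
noncomputable abbrev c (M : Y.Modules) : ℤ := Curv2.euler k Y M

/-- The multiplicity. -/
noncomputable def a (L M : Y.Modules) : ℤ := Curv2.euler k Y (CohB1.tensorMod M L) - Curv2.euler k Y M

variable [IsProper (Y ↘ Spec (CommRingCat.of k))]

theorem c_add {S : ShortComplex Y.Modules} (hS : S.ShortExact) (h₁ : Coh.IsCoh S.X₁)
    (h₂ : Coh.IsCoh S.X₂) (h₃ : Coh.IsCoh S.X₃) : c k S.X₂ = c k S.X₁ + c k S.X₃ :=
  Groth.Agent.S1524.result k Y S hS h₁ h₂ h₃

include k in
theorem coh_twist {L M : Y.Modules} (hL : PicF.IsInvertible L) (hM : Coh.IsCoh M) : Coh.IsCoh (CohB1.tensorMod M L) := by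
  have := K707.Deg.isNoetherian k (X := Y)
  exact K707.TensL.coh_tensor (K707.TensL.rank_one_iff.2 hL) hM

theorem a_add {L : Y.Modules} (hL : PicF.IsInvertible L) {S : ShortComplex Y.Modules} (hS : S.ShortExact) (h₁ : Coh.IsCoh S.X₁)
    (h₂ : Coh.IsCoh S.X₂) (h₃ : Coh.IsCoh S.X₃) : a k L S.X₂ = a k L S.X₁ + a k L S.X₃ := by
  have he := K707.TensL.isEquivalence hL
  have h : (S.map (DCoh.tensorRightMod L)).ShortExact := hS.map_of_exact (DCoh.tensorRightMod L)
  have h1 := c_add k h (coh_twist k hL h₁) (coh_twist k hL h₂) (coh_twist k hL h₃)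
  have h2 := c_add k hS h₁ h₂ h₃
  change Curv2.euler k Y (CohB1.tensorMod S.X₂ L) = Curv2.euler k Y (CohB1.tensorMod S.X₁ L) +
    Curv2.euler k Y (CohB1.tensorMod S.X₃ L) at h1
  change Curv2.euler k Y S.X₂ = Curv2.euler k Y S.X₁ + Curv2.euler k Y S.X₃ at h2
  simp only [a]
  omega

theorem c_iso {M N : Y.Modules} (e : M ≅ N) : c k M = c k N := VarietyA.DegRank.euler_iso k e

theorem a_iso {L M N : Y.Modules} (e : M ≅ N) : a k L M = a k L N := by
  have h1 := VarietyA.DegRank.euler_iso k ((DCoh.tensorRightMod L).mapIso e)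
  have h2 := VarietyA.DegRank.euler_iso k e
  change Curv2.euler k Y (CohB1.tensorMod M L) = Curv2.euler k Y (CohB1.tensorMod N L) at h1
  simp only [a]
  omega

theorem hilb (hdim : topologicalKrullDim Y = 1) {L M : Y.Modules} (hL : PicF.IsInvertible L) (hM : Coh.IsCoh M) :
    ShStab.IsHilbPoly k Y L M (C (c k M : ℚ) + C (a k L M : ℚ) * X) := by
  obtain ⟨P, hP, h⟩ := K849.HilbFacts.exists_poly (k := k) hM hL (d := 1) 
    (by
      refine (?_ : _ ≤ topologicalKrullDim Y).trans hdim.le
      exact Topology.IsInducing.subtypeVal.topologicalKrullDim_le)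
  have h0 := h 0
  have h1 := h 1
  rw [eq_X_add_C_of_natDegree_le_one hP] at h0 h1 h
  simp only [CharP.cast_eq_zero, Nat.cast_one, eval_add, eval_mul, eval_C, eval_X, mul_zero, zero_add, mul_one] at h0 h1
  have e0 : Curv2.euler k Y (ShStab.twist Y L M 0) = c k M := VarietyA.DegRank.euler_iso k (Ega2.Tens.runit M)
  have e1 : Curv2.euler k Y (ShStab.twist Y L M 1) = Curv2.euler k Y (CohB1.tensorMod M L) :=
    VarietyA.DegRank.euler_iso k (Ega2.Tens.mapTIso (Iso.refl M) (Ega2.TensPow.powOne L))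
  rw [e0] at h0
  rw [e1] at h1
  have h2 : P.coeff 1 = (a k L M : ℚ) := by
    simp only [a]; push_cast; linarith
  rw [← h0, h2] at h
  rw [add_comm]
  exact h

section dec

omit [IsProper (Y ↘ Spec (CommRingCat.of k))] [Y.Over (Spec (CommRingCat.of k))]

theorem isIso_restrict_eta_le {U V : Y.Opens} (hUV : U ≤ V) (M : Y.Modules) :
    IsIso ((restrictFunctor U.ι).map (eta V M)) := by
  rw [Hom.isIso_iff_isIso_app]
  intro W
  have h : V.ι ''ᵁ (V.ι ⁻¹ᵁ (U.ι ''ᵁ W)) = U.ι ''ᵁ W := by
    rw [Scheme.Hom.image_preimage_eq_opensRange_inf]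
    simp only [Scheme.Opens.opensRange_ι, inf_eq_right]
    exact (U.ι_image_le W).trans hUV
  change IsIso (((restrictAdjunction V.ι).unit.app M).app (U.ι ''ᵁ W))
  rw [restrictAdjunction_unit_app_app]
  have : IsIso (homOfLE (V.ι.image_preimage_le (U.ι ''ᵁ W))) := ⟨homOfLE h.ge, rfl, rfl⟩
  exact Functor.map_isIso M.presheaf (homOfLE (V.ι.image_preimage_le (U.ι ''ᵁ W))).op

/-- The part of a part. -/
noncomputable def partPart {U V : Y.Opens} (hUV : U ≤ V) (M : Y.Modules) : part U M ≅ part U (part V M) :=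
  have := isIso_restrict_eta_le hUV M
  (pushforward U.ι).mapIso (asIso ((restrictFunctor U.ι).map (eta V M)))

theorem isZero_part_part {U V : Y.Opens} (h : V ⊓ U = ⊥) (M : Y.Modules) : IsZero (part U (part V M)) :=
  (pushforward U.ι).map_isZero (isZero_restrict_push V h _)

theorem isZero_of_parts {ι : Type*} (W : ι → Y.Opens) (cov : ∀ x, ∃ i, x ∈ W i) (M : Y.Modules)
    (h : ∀ i, IsZero (part (W i) M)) : IsZero M := by
  refine PerfA.Restrict.isZero_of_restrict_opens M fun x => ?_
  obtain ⟨i, hi⟩ := cov x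
  refine ⟨W i, hi, ?_⟩
  have h1 := (restrictFunctor (W i).ι).map_isZero (h i)
  have h2 := isIso_restrict_eta (W i) M
  exact h1.of_iso (asIso ((restrictFunctor (W i).ι).map (eta (W i) M)))

/-- The complement of a member of a family. -/
noncomputable def compl {ι : Type*} (W : ι → Y.Opens) (i : ι) : Y.Opens := ⨆ j : {j : ι // j ≠ i}, W j

variable {ι : Type*} {W : ι → Y.Opens} (disj : ∀ i j, i ≠ j → W i ⊓ W j = ⊥) (cov : ∀ x, ∃ i, x ∈ W i)

include disj in
theorem inf_compl (i : ι) : W i ⊓ compl W i = ⊥ := by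
  rw [compl, inf_iSup_eq]
  simp only [iSup_eq_bot]
  rintro ⟨j, hj⟩
  exact disj i j hj.symm

include cov in
theorem sup_compl (i : ι) : W i ⊔ compl W i = ⊤ := by
  rw [eq_top_iff]
  intro x _
  obtain ⟨j, hj⟩ := cov x
  by_cases h : j = i
  · subst h
    exact Or.inl hj
  · exact Or.inr (TopologicalSpace.Opens.mem_iSup.2 ⟨⟨j, h⟩, hj⟩)

theorem le_compl {i j : ι} (h : j ≠ i) : W j ≤ compl W i := le_iSup (fun j : {j : ι // j ≠ i} => W j) ⟨j, h⟩

include disj cov in
/-- Additive functions are sums over the parts. -/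
theorem sum_parts [IsLocallyNoetherian Y] [Fintype ι] (f : Y.Modules → ℤ)
    (hf : ∀ S : ShortComplex Y.Modules, S.ShortExact → Coh.IsCoh S.X₁ → Coh.IsCoh S.X₂ → Coh.IsCoh S.X₃ →
      f S.X₂ = f S.X₁ + f S.X₃) (hiso : ∀ M N : Y.Modules, (M ≅ N) → f M = f N) {M : Y.Modules} (hM : Coh.IsCoh M) :
    f M = ∑ i, f (part (W i) M) := by
  classical
  have h0 : ∀ M : Y.Modules, Coh.IsCoh M → IsZero M → f M = 0 := by
    intro M hM h
    have hS : (ShortComplex.mk (𝟙 M) (𝟙 M) (h.eq_of_src _ _)).ShortExact := by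
      refine ShortComplex.ShortExact.mk' ?_ inferInstance inferInstance
      exact ShortComplex.exact_of_isZero_X₂ _ h
    have := hf _ hS hM hM hM
    dsimp only at this
    omega
  have key : ∀ (S : Finset ι) (M : Y.Modules), Coh.IsCoh M → (∀ i ∉ S, IsZero (part (W i) M)) →
      f M = ∑ i ∈ S, f (part (W i) M) := by
    intro S
    induction S using Finset.induction_on with
    | empty =>
      intro M hM h
      rw [Finset.sum_empty]
      exact h0 M hM (isZero_of_parts W cov M fun i => h i (by simp))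
    | insert i S hi ih =>
      intro M hM h
      rw [Finset.sum_insert hi]
      have d1 := inf_compl disj i
      have d2 := sup_compl cov i
      have c1 := isCoh_part d1 d2 hM
      have c2 : Coh.IsCoh (part (compl W i) M) := isCoh_part (by rwa [inf_comm]) (by rwa [sup_comm]) hM
      have e1 := hf _ (sq_shortExact d1 d2 M) c1 hM c2
      change f M = f (part (W i) M) + f (part (compl W i) M) at e1
      rw [e1, ih _ c2]
      · congr 1
        refine Finset.sum_congr rfl fun j hj => (hiso _ _ (partPart (le_compl ?_) M)).symm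
        rintro rfl
        exact hi hj
      · intro j hj
        by_cases hji : j = i
        · subst hji
          exact isZero_part_part (by rwa [inf_comm]) M
        · exact (h j (by simp [hji, hj])).of_iso (partPart (le_compl hji) M).symm
  exact key Finset.univ M hM (by simp)

end dec

variable (Y) in
/-- A polarized scheme of dimension one. -/
structure Pol (L : Y.Modules) : Prop where
  dim : topologicalKrullDim Y = 1
  amp : CohB1.IsAmple L

theorem alpha_eq (c a : ℚ) : StabCat.alpha 1 (C c + C a * X) = a := by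
  simp [StabCat.alpha]

theorem redLE_iff (c a c' a' : ℚ) :
    StabCat.RedLE 1 (C c + C a * X) (C c' + C a' * X) ↔ a' * c ≤ a * c' := by
  unfold StabCat.RedLE StabCat.PolyLE
  rw [alpha_eq, alpha_eq]
  constructor
  · rintro ⟨N, h⟩
    have := h N le_rfl
    simp only [eval_smul, eval_add, eval_mul, eval_C, eval_X, smul_eq_mul] at this
    nlinarith
  · intro h
    refine ⟨0, fun m _ => ?_⟩
    simp only [eval_smul, eval_add, eval_mul, eval_C, eval_X, smul_eq_mul]
    nlinarith

section

variable {k} {L : Y.Modules} (H : Pol Y L)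

include H

theorem a_nonneg {F : Y.Modules} (hF : Coh.IsCoh F) : 0 ≤ a k L F := by
  have h1 := hilb k H.dim H.amp.1 hF
  obtain ⟨n, hn⟩ := (K849.HilbFacts.gies k Y H.amp).nat F _ 1 hF h1 (by compute_degree)
  rw [alpha_eq] at hn
  have : a k L F = n := by exact_mod_cast hn
  omega

theorem dim_iff {F : Y.Modules} (hF : Coh.IsCoh F) (h0 : ¬ IsZero F) :
    topologicalKrullDim (CohB1.support F) = (1 : ℕ) ↔ 0 < a k L F := by
  have h1 := hilb k H.dim H.amp.1 hF
  rw [(K849.HilbFacts.gies k Y H.amp).dim F _ hF h0 h1]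
  have h2 := a_nonneg (k := k) H hF
  rcases h2.eq_or_lt with h3 | h3
  · rw [← h3]
    simp
  · have h4 : (C (c k F : ℚ) + C (a k L F : ℚ) * X).natDegree = 1 := by
      apply le_antisymm
      · compute_degree
      · apply le_natDegree_of_ne_zero
        have h5 : (C (c k F : ℚ) + C (a k L F : ℚ) * X : ℚ[X]).coeff 1 = (a k L F : ℚ) := by
          rw [coeff_add, coeff_C, coeff_C_mul, coeff_X_one]
          simp
        rw [h5]
        exact_mod_cast h3.ne'
    rw [h4]
    simp [h3]

theorem c_pos {F : Y.Modules} (hF : Coh.IsCoh F) (h0 : ¬ IsZero F) (ha : a k L F = 0) : 0 < c k F := by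
  have h1 := hilb k H.dim H.amp.1 hF
  have h2 := (K849.HilbFacts.gies k Y H.amp).pos F _ hF h0 h1
  rw [ha] at h2
  have h3 : (C (c k F : ℚ) + C ((0 : ℤ) : ℚ) * X : ℚ[X]).leadingCoeff = (c k F : ℚ) := by
    rw [Int.cast_zero, C_0, zero_mul, add_zero, leadingCoeff_C]
  rw [h3] at h2
  exact_mod_cast h2

theorem ss_iff (E : Y.Modules) : ShStab.IsSemistable k Y L E 1 ↔ Coh.IsCoh E ∧ ¬ IsZero E ∧
    ∀ (F : Y.Modules) (i : F ⟶ E), Mono i → Coh.IsCoh F → ¬ IsZero F →
      0 < a k L F ∧ a k L E * c k F ≤ a k L F * c k E := by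
  constructor
  · rintro ⟨h1, h2, h3, h4⟩
    refine ⟨h1, h2, fun F i hi hF h0 => ⟨(dim_iff H hF h0).1 (h3 F i hi hF h0), ?_⟩⟩
    by_cases hiso : IsIso i
    · rw [c_iso k (asIso i), a_iso k (asIso i)]
    · have h5 := h4 F i hi hF h0 hiso _ _ (hilb k H.dim H.amp.1 hF) (hilb k H.dim H.amp.1 h1)
      rw [redLE_iff] at h5
      exact_mod_cast h5
  · rintro ⟨h1, h2, h3⟩
    refine ⟨h1, h2, fun F i hi hF h0 => (dim_iff H hF h0).2 (h3 F i hi hF h0).1, ?_⟩
    intro F i hi hF h0 hiso pF pE hpF hpE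
    rw [K849.HilbFacts.unique hpF (hilb k H.dim H.amp.1 hF), K849.HilbFacts.unique hpE (hilb k H.dim H.amp.1 h1), redLE_iff]
    exact_mod_cast (h3 F i hi hF h0).2

end

end K706.DimOne
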