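import Groth.Agent.Htor.H255.HomStalk
import Groth.Agent.SDiv.K476.HomSh1

/-!
# The two sheaf Homs `CohqB.HomSheaf.homSheaf` and `RefHull.homSh` agree
-/

set_option autoImplicit false
set_option linter.unusedVariables false
universe u
open CategoryTheory CategoryTheory.Limits AlgebraicGeometry TopologicalSpace Opposite

noncomputable section

namespace K706.HomShIso

open Groth.Agent Groth.Agent.CohqB.HomSheaf Groth.Agent.Htor.H255.HomStalk Groth.Agent.CycB.StalkExact K476.HomSh1

variable {X : Scheme.{u}} {M N : X.Modules}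

/-- A section of `homSheaf` as a family of stalk maps. -/
def fwd {U : X.Opens} (s : Γ(homSheaf M N, U)) : Γ(RefHull.homSh M N, U) :=
  ⟨fun x => secStalk x.1 x.2 s, fun V i m x => ⟨V, x.2, 𝟙 V, comp s V i.le m, fun y =>
    secStalk_germ_le y.1 (i.le y.2) s V y.2 i.le m⟩⟩

theorem fwd_apply {U : X.Opens} (s : Γ(homSheaf M N, U)) (x : U) : (fwd s).1 x = secStalk x.1 x.2 s := rfl

theorem secMap_fwd {U : X.Opens} (s : Γ(homSheaf M N, U)) {V : X.Opens} (hV : V ≤ U) (m : Γ(M, V)) :
    secMap (fwd s) hV m = comp s V hV m := by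
  refine K476.HomSh1.sec_ext N fun x hx => ?_
  rw [germ_secMap, fwd_apply, secStalk_germ_le x (hV hx) s V hx hV m]

/-- The inverse. -/
def bwd {U : X.Opens} (g : Γ(RefHull.homSh M N, U)) : Γ(homSheaf M N, U) :=
  mkSec (fun V hV => secMap g hV) (fun V W hV h m => secMap_res g hV h m)

theorem comp_bwd {U : X.Opens} (g : Γ(RefHull.homSh M N, U)) {V : X.Opens} (hV : V ≤ U) (m : Γ(M, V)) :
    comp (bwd g) V hV m = secMap g hV m := rfl

theorem bwd_fwd {U : X.Opens} (s : Γ(homSheaf M N, U)) : bwd (fwd s) = s :=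
  CohqB.HomSheaf.sec_ext fun V hV m => by rw [comp_bwd, secMap_fwd]

theorem fwd_bwd {U : X.Opens} (g : Γ(RefHull.homSh M N, U)) : fwd (bwd g) = g :=
  homSec_ext_secMap fun V hV m => by rw [secMap_fwd, comp_bwd]

theorem fwd_add {U : X.Opens} (s t : Γ(homSheaf M N, U)) : fwd (s + t) = fwd s + fwd t :=
  homSec_ext_secMap fun V hV m => by
    rw [secMap_add, LinearMap.add_apply, secMap_fwd, secMap_fwd, secMap_fwd, comp_add, LinearMap.add_apply]

theorem fwd_res {U V : X.Opens} (h : V ≤ U) (s : Γ(homSheaf M N, U)) :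
    fwd ((homSheaf M N).presheaf.map (homOfLE h).op s) = (RefHull.homSh M N).presheaf.map (homOfLE h).op (fwd s) :=
  homSec_ext_secMap fun W hW m => by
    rw [secMap_fwd, comp_res]
    exact (secMap_fwd s (hW.trans h) m).symm.trans (secMap_res_left (fwd s) h hW m).symm

theorem fwd_smul {U : X.Opens} (r : Γ(X, U)) (s : Γ(homSheaf M N, U)) : fwd (r • s) = r • fwd s := by
  refine homSec_ext fun x => ?_
  refine LinearMap.ext fun m => ?_
  obtain ⟨V, hV, m, rfl⟩ := M.presheaf.exists_germ_eq m
  rw [fwd_apply, secStalk_germ, comp_smul, LinearMap.smul_apply, germ_smul]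
  change _ = X.presheaf.germ U x.1 x.2 r • (fwd s).1 x _
  rw [fwd_apply, secStalk_germ]
  congr 1
  exact TopCat.Presheaf.germ_res_apply X.presheaf _ x.1 _ r

/-- The comparison morphism. -/
def homShMap (M N : X.Modules) : homSheaf M N ⟶ RefHull.homSh M N :=
  homMkSec _ _ (fun U => { toFun := fwd, map_zero' := by
                              have := fwd_add (0 : Γ(homSheaf M N, U)) 0
                              rw [add_zero] at this
                              exact left_eq_add.mp this
                           map_add' := fwd_add })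
    (fun U r s => fwd_smul r s) (fun U V h s => fwd_res h s)

instance isIso_homShMap (M N : X.Modules) : IsIso (homShMap M N) := by
  rw [Scheme.Modules.Hom.isIso_iff_isIso_app]
  intro U
  rw [ConcreteCategory.isIso_iff_bijective]
  refine ⟨fun s t h => ?_, fun g => ⟨bwd g, fwd_bwd g⟩⟩
  have h1 : fwd s = fwd t := h
  rw [← bwd_fwd s, ← bwd_fwd t, h1]

/-- The isomorphism. -/
def homShIso (M N : X.Modules) : homSheaf M N ≅ RefHull.homSh M N := asIso (homShMap M N)

end K706.HomShIso
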