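import Mathlib.Algebra.Polynomial.Eval.Coeff
import Mathlib.Algebra.BigOperators.Ring.Finset
import Mathlib.Data.Nat.Choose.Sum
import Mathlib.LinearAlgebra.InvariantBasisNumber
import Mathlib.Algebra.Polynomial.BigOperators
import Mathlib.LinearAlgebra.Matrix.ToLin
import Mathlib.LinearAlgebra.FreeModule.StrongRankCondition
import Mathlib.RingTheory.PrincipalIdealDomain

/-!
# Elements of a commutative semiring whose powers are bounded by multiples of a fixed element
-/

set_option autoImplicit false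

open Polynomial

namespace K706.SemiFin

universe u

variable {R : Type u} [CommSemiring R]

/-- `x` is a summand of `y`. -/
def LeS (x y : R) : Prop := ∃ z, x + z = y

theorem LeS.refl (x : R) : LeS x x := ⟨0, add_zero x⟩

theorem LeS.trans {x y z : R} (h : LeS x y) (h' : LeS y z) : LeS x z := by
  obtain ⟨a, rfl⟩ := h
  obtain ⟨b, rfl⟩ := h'
  exact ⟨a + b, by ring⟩

theorem LeS.add {x y x' y' : R} (h : LeS x y) (h' : LeS x' y') : LeS (x + x') (y + y') := by
  obtain ⟨a, rfl⟩ := h
  obtain ⟨b, rfl⟩ := h'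
  exact ⟨a + b, by ring⟩

theorem LeS.mul {x y x' y' : R} (h : LeS x y) (h' : LeS x' y') : LeS (x * x') (y * y') := by
  obtain ⟨a, rfl⟩ := h
  obtain ⟨b, rfl⟩ := h'
  exact ⟨a * x' + x * b + a * b, by ring⟩

theorem LeS.pow {x y : R} (h : LeS x y) (n : ℕ) : LeS (x ^ n) (y ^ n) := by
  induction n with
  | zero => simpa using LeS.refl (1 : R)
  | succ n ih =>
    rw [pow_succ, pow_succ]
    exact ih.mul h

theorem LeS.nsmul {x y : R} (h : LeS x y) (n : ℕ) : LeS (n • x) (n • y) := by
  obtain ⟨a, rfl⟩ := h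
  exact ⟨n • a, by rw [nsmul_add]⟩

theorem LeS.sum {ι : Type*} (s : Finset ι) {x y : ι → R} (h : ∀ i ∈ s, LeS (x i) (y i)) :
    LeS (∑ i ∈ s, x i) (∑ i ∈ s, y i) := by
  classical
  induction s using Finset.induction_on with
  | empty => simpa using LeS.refl (0 : R)
  | insert a s ha ih =>
    rw [Finset.sum_insert ha, Finset.sum_insert ha]
    exact (h a (Finset.mem_insert_self _ _)).add (ih fun i hi => h i (Finset.mem_insert_of_mem hi))

/-- All powers of `x` are summands of multiples of `a`. -/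
def TF (a x : R) : Prop := ∀ n : ℕ, ∃ N : ℕ, LeS (x ^ n) (N • a)

theorem TF.mono {a x y : R} (h : TF a y) (hxy : LeS x y) : TF a x := fun n => by
  obtain ⟨N, hN⟩ := h n
  exact ⟨N, (hxy.pow n).trans hN⟩

theorem TF.mul {a b x y : R} (h : TF a x) (h' : TF b y) : TF (a * b) (x * y) := fun n => by
  obtain ⟨N, hN⟩ := h n
  obtain ⟨M, hM⟩ := h' n
  refine ⟨N * M, ?_⟩
  have := hN.mul hM
  rw [mul_pow]
  convert this using 1
  rw [smul_mul_smul_comm]

theorem TF.add {a b x y : R} (h : TF a x) (h' : TF b y) : TF (a * b) (x + y) := fun n => by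
  choose N hN using h
  choose M hM using h'
  refine ⟨∑ m ∈ Finset.range (n + 1), N m * M (n - m) * n.choose m, ?_⟩
  rw [add_pow, Finset.sum_smul]
  refine LeS.sum _ fun m _ => ?_
  have h1 := (((hN m).mul (hM (n - m))).nsmul (n.choose m))
  rw [nsmul_eq_mul, mul_comm] at h1
  convert h1 using 1
  rw [smul_mul_smul_comm, smul_smul, mul_comm (n.choose m)]

/-- Two distinct polynomials with natural number coefficients agree at `x`. -/
def WF (x : R) : Prop := ∃ P Q : ℕ[X], P ≠ Q ∧ P.eval₂ (Nat.castRingHom R) x = Q.eval₂ (Nat.castRingHom R) x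

theorem eval₂_eq_sum_fin (P : ℕ[X]) (x : R) :
    P.eval₂ (Nat.castRingHom R) x = ∑ i : Fin (P.natDegree + 1), P.coeff i • x ^ (i : ℕ) := by
  rw [eval₂_eq_sum_range, ← Fin.sum_univ_eq_sum_range (fun i => Nat.castRingHom R (P.coeff i) * x ^ i) (P.natDegree + 1)]
  simp [nsmul_eq_mul]

/-- More than `m` vectors in `ℕ^m` satisfy a nontrivial integral linear relation. -/
theorem exists_relation (m : ℕ) (b : ℕ → Fin m → ℕ) :
    ∃ c : Fin (m + 1) → ℤ, c ≠ 0 ∧ ∀ j, ∑ n : Fin (m + 1), c n * (b (n : ℕ) j : ℤ) = 0 := by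
  let f : (Fin (m + 1) → ℤ) →ₗ[ℤ] (Fin m → ℤ) :=
    Matrix.mulVecLin (Matrix.of fun (j : Fin m) (n : Fin (m + 1)) => (b n j : ℤ))
  have hf : ∀ c j, f c j = ∑ n : Fin (m + 1), c n * (b (n : ℕ) j : ℤ) := fun c j => by
    change ∑ n : Fin (m + 1), (b (n : ℕ) j : ℤ) * c n = _
    exact Finset.sum_congr rfl fun n _ => mul_comm _ _
  have h1 : ¬ Function.Injective f := fun h => by
    have := le_of_fin_injective ℤ f h
    omega
  rw [← LinearMap.ker_eq_bot, Submodule.eq_bot_iff] at h1
  push Not at h1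
  obtain ⟨c, hc, hc0⟩ := h1
  refine ⟨c, hc0, fun j => ?_⟩
  rw [← hf, (LinearMap.mem_ker.mp hc)]
  rfl

/-- If all powers of `x` are natural linear combinations of finitely many elements, then `x` satisfies
a nontrivial relation. -/
theorem WF.of_span {x : R} (m : ℕ) (w : Fin m → R) (h : ∀ n : ℕ, ∃ b : Fin m → ℕ, x ^ n = ∑ j, b j • w j) : WF x := by
  choose b hb using h
  obtain ⟨c, hc0, hc⟩ := exists_relation m b
  let P : (Fin (m + 1) → ℕ) → ℕ[X] := fun a => ∑ n : Fin (m + 1), C (a n) * X ^ (n : ℕ)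
  have hP : ∀ a (n : Fin (m + 1)), (P a).coeff n = a n := fun a n => by
    simp only [P, finsetSum_coeff, coeff_C_mul, coeff_X_pow]
    rw [Finset.sum_eq_single n]
    · simp
    · intro j _ hj
      rw [if_neg (fun h => hj (Fin.ext h.symm)), mul_zero]
    · intro h
      exact absurd (Finset.mem_univ n) h
  have he : ∀ a, (P a).eval₂ (Nat.castRingHom R) x = ∑ j, (∑ n : Fin (m + 1), a n * b n j) • w j := fun a => by
    simp only [P, eval₂_finsetSum, eval₂_mul, eval₂_C, eval₂_pow, eval₂_X]
    have : ∀ n : Fin (m + 1), (Nat.castRingHom R) (a n) * x ^ (n : ℕ) = ∑ j, (a n * b n j) • w j := fun n => by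
      rw [hb n]
      simp only [eq_natCast, Finset.mul_sum, nsmul_eq_mul, Nat.cast_mul, mul_assoc]
    rw [Finset.sum_congr rfl fun n _ => this n, Finset.sum_comm]
    refine Finset.sum_congr rfl fun j _ => ?_
    rw [Finset.sum_smul]
  refine ⟨P fun n => (c n).toNat, P fun n => (-c n).toNat, ?_, ?_⟩
  · intro h
    apply hc0
    funext n
    have h1 := congrArg (fun q => q.coeff (n : ℕ)) h
    simp only [hP] at h1
    change c n = 0
    omega
  · rw [he, he]
    refine Finset.sum_congr rfl fun j _ => ?_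
    congr 1
    have h1 := hc j
    have h2 : ∀ n : Fin (m + 1), c n * (b n j : ℤ) = ((c n).toNat : ℤ) * (b n j : ℤ) - ((-c n).toNat : ℤ) * (b n j : ℤ) := fun n => by
      rw [← sub_mul]
      congr 1
      omega
    rw [Finset.sum_congr rfl fun n _ => h2 n, Finset.sum_sub_distrib, sub_eq_zero] at h1
    exact_mod_cast h1

/-- The recursion behind `WF`: an additive function vanishing on small powers vanishes on all powers. -/
theorem WF.exists_bound {x : R} (h : WF x) : ∃ d : ℕ, ∀ (μ : ℕ → ℕ),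
    (∀ n, ∀ P Q : ℕ[X], P.eval₂ (Nat.castRingHom R) x = Q.eval₂ (Nat.castRingHom R) x →
      ∑ i ∈ Finset.range (P.natDegree + 1), P.coeff i * μ (i + n) =
        ∑ i ∈ Finset.range (Q.natDegree + 1), Q.coeff i * μ (i + n)) →
    (∀ i < d, μ i = 0) → ∀ n, μ n = 0 := by
  obtain ⟨P, Q, hPQ, he⟩ := h
  let p : ℤ[X] := P.map (Int.ofNatHom) - Q.map (Int.ofNatHom)
  have hp : p ≠ 0 := fun h => hPQ (by
    rw [sub_eq_zero] at h
    exact Polynomial.map_injective _ (fun a b hab => by simpa using hab) h)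
  refine ⟨p.natDegree, fun μ hμ h0 n => ?_⟩
  have hrel : ∀ n, ∑ i ∈ Finset.range (p.natDegree + 1), p.coeff i * (μ (i + n) : ℤ) = 0 := fun n => by
    have h1 := hμ n P Q he
    let D := max (max P.natDegree Q.natDegree) p.natDegree + 1
    have hext : ∀ (q : ℤ[X]), q.natDegree + 1 ≤ D → ∑ i ∈ Finset.range (q.natDegree + 1), q.coeff i * (μ (i + n) : ℤ) =
        ∑ i ∈ Finset.range D, q.coeff i * (μ (i + n) : ℤ) := fun q hq => by
      refine Finset.sum_subset (Finset.range_mono hq) fun i _ hi => ?_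
      rw [Finset.mem_range, not_lt] at hi
      rw [Polynomial.coeff_eq_zero_of_natDegree_lt (by omega), zero_mul]
    have hextN : ∀ (q : ℕ[X]), q.natDegree + 1 ≤ D → ((∑ i ∈ Finset.range (q.natDegree + 1), q.coeff i * μ (i + n) : ℕ) : ℤ) =
        ∑ i ∈ Finset.range D, (q.coeff i : ℤ) * (μ (i + n) : ℤ) := fun q hq => by
      rw [← Finset.sum_subset (Finset.range_mono hq) (fun i _ hi => ?_)]
      · push_cast
        rfl
      · rw [Finset.mem_range, not_lt] at hi
        rw [Polynomial.coeff_eq_zero_of_natDegree_lt (by omega), Nat.cast_zero, zero_mul]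
    rw [hext p (by omega)]
    have h2 : ∀ i, p.coeff i = (P.coeff i : ℤ) - (Q.coeff i : ℤ) := fun i => by
      simp [p]
    simp only [h2, sub_mul, Finset.sum_sub_distrib]
    rw [← hextN P (by omega), ← hextN Q (by omega), h1, sub_self]
  induction n using Nat.strong_induction_on with
  | _ n ih =>
    rcases lt_or_ge n p.natDegree with hn | hn
    · exact h0 n hn
    · have h1 := hrel (n - p.natDegree)
      rw [Finset.sum_range_succ, Finset.sum_eq_zero, zero_add] at h1
      · rw [Nat.add_sub_cancel' hn] at h1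
        rcases mul_eq_zero.mp h1 with h2 | h2
        · exact absurd h2 (by rw [← Polynomial.leadingCoeff]; exact Polynomial.leadingCoeff_ne_zero.mpr hp)
        · exact_mod_cast h2
      · intro i hi
        rw [Finset.mem_range] at hi
        rw [ih (i + (n - p.natDegree)) (by omega), Nat.cast_zero, mul_zero]

end K706.SemiFin
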