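import Groth.Agent.VBCurve.K706.IsoCl
import Groth.Agent.VBCurve.K706.SemiFin

/-!
# Finite objects (in the sense of Weil) in a Krull-Schmidt symmetric monoidal category
-/

set_option autoImplicit false
set_option linter.unusedSectionVars false

open CategoryTheory CategoryTheory.Limits MonoidalCategory

namespace K706.KSFin

open K706.Sem K706.SemiFin K706.KS

universe w v u

section Add

variable {C : Type u} [Category.{v} C] [Preadditive C] [HasBinaryBiproducts C] [HasZeroObject C] [HasFiniteBiproducts C]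

/-- A local retract of a finite biproduct is a retract of one of the summands. -/
theorem exists_retract_of_biproduct {V : C} (hV : IsLoc V) {ι : Type} [Fintype ι] (W : ι → C)
    (r : Retract V (⨁ W)) : ∃ j, Nonempty (Retract V (W j)) := by
  have h1 : IsIso (∑ j, r.i ≫ (biproduct.π W j ≫ biproduct.ι W j) ≫ r.r) := by
    have : ∑ j, r.i ≫ (biproduct.π W j ≫ biproduct.ι W j) ≫ r.r = 𝟙 V := by
      rw [← Preadditive.comp_sum, ← Preadditive.sum_comp, biproduct.total, Category.id_comp, r.retract]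
    rw [this]
    infer_instance
  obtain ⟨j, -, hj⟩ := hV.exists_of_sum _ _ h1
  refine ⟨j, ⟨⟨r.i ≫ biproduct.π W j, biproduct.ι W j ≫ r.r ≫ inv (r.i ≫ (biproduct.π W j ≫ biproduct.ι W j) ≫ r.r), ?_⟩⟩⟩
  have := IsIso.hom_inv_id (r.i ≫ (biproduct.π W j ≫ biproduct.ι W j) ≫ r.r)
  simpa only [Category.assoc] using this

/-- In an idempotent complete category a retract is a direct summand. -/
theorem leS_of_retract [IsIdempotentComplete C] {E F : C} (r : Retract E F) : ∃ Z : C, Nonempty (F ≅ E ⊞ Z) := by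
  have h1 : (r.r ≫ r.i) ≫ (r.r ≫ r.i) = r.r ≫ r.i := by
    rw [Category.assoc, r.retract_assoc]
  have he' : (𝟙 F - r.r ≫ r.i) ≫ (𝟙 F - r.r ≫ r.i) = 𝟙 F - r.r ≫ r.i := by
    rw [Preadditive.sub_comp, Preadditive.comp_sub, Preadditive.comp_sub, h1]
    simp
  obtain ⟨G, j, q, hjq, hqj⟩ := IsIdempotentComplete.idempotents_split F _ he'
  have hiq : r.i ≫ q = 0 := by
    have h2 : r.i ≫ (𝟙 F - r.r ≫ r.i) = 0 := by
      rw [Preadditive.comp_sub, r.retract_assoc, Category.comp_id, sub_self]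
    calc r.i ≫ q = r.i ≫ q ≫ (j ≫ q) := by rw [hjq, Category.comp_id]
      _ = (r.i ≫ q ≫ j) ≫ q := by simp only [Category.assoc]
      _ = 0 := by rw [hqj, h2, zero_comp]
  have hjp : j ≫ r.r = 0 := by
    have h3 : j ≫ (𝟙 F - r.r ≫ r.i) = j := by rw [← hqj, ← Category.assoc, hjq, Category.id_comp]
    have h2 : j ≫ r.r ≫ r.i = 0 := by
      rw [Preadditive.comp_sub, Category.comp_id] at h3
      exact sub_eq_self.mp h3
    calc j ≫ r.r = j ≫ r.r ≫ (r.i ≫ r.r) := by rw [r.retract, Category.comp_id]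
      _ = (j ≫ r.r ≫ r.i) ≫ r.r := by simp only [Category.assoc]
      _ = 0 := by rw [h2, zero_comp]
  exact ⟨G, ⟨{ hom := biprod.lift r.r q
               inv := biprod.desc r.i j
               hom_inv_id := by
                rw [biprod.lift_desc, hqj]
                abel
               inv_hom_id := by
                ext <;> simp [hjq, hiq, hjp] }⟩⟩

/-- A direct summand is a retract. -/
noncomputable def retractOfIso {E F Z : C} (e : F ≅ E ⊞ Z) : Retract E F := ⟨biprod.inl ≫ e.inv, e.hom ≫ biprod.fst, by simp⟩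

/-- A summand of a biproduct of copies. -/
noncomputable def retractCopies {ι : Type} [Fintype ι] (W : ι → C) (a : ι) : Retract (W a) (⨁ W) :=
  ⟨biproduct.ι W a, biproduct.π W a, by simp⟩

end Add

section Mu

variable {C : Type u} [Category.{v} C] [Preadditive C] (k : Type w) [Field k] [Linear k C]

/-- The multiplicity of a local object, on isomorphism classes. -/
noncomputable def mu {W : C} (hW : IsLoc W) (x : IsoCl C) : ℕ :=
  Quotient.lift (s := isIsomorphicSetoid C) (fun E => mult k hW E) (fun _ _ h => mult_congr k hW h.some) x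

theorem mu_cl {W : C} (hW : IsLoc W) (E : C) : mu k hW (cl E) = mult k hW E := rfl

end Mu

section Main

variable {C : Type u} [Category.{v} C] [Preadditive C] [HasBinaryBiproducts C] [HasZeroObject C] [HasFiniteBiproducts C]
  [MonoidalCategory C] [SymmetricCategory C] [MonoidalPreadditive C] [IsIdempotentComplete C]
  (k : Type w) [Field k] [Linear k C]

/-- A class of objects with finite-dimensional Hom's which is closed under retracts, sums and tensor products. -/
structure Good (G : C → Prop) : Prop where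
  fin : ∀ {E F : C}, G E → G F → Module.Finite k (E ⟶ F)
  ret : ∀ {E F : C}, Retract E F → G F → G E
  sum : ∀ {E F : C}, G E → G F → G (E ⊞ F)
  ten : ∀ {E F : C}, G E → G F → G (E ⊗ F)
  unit : G (𝟙_ C)

variable {k} {G : C → Prop} (hG : Good k G)

include hG

theorem Good.iso {E F : C} (e : E ≅ F) (h : G F) : G E := hG.ret ⟨e.hom, e.inv, by simp⟩ h

omit hG in
/-- A class is good if its members are. -/
def GG (G : C → Prop) (x : IsoCl C) : Prop := ∃ E : C, G E ∧ cl E = x

theorem gg_cl {E : C} : GG G (cl E) ↔ G E :=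
  ⟨fun ⟨F, hF, h⟩ => by
    obtain ⟨e⟩ := cl_eq_iff.mp h
    exact hG.iso e.symm hF, fun h => ⟨E, h, rfl⟩⟩

theorem gg_add {x y : IsoCl C} (hx : GG G x) (hy : GG G y) : GG G (x + y) := by
  obtain ⟨E, hE, rfl⟩ := hx
  obtain ⟨F, hF, rfl⟩ := hy
  exact ⟨E ⊞ F, hG.sum hE hF, rfl⟩

theorem gg_mul {x y : IsoCl C} (hx : GG G x) (hy : GG G y) : GG G (x * y) := by
  obtain ⟨E, hE, rfl⟩ := hx
  obtain ⟨F, hF, rfl⟩ := hy
  exact ⟨E ⊗ F, hG.ten hE hF, rfl⟩

theorem gg_one : GG G (1 : IsoCl C) := ⟨_, hG.unit, rfl⟩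

theorem gg_leS {x y : IsoCl C} (h : LeS x y) (hy : GG G y) : GG G x := by
  obtain ⟨z, rfl⟩ := h
  induction x using ind with | _ X
  induction z using ind with | _ Z
  rw [← cl_biprod, gg_cl hG] at hy
  exact ⟨X, hG.ret ⟨biprod.inl, biprod.fst, by simp⟩ hy, rfl⟩

theorem gg_zero : GG G (0 : IsoCl C) := gg_leS hG ⟨1, zero_add 1⟩ (gg_one hG)

theorem gg_pow {x : IsoCl C} (hx : GG G x) (n : ℕ) : GG G (x ^ n) := by
  induction n with
  | zero => rw [pow_zero]; exact gg_one hG
  | succ n ih => rw [pow_succ]; exact gg_mul hG ih hx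

theorem gg_nsmul {x : IsoCl C} (hx : GG G x) (n : ℕ) : GG G (n • x) := by
  induction n with
  | zero => rw [zero_smul]; exact gg_zero hG
  | succ n ih => rw [succ_nsmul]; exact gg_add hG ih hx

theorem gg_sum {ι : Type*} (s : Finset ι) {x : ι → IsoCl C} (hx : ∀ i ∈ s, GG G (x i)) : GG G (∑ i ∈ s, x i) := by
  classical
  induction s using Finset.induction_on with
  | empty => rw [Finset.sum_empty]; exact gg_zero hG
  | insert a s ha ih =>
    rw [Finset.sum_insert ha]
    exact gg_add hG (hx a (Finset.mem_insert_self _ _)) (ih fun i hi => hx i (Finset.mem_insert_of_mem hi))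

/-- Decomposition of a good object into good local objects. -/
theorem exists_loc {E : C} (hE : G E) : ∃ (m : ℕ) (W : Fin m → C), (∀ i, IsLoc (W i)) ∧ (∀ i, G (W i)) ∧
    (∀ i, Nonempty (Retract (W i) E)) ∧ cl E = ∑ i, cl (W i) := by
  obtain ⟨m, W, hW, ⟨e⟩⟩ := exists_decomposition k E (hG.fin hE hE)
  have hr : ∀ i, Retract (W i) E := fun i =>
    ⟨biproduct.ι W i ≫ e.inv, e.hom ≫ biproduct.π W i, by simp⟩
  exact ⟨m, W, hW, fun i => hG.ret (hr i) hE, fun i => ⟨hr i⟩, by rw [cl_eq e, cl_biproduct]⟩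

/-- A summand of a multiple of a sum of local objects is a sum of these local objects. -/
theorem exists_multiplicities {m : ℕ} {W : Fin m → C} (hW : ∀ i, IsLoc (W i)) {F : C} (hF : G F) (N : ℕ)
    (h : LeS (cl F) (N • ∑ i, cl (W i))) : ∃ b : Fin m → ℕ, cl F = ∑ j, b j • cl (W j) := by
  classical
  obtain ⟨z, hz⟩ := h
  induction z using ind with | _ Z
  rw [← cl_biproduct, ← cl_copies', ← cl_biprod] at hz
  obtain ⟨e⟩ := cl_eq_iff.mp hz
  obtain ⟨l, V, hV, hVG, hr, hsum⟩ := exists_loc hG hF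
  have key : ∀ a, ∃ j, cl (V a) = cl (W j) := fun a => by
    obtain ⟨r⟩ := hr a
    have r1 : Retract (V a) (⨁ fun _ : Fin N => ⨁ W) :=
      ⟨r.i ≫ biprod.inl ≫ e.hom, e.inv ≫ biprod.fst ≫ r.r, by simp⟩
    obtain ⟨j, ⟨r2⟩⟩ := exists_retract_of_biproduct (hV a) _ r1
    obtain ⟨j', ⟨r3⟩⟩ := exists_retract_of_biproduct (hV a) W r2
    obtain ⟨e'⟩ := (hV a).nonempty_iso (hW j') r3
    exact ⟨j', cl_eq e'⟩
  choose j hj using key
  refine ⟨fun t => (Finset.univ.filter fun a => j a = t).card, ?_⟩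
  rw [hsum]
  have : ∀ t, (Finset.univ.filter fun a => j a = t).card • cl (W t) =
      ∑ a ∈ Finset.univ.filter (fun a => j a = t), cl (V a) := fun t => by
    rw [← Finset.sum_const]
    refine Finset.sum_congr rfl fun a ha => ?_
    rw [Finset.mem_filter] at ha
    rw [hj a, ha.2]
  rw [Finset.sum_congr rfl fun t _ => this t]
  exact (Finset.sum_fiberwise _ _ _).symm

/-- If all tensor powers of `E` are summands of multiples of a good object then `E` is finite in the sense of Weil. -/
theorem wf_of_tf {a x : IsoCl C} (ha : GG G a) (hx : GG G x) (h : TF a x) : WF x := by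
  obtain ⟨A, hA, rfl⟩ := ha
  obtain ⟨m, W, hW, -, -, hsum⟩ := exists_loc hG hA
  refine WF.of_span m (fun j => cl (W j)) fun n => ?_
  obtain ⟨N, hN⟩ := h n
  obtain ⟨F, hF, hFx⟩ := gg_pow hG hx n
  rw [← hFx] at hN ⊢
  rw [hsum] at hN
  exact exists_multiplicities hG hW hF N hN

theorem mu_add {W : C} (hW : IsLoc W) (hWG : G W) {x y : IsoCl C} (hx : GG G x) (hy : GG G y) :
    mu k hW (x + y) = mu k hW x + mu k hW y := by
  obtain ⟨E, hE, rfl⟩ := hx
  obtain ⟨F, hF, rfl⟩ := hy
  let f : Fin 2 → C := ![E, F]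
  have h1 : cl E + cl F = cl (⨁ f) := by
    rw [cl_biproduct_fin, Fin.sum_univ_two]
    rfl
  rw [h1, mu_cl, mu_cl, mu_cl, mult_biproduct k hW f (fun i => ?_), Fin.sum_univ_two]
  · rfl
  · fin_cases i
    · exact hG.fin hWG hE
    · exact hG.fin hWG hF

theorem mu_zero {W : C} (hW : IsLoc W) (hWG : G W) : mu k hW 0 = 0 := by
  have := mu_add hG hW hWG (gg_zero hG) (gg_zero hG)
  rw [add_zero] at this
  omega

theorem mu_nsmul {W : C} (hW : IsLoc W) (hWG : G W) {x : IsoCl C} (hx : GG G x) (n : ℕ) :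
    mu k hW (n • x) = n * mu k hW x := by
  induction n with
  | zero => rw [zero_smul, mu_zero hG hW hWG, zero_mul]
  | succ n ih => rw [succ_nsmul, mu_add hG hW hWG (gg_nsmul hG hx n) hx, ih]; ring

theorem mu_sum {W : C} (hW : IsLoc W) (hWG : G W) {ι : Type*} (s : Finset ι) {x : ι → IsoCl C}
    (hx : ∀ i ∈ s, GG G (x i)) : mu k hW (∑ i ∈ s, x i) = ∑ i ∈ s, mu k hW (x i) := by
  classical
  induction s using Finset.induction_on with
  | empty => rw [Finset.sum_empty, Finset.sum_empty]; exact mu_zero hG hW hWG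
  | insert a s ha ih =>
    have h1 : ∀ i ∈ s, GG G (x i) := fun i hi => hx i (Finset.mem_insert_of_mem hi)
    rw [Finset.sum_insert ha, Finset.sum_insert ha,
      mu_add hG hW hWG (hx a (Finset.mem_insert_self _ _)) (gg_sum hG s h1), ih h1]

theorem mu_pos_iff {W : C} (hW : IsLoc W) (hWG : G W) {E : C} (hE : G E) :
    0 < mu k hW (cl E) ↔ Nonempty (Retract W E) := mult_pos_iff k hW (hG.fin hWG hE)

theorem mu_eval {W : C} (hW : IsLoc W) (hWG : G W) {x : IsoCl C} (hx : GG G x) (P : Polynomial ℕ) (n : ℕ) :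
    mu k hW (P.eval₂ (Nat.castRingHom (IsoCl C)) x * x ^ n) =
      ∑ i ∈ Finset.range (P.natDegree + 1), P.coeff i * mu k hW (x ^ (i + n)) := by
  rw [Polynomial.eval₂_eq_sum_range, Finset.sum_mul]
  have h1 : ∀ i, (Nat.castRingHom (IsoCl C)) (P.coeff i) * x ^ i * x ^ n = P.coeff i • x ^ (i + n) := fun i => by
    rw [pow_add, nsmul_eq_mul, mul_assoc]
    rfl
  rw [Finset.sum_congr rfl fun i _ => h1 i,
    mu_sum hG hW hWG _ fun i _ => gg_nsmul hG (gg_pow hG hx _) _]
  exact Finset.sum_congr rfl fun i _ => mu_nsmul hG hW hWG (gg_pow hG hx _) _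

/-- A good object which is finite in the sense of Weil has all its tensor powers summands of multiples of a fixed good object. -/
theorem tf_of_wf {x : IsoCl C} (hx : GG G x) (h : WF x) : ∃ a, GG G a ∧ TF a x := by
  obtain ⟨d, hd⟩ := h.exists_bound
  choose T hT hTx using fun n => gg_pow hG hx n
  refine ⟨∑ i ∈ Finset.range d, x ^ i, gg_sum hG _ fun i _ => gg_pow hG hx i, fun n => ?_⟩
  obtain ⟨m, V, hV, hVG, hr, hsum⟩ := exists_loc hG (hT n)
  refine ⟨m, ?_⟩
  rw [← hTx n, hsum]
  have key : ∀ a, LeS (cl (V a)) (∑ i ∈ Finset.range d, x ^ i) := fun a => by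
    have h1 : ¬ ∀ i < d, mu k (hV a) (x ^ i) = 0 := fun h0 => by
      have h2 := hd (fun n => mu k (hV a) (x ^ n)) (fun n P Q hPQ => by
        rw [← mu_eval hG (hV a) (hVG a) hx, hPQ, mu_eval hG (hV a) (hVG a) hx]) h0 n
      have h3 := (mu_pos_iff hG (hV a) (hVG a) (hT n)).mpr (hr a)
      rw [hTx n] at h3
      exact absurd h2 h3.ne'
    push Not at h1
    obtain ⟨i, hi, hi0⟩ := h1
    have h4 : 0 < mu k (hV a) (cl (T i)) := by
      rw [hTx i]
      exact Nat.pos_of_ne_zero hi0
    obtain ⟨r⟩ := (mu_pos_iff hG (hV a) (hVG a) (hT i)).mp h4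
    obtain ⟨Z, ⟨e⟩⟩ := leS_of_retract r
    have h5 : LeS (cl (V a)) (x ^ i) := ⟨cl Z, by rw [← cl_biprod, ← cl_eq e, hTx i]⟩
    refine h5.trans ?_
    rw [← Finset.sum_erase_add _ _ (Finset.mem_range.mpr hi)]
    exact ⟨∑ j ∈ (Finset.range d).erase i, x ^ j, add_comm _ _⟩
  have h2 := LeS.sum Finset.univ fun a _ => key a
  rwa [Finset.sum_const, Finset.card_univ, Fintype.card_fin] at h2

theorem wf_add {x y : IsoCl C} (hx : GG G x) (hy : GG G y) (h : WF x) (h' : WF y) : WF (x + y) := by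
  obtain ⟨a, ha, h1⟩ := tf_of_wf hG hx h
  obtain ⟨b, hb, h2⟩ := tf_of_wf hG hy h'
  exact wf_of_tf hG (gg_mul hG ha hb) (gg_add hG hx hy) (h1.add h2)

theorem wf_mul {x y : IsoCl C} (hx : GG G x) (hy : GG G y) (h : WF x) (h' : WF y) : WF (x * y) := by
  obtain ⟨a, ha, h1⟩ := tf_of_wf hG hx h
  obtain ⟨b, hb, h2⟩ := tf_of_wf hG hy h'
  exact wf_of_tf hG (gg_mul hG ha hb) (gg_mul hG hx hy) (h1.mul h2)

theorem wf_leS {x y : IsoCl C} (hxy : LeS x y) (hy : GG G y) (h : WF y) : WF x := by
  obtain ⟨a, ha, h1⟩ := tf_of_wf hG hy h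
  exact wf_of_tf hG ha (gg_leS hG hxy hy) (h1.mono hxy)

/-- If `E` becomes a multiple after multiplication with a good `a` of which the unit is a summand, then
`E` is finite in the sense of Weil. -/
theorem wf_of_mul_eq {a x : IsoCl C} (ha : GG G a) (h1 : LeS 1 a) (r : ℕ) (h : x * a = r • a) : WF x := by
  have hx : LeS x (r • a) := by
    rw [← h]
    have := LeS.mul (LeS.refl x) h1
    rwa [mul_one] at this
  have hxG : GG G x := gg_leS hG hx (gg_nsmul hG ha r)
  refine wf_of_tf hG ha hxG fun n => ⟨r ^ n, ?_⟩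
  have h2 : x ^ n * a = r ^ n • a := by
    induction n with
    | zero => simp
    | succ n ih => rw [pow_succ, mul_assoc, h, mul_smul_comm, ih, smul_smul, pow_succ, mul_comm]
  rw [← h2]
  have := LeS.mul (LeS.refl (x ^ n)) h1
  rwa [mul_one] at this

/-- An element with an inverse is finite in the sense of Weil iff it is torsion, if the unit is local. -/
theorem wf_iff_of_invertible {x y : IsoCl C} (hx : GG G x) (hy : GG G y) (hxy : x * y = 1) (hloc : IsLoc (𝟙_ C)) :
    WF x ↔ ∃ m : ℕ, 0 < m ∧ x ^ m = 1 := by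
  constructor
  · rintro ⟨P, Q, hPQ, he⟩
    by_contra hcon
    push Not at hcon
    apply hPQ
    have hmu : ∀ n j : ℕ, 0 < mu k hloc (x ^ n * y ^ j) ↔ n = j := fun n j => by
      obtain ⟨F, hF, hFx⟩ := gg_mul hG (gg_pow hG hx n) (gg_pow hG hy j)
      rw [← hFx, mu_pos_iff hG hloc hG.unit hF]
      constructor
      · rintro ⟨r⟩
        -- the unit is a summand of the invertible object `F`
        obtain ⟨Z, ⟨e⟩⟩ := leS_of_retract r
        have h1 : x ^ n * y ^ j = 1 + cl Z := by rw [← hFx, cl_eq e, cl_biprod, cl_unit]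
        have h2 : (x ^ n * y ^ j) * (y ^ n * x ^ j) = 1 := by
          calc (x ^ n * y ^ j) * (y ^ n * x ^ j) = (x * y) ^ n * (x * y) ^ j := by ring
            _ = 1 := by rw [hxy, one_pow, one_pow, mul_one]
        rw [h1, add_mul, one_mul] at h2
        -- `1 = u + z * u` with `u` invertible; by locality of the unit `z * u = 0`
        obtain ⟨U, hU, hUx⟩ := gg_mul hG (gg_pow hG hy n) (gg_pow hG hx j)
        have h3 : cl U + cl (Z ⊗ U) = 1 := by rw [cl_tensor, hUx, h2]
        rw [← cl_biprod, ← cl_unit] at h3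
        obtain ⟨e3⟩ := cl_eq_iff.mp h3
        have hid := hloc.idem (e3.inv ≫ biprod.fst ≫ biprod.inl ≫ e3.hom) (by simp)
        have hUz : cl U ≠ 0 := fun h0 => by
          have h5 : x ^ n * y ^ j * cl U = 1 := by
            rw [hUx]
            calc (x ^ n * y ^ j) * (y ^ n * x ^ j) = (x * y) ^ n * (x * y) ^ j := by ring
              _ = 1 := by rw [hxy, one_pow, one_pow, mul_one]
          rw [h0, mul_zero] at h5
          exact hloc.1 (cl_eq_zero_iff.mp (by rw [cl_unit]; exact h5.symm))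
        rcases hid with h0 | h0
        · exfalso
          apply hUz
          rw [cl_eq_zero_iff, IsZero.iff_id_eq_zero]
          calc 𝟙 U = biprod.inl ≫ e3.hom ≫ (e3.inv ≫ biprod.fst ≫ biprod.inl ≫ e3.hom) ≫ e3.inv ≫ biprod.fst := by simp
            _ = 0 := by rw [h0]; simp
        · have hZU : cl (Z ⊗ U) = 0 := by
            rw [cl_eq_zero_iff, IsZero.iff_id_eq_zero]
            have h6 : (biprod.inr : Z ⊗ U ⟶ U ⊞ (Z ⊗ U)) ≫ e3.hom = 0 := by
              calc (biprod.inr : Z ⊗ U ⟶ U ⊞ (Z ⊗ U)) ≫ e3.hom =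
                  biprod.inr ≫ e3.hom ≫ (e3.inv ≫ biprod.fst ≫ biprod.inl ≫ e3.hom) := by rw [h0, Category.comp_id]
                _ = 0 := by simp
            calc 𝟙 (Z ⊗ U) = (biprod.inr ≫ e3.hom) ≫ e3.inv ≫ biprod.snd := by simp
              _ = 0 := by rw [h6, zero_comp]
          have hU1 : cl U = 1 := by
            rw [cl_biprod, hZU, add_zero, cl_unit] at h3
            exact h3
          rw [hUx] at hU1
          by_contra hne
          rcases lt_or_gt_of_ne hne with hlt | hlt
          · apply hcon (j - n) (by omega)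
            calc x ^ (j - n) = (x * y) ^ n * x ^ (j - n) := by rw [hxy, one_pow, one_mul]
              _ = y ^ n * (x ^ n * x ^ (j - n)) := by ring
              _ = 1 := by rw [← pow_add, Nat.add_sub_cancel' hlt.le, hU1]
          · apply hcon (n - j) (by omega)
            calc x ^ (n - j) = x ^ (n - j) * (y ^ n * x ^ j) := by rw [hU1, mul_one]
              _ = x ^ (n - j + j) * y ^ n := by ring
              _ = (x * y) ^ n := by rw [Nat.sub_add_cancel hlt.le, mul_pow]
              _ = 1 := by rw [hxy, one_pow]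
      · rintro rfl
        have h1 : cl F = cl (𝟙_ C) := by
          rw [hFx, cl_unit, ← mul_pow, hxy, one_pow]
        obtain ⟨e⟩ := cl_eq_iff.mp h1
        exact ⟨⟨e.inv, e.hom, by simp⟩⟩
    -- compare coefficients
    have hcoef : ∀ (P : Polynomial ℕ) (j : ℕ), mu k hloc (P.eval₂ (Nat.castRingHom (IsoCl C)) x * y ^ j) =
        P.coeff j * mu k hloc (x ^ j * y ^ j) := fun P j => by
      rw [Polynomial.eval₂_eq_sum_range, Finset.sum_mul]
      have h1 : ∀ i, (Nat.castRingHom (IsoCl C)) (P.coeff i) * x ^ i * y ^ j = P.coeff i • (x ^ i * y ^ j) := fun i => by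
        rw [nsmul_eq_mul, mul_assoc]
        rfl
      have hgg : ∀ i, GG G (x ^ i * y ^ j) := fun i => gg_mul hG (gg_pow hG hx i) (gg_pow hG hy j)
      rw [Finset.sum_congr rfl fun i _ => h1 i,
        mu_sum hG hloc hG.unit _ fun i _ => gg_nsmul hG (hgg i) _]
      rw [Finset.sum_congr rfl fun i _ => mu_nsmul hG hloc hG.unit (hgg i) _]
      by_cases hj : j ∈ Finset.range (P.natDegree + 1)
      · rw [Finset.sum_eq_single_of_mem j hj]
        intro i _ hij
        have := (hmu i j).not.mpr hij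
        rw [not_lt, Nat.le_zero] at this
        rw [this, mul_zero]
      · rw [Finset.mem_range, not_lt] at hj
        rw [Polynomial.coeff_eq_zero_of_natDegree_lt (by omega), zero_mul]
        refine Finset.sum_eq_zero fun i hi => ?_
        rw [Finset.mem_range] at hi
        have := (hmu i j).not.mpr (by omega)
        rw [not_lt, Nat.le_zero] at this
        rw [this, mul_zero]
    ext j
    have h1 := hcoef P j
    rw [he, hcoef Q j] at h1
    exact (Nat.eq_of_mul_eq_mul_right ((hmu j j).mpr rfl) h1).symm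
  · rintro ⟨m, hm, h⟩
    refine ⟨Polynomial.X ^ m, 1, fun h1 => ?_, ?_⟩
    · have := congrArg Polynomial.natDegree h1
      rw [Polynomial.natDegree_X_pow, Polynomial.natDegree_one] at this
      omega
    · simp [h]

end Main

end K706.KSFin
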