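import Mathlib.CategoryTheory.Linear.Basic
import Mathlib.CategoryTheory.Preadditive.Biproducts
import Mathlib.CategoryTheory.Idempotents.Basic
import Mathlib.CategoryTheory.Retract
import Mathlib.FieldTheory.Minpoly.Field
import Mathlib.LinearAlgebra.Dimension.Finite
import Mathlib.RingTheory.Polynomial.Basic
import Mathlib.Algebra.Polynomial.Div
import Mathlib.RingTheory.Coprime.Lemmas

/-!
# Krull-Schmidt theory in a `k`-linear category, part 1: local objects

`IsLoc W`: `W` is nonzero and, if a sum of two endomorphisms of `W` is invertible, one of them is.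
`isLoc_of_finite`: an object with finite-dimensional endomorphism algebra and only trivial idempotents
is local.
-/

set_option autoImplicit false

open CategoryTheory CategoryTheory.Limits

namespace K706.KS

universe w v u

section Alg

variable {k : Type w} [Field k] {A : Type v} [Ring A] [Algebra k A]

open Polynomial in
/-- In an algebra, an integral element is a unit or nilpotent, or produces a nontrivial idempotent. -/
theorem isUnit_or_isNilpotent {a : A} (ha : IsIntegral k a) (hid : ∀ e : A, e * e = e → e = 0 ∨ e = 1) :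
    IsUnit a ∨ IsNilpotent a := by
  have hp : minpoly k a ≠ 0 := minpoly.ne_zero ha
  obtain ⟨q, hq, hndvd⟩ := Polynomial.exists_eq_pow_rootMultiplicity_mul_and_not_dvd (minpoly k a) hp 0
  set m := rootMultiplicity 0 (minpoly k a)
  rw [C_0, sub_zero] at hq hndvd
  have hcop : IsCoprime (X ^ m) q :=
    (((Polynomial.irreducible_X).coprime_iff_not_dvd).mpr hndvd).pow_left
  obtain ⟨u, v, huv⟩ := hcop
  have h0 : a ^ m * aeval a q = 0 := by
    have := minpoly.aeval k a
    rw [hq] at this
    simpa using this
  have h1 : aeval a u * a ^ m + aeval a v * aeval a q = 1 := by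
    have := congrArg (aeval a) huv
    simpa using this
  have hc : ∀ r s : k[X], aeval a r * aeval a s = aeval a s * aeval a r := fun r s => by
    rw [← map_mul, ← map_mul, mul_comm]
  have hca : ∀ (r : k[X]) (n : ℕ), aeval a r * a ^ n = a ^ n * aeval a r := fun r n => by
    have := hc r (X ^ n)
    simpa using this
  have he : (aeval a u * a ^ m) * (aeval a u * a ^ m) = aeval a u * a ^ m := by
    have : aeval a u * a ^ m * (1 - aeval a u * a ^ m) = 0 := by
      have h2 : 1 - aeval a u * a ^ m = aeval a v * aeval a q := by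
        rw [← h1]; abel
      rw [h2, hc v q, mul_assoc, ← mul_assoc (a ^ m), h0, zero_mul, mul_zero]
    rw [mul_sub, mul_one, sub_eq_zero] at this
    exact this.symm
  rcases hid _ he with h | h
  · right
    refine ⟨m, ?_⟩
    rw [h, zero_add] at h1
    calc a ^ m = a ^ m * (aeval a v * aeval a q) := by rw [h1, mul_one]
      _ = a ^ m * aeval a q * aeval a v := by rw [hc v q, mul_assoc]
      _ = 0 := by rw [h0, zero_mul]
  · left
    rcases Nat.eq_zero_or_pos m with hm | hm
    · -- constant coefficient of the minimal polynomial is nonzero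
      rw [hm, pow_zero, one_mul] at h0
      have hcop' : IsCoprime (X : k[X]) q := ((Polynomial.irreducible_X).coprime_iff_not_dvd).mpr hndvd
      obtain ⟨r, s, hrs⟩ := hcop'
      have h3 : aeval a r * a + aeval a s * aeval a q = 1 := by
        have := congrArg (aeval a) hrs
        simpa using this
      rw [h0, mul_zero, add_zero] at h3
      have h4 : a * aeval a r = 1 := by
        have := hca r 1
        rw [pow_one] at this
        rw [← this, h3]
      exact ⟨⟨a, aeval a r, h4, h3⟩, rfl⟩
    · obtain ⟨n, hn⟩ := Nat.exists_eq_succ_of_ne_zero hm.ne'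
      rw [hn, Nat.succ_eq_add_one, pow_succ] at h
      have h3 : (aeval a u * a ^ n) * a = 1 := by rw [mul_assoc, h]
      have h4 : a * (aeval a u * a ^ n) = 1 := by
        rw [hca u n, ← mul_assoc, ← pow_succ', ← hca u (n + 1), pow_succ, h]
      exact ⟨⟨a, _, h4, h3⟩, rfl⟩

end Alg

variable {C : Type u} [Category.{v} C] [Preadditive C]

/-- A local object: nonzero, and the non-isomorphisms among its endomorphisms are closed under addition. -/
def IsLoc (W : C) : Prop := ¬ IsZero W ∧ ∀ f g : W ⟶ W, IsIso (f + g) → IsIso f ∨ IsIso g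

theorem IsLoc.of_iso {W W' : C} (h : IsLoc W) (e : W ≅ W') : IsLoc W' := by
  refine ⟨fun hz => h.1 (hz.of_iso e), fun f g hfg => ?_⟩
  have h1 : IsIso ((e.hom ≫ f ≫ e.inv) + (e.hom ≫ g ≫ e.inv)) := by
    rw [← Preadditive.comp_add, ← Preadditive.add_comp]
    infer_instance
  have key : ∀ f : W' ⟶ W', IsIso (e.hom ≫ f ≫ e.inv) → IsIso f := fun f hf => by
    have : f = e.inv ≫ (e.hom ≫ f ≫ e.inv) ≫ e.hom := by simp
    rw [this]
    infer_instance
  rcases h.2 _ _ h1 with h2 | h2
  · exact Or.inl (key f h2)
  · exact Or.inr (key g h2)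

/-- In a local object, if a finite sum of endomorphisms is invertible, so is one of them. -/
theorem IsLoc.exists_of_sum {W : C} (h : IsLoc W) {ι : Type*} (s : Finset ι) (f : ι → (W ⟶ W))
    (hs : IsIso (∑ i ∈ s, f i)) : ∃ i ∈ s, IsIso (f i) := by
  classical
  induction s using Finset.induction_on with
  | empty =>
    exfalso
    rw [Finset.sum_empty] at hs
    exact h.1 ((IsZero.iff_id_eq_zero W).mpr (by rw [← IsIso.hom_inv_id (0 : W ⟶ W), zero_comp]))
  | insert a s ha ih =>
    rw [Finset.sum_insert ha] at hs
    rcases h.2 _ _ hs with h1 | h1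
    · exact ⟨a, Finset.mem_insert_self _ _, h1⟩
    · obtain ⟨i, hi, h2⟩ := ih h1
      exact ⟨i, Finset.mem_insert_of_mem hi, h2⟩

/-- An idempotent endomorphism of a local object is zero or the identity. -/
theorem IsLoc.idem {W : C} (h : IsLoc W) (e : W ⟶ W) (he : e ≫ e = e) : e = 0 ∨ e = 𝟙 W := by
  have h1 : IsIso (e + (𝟙 W - e)) := by
    rw [add_sub_cancel]
    infer_instance
  rcases h.2 _ _ h1 with h2 | h2
  · right
    rw [← cancel_epi e, he, Category.comp_id]
  · left
    have h3 : (𝟙 W - e) ≫ e = 0 := by
      rw [Preadditive.sub_comp, Category.id_comp, he, sub_self]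
    rw [← cancel_epi (𝟙 W - e), h3, comp_zero]

/-- A nonzero retract of an object all of whose idempotents are trivial is isomorphic to it. -/
theorem isIso_of_retract {W V : C} (hW : ¬ IsZero W) (hV : ∀ e : V ⟶ V, e ≫ e = e → e = 0 ∨ e = 𝟙 V)
    (r : Retract W V) : IsIso r.i := by
  have h1 : (r.r ≫ r.i) ≫ (r.r ≫ r.i) = r.r ≫ r.i := by
    rw [Category.assoc, r.retract_assoc]
  rcases hV _ h1 with h | h
  · exfalso
    refine hW ((IsZero.iff_id_eq_zero W).mpr ?_)
    calc 𝟙 W = (r.i ≫ r.r) ≫ (r.i ≫ r.r) := by simp
      _ = r.i ≫ (r.r ≫ r.i) ≫ r.r := by simp only [Category.assoc]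
      _ = 0 := by rw [h, zero_comp, comp_zero]
  · exact ⟨r.r, r.retract, h⟩

/-- A local retract of a local object is isomorphic to it. -/
theorem IsLoc.nonempty_iso {W V : C} (hW : IsLoc W) (hV : IsLoc V) (r : Retract W V) : Nonempty (W ≅ V) := by
  have := isIso_of_retract hW.1 hV.idem r
  exact ⟨asIso r.i⟩

variable {k : Type w} [Field k] [Linear k C]

/-- A nonzero object with finite-dimensional endomorphism algebra and only trivial idempotents is local. -/
theorem isLoc_of_finite {W : C} (hfin : Module.Finite k (W ⟶ W)) (hz : ¬ IsZero W)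
    (hid : ∀ e : W ⟶ W, e ≫ e = e → e = 0 ∨ e = 𝟙 W) : IsLoc W := by
  refine ⟨hz, fun f g hfg => ?_⟩
  have hfin' : Module.Finite k (End W) := hfin
  have key : ∀ a : End W, IsUnit a ∨ IsNilpotent a := fun a =>
    isUnit_or_isNilpotent (k := k) (Algebra.IsIntegral.isIntegral a)
      (fun e he => hid e he)
  let a : End W := f ≫ inv (f + g)
  let b : End W := g ≫ inv (f + g)
  have hab : a + b = 1 := by
    change f ≫ inv (f + g) + g ≫ inv (f + g) = 𝟙 W
    rw [← Preadditive.add_comp, IsIso.hom_inv_id]
  rcases key a with h | h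
  · left
    have h1 : IsIso (f ≫ inv (f + g)) := (isUnit_iff_isIso a).mp h
    exact IsIso.of_isIso_comp_right f (inv (f + g))
  · right
    have h1 : IsUnit b := by
      have : b = 1 - a := by rw [← hab]; abel
      rw [this]
      exact h.isUnit_one_sub
    have h2 : IsIso (g ≫ inv (f + g)) := (isUnit_iff_isIso b).mp h1
    exact IsIso.of_isIso_comp_right g (inv (f + g))

end K706.KS
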