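import Groth.Agent.VBCurve.K706.KSLocal
import Mathlib.LinearAlgebra.Dimension.Constructions
import Mathlib.LinearAlgebra.FiniteDimensional.Basic
import Mathlib.LinearAlgebra.Quotient.Basic
import Mathlib.CategoryTheory.Limits.Shapes.Biproducts

/-!
# Krull-Schmidt theory in a `k`-linear category, part 2: multiplicities and decompositions

For `W` local, `J k hW E` is the subspace of `Hom(W, E)` of the maps `f` such that no `f ≫ g : W ⟶ W` is
invertible, and `mult k hW E = dim Hom(W, E)/J`.  It is additive in `E`, invariant under isomorphism, and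
positive exactly when `W` is a retract of `E`.
-/

set_option autoImplicit false

open CategoryTheory CategoryTheory.Limits Module

namespace K706.KS

universe w v u

variable {C : Type u} [Category.{v} C] [Preadditive C] (k : Type w) [Field k] [Linear k C]

/-- The maps `W ⟶ E` which do not split off `W`. -/
def J {W : C} (hW : IsLoc W) (E : C) : Submodule k (W ⟶ E) where
  carrier := {f | ∀ g : E ⟶ W, ¬ IsIso (f ≫ g)}
  zero_mem' := fun g hg => by
    rw [zero_comp] at hg
    exact hW.1 ((IsZero.iff_id_eq_zero W).mpr (by rw [← IsIso.hom_inv_id (0 : W ⟶ W), zero_comp]))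
  add_mem' := fun {f f'} hf hf' g hg => by
    rw [Preadditive.add_comp] at hg
    rcases hW.2 _ _ hg with h | h
    · exact hf g h
    · exact hf' g h
  smul_mem' := fun c f hf g hg => by
    rw [Linear.smul_comp, ← Linear.comp_smul] at hg
    exact hf _ hg

theorem mem_J {W : C} (hW : IsLoc W) {E : C} (f : W ⟶ E) : f ∈ J k hW E ↔ ∀ g : E ⟶ W, ¬ IsIso (f ≫ g) := Iff.rfl

theorem comp_mem_J {W : C} (hW : IsLoc W) {E F : C} {f : W ⟶ E} (hf : f ∈ J k hW E) (φ : E ⟶ F) :
    f ≫ φ ∈ J k hW F := fun g hg => by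
  rw [Category.assoc] at hg
  exact hf _ hg

/-- The multiplicity of the local object `W` in `E` (times `dim End(W)/rad`). -/
noncomputable def mult {W : C} (hW : IsLoc W) (E : C) : ℕ := finrank k ((W ⟶ E) ⧸ J k hW E)

/-- Post-composition on the quotients `Hom(W, E)/J`. -/
noncomputable def quotMap {W : C} (hW : IsLoc W) {E F : C} (φ : E ⟶ F) :
    ((W ⟶ E) ⧸ J k hW E) →ₗ[k] ((W ⟶ F) ⧸ J k hW F) :=
  (J k hW E).mapQ (J k hW F) (Linear.rightComp k W φ) fun _ hf => comp_mem_J k hW hf φ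

theorem mult_congr {W : C} (hW : IsLoc W) {E F : C} (e : E ≅ F) : mult k hW E = mult k hW F := by
  refine LinearEquiv.finrank_eq (LinearEquiv.ofLinearMap (quotMap k hW e.hom) (quotMap k hW e.inv) ?_ ?_)
  · refine Submodule.linearMap_qext _ (LinearMap.ext fun f => ?_)
    change Submodule.Quotient.mk ((f ≫ e.inv) ≫ e.hom) = Submodule.Quotient.mk f
    simp
  · refine Submodule.linearMap_qext _ (LinearMap.ext fun f => ?_)
    change Submodule.Quotient.mk ((f ≫ e.hom) ≫ e.inv) = Submodule.Quotient.mk f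
    simp

/-- The multiplicity is positive exactly when `W` splits off. -/
theorem mult_pos_iff {W : C} (hW : IsLoc W) {E : C} (hfin : Module.Finite k (W ⟶ E)) :
    0 < mult k hW E ↔ Nonempty (Retract W E) := by
  constructor
  · intro h
    have h1 : Nontrivial ((W ⟶ E) ⧸ J k hW E) := Module.nontrivial_of_finrank_pos h
    rw [Submodule.Quotient.nontrivial_iff] at h1
    obtain ⟨f, hf⟩ : ∃ f, f ∉ J k hW E := by
      by_contra hcon
      push Not at hcon
      exact h1 ((eq_top_iff).mpr fun f _ => hcon f)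
    rw [mem_J] at hf
    push Not at hf
    obtain ⟨g, hg⟩ := hf
    exact ⟨⟨f, g ≫ inv (f ≫ g), by rw [← Category.assoc, IsIso.hom_inv_id]⟩⟩
  · rintro ⟨r⟩
    have h1 : r.i ∉ J k hW E := fun h => h r.r (by rw [r.retract]; infer_instance)
    have : Nontrivial ((W ⟶ E) ⧸ J k hW E) := by
      rw [Submodule.Quotient.nontrivial_iff]
      rintro h
      exact h1 (h ▸ Submodule.mem_top)
    exact Module.finrank_pos

theorem mult_eq_zero_iff {W : C} (hW : IsLoc W) {E : C} (hfin : Module.Finite k (W ⟶ E)) :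
    mult k hW E = 0 ↔ ¬ Nonempty (Retract W E) := by
  rw [← mult_pos_iff k hW hfin]
  omega

theorem mult_self_pos {W : C} (hW : IsLoc W) (hfin : Module.Finite k (W ⟶ W)) : 0 < mult k hW W :=
  (mult_pos_iff k hW hfin).mpr ⟨Retract.refl W⟩

/-- Additivity of the multiplicity, for a family of objects with a bilimit bicone. -/
theorem mult_bicone {W : C} (hW : IsLoc W) {ι : Type} [Fintype ι] (E : ι → C) (b : Bicone E)
    (hb : b.IsBilimit) (hfin : ∀ i, Module.Finite k (W ⟶ E i)) : mult k hW b.pt = ∑ i, mult k hW (E i) := by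
  classical
  have htot : ∑ i, b.π i ≫ b.ι i = 𝟙 b.pt := IsBilimit.total hb
  let Φ : (W ⟶ b.pt) →ₗ[k] (∀ i, (W ⟶ E i) ⧸ J k hW (E i)) :=
    LinearMap.pi fun i => (J k hW (E i)).mkQ ∘ₗ Linear.rightComp k W (b.π i)
  have hΦ : ∀ f i, Φ f i = Submodule.Quotient.mk (f ≫ b.π i) := fun _ _ => rfl
  have hsurj : Function.Surjective Φ := by
    intro y
    choose g hg using fun i => Submodule.Quotient.mk_surjective _ (y i)
    refine ⟨∑ i, g i ≫ b.ι i, funext fun i => ?_⟩
    rw [hΦ, ← hg i]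
    congr 1
    rw [Preadditive.sum_comp, Finset.sum_eq_single i]
    · rw [Category.assoc, bicone_ι_π_self, Category.comp_id]
    · intro j _ hj
      rw [Category.assoc, bicone_ι_π_ne b hj, comp_zero]
    · intro h
      exact absurd (Finset.mem_univ i) h
  have hker : LinearMap.ker Φ = J k hW b.pt := by
    ext f
    rw [LinearMap.mem_ker]
    constructor
    · intro hf g hg
      have h1 : f ≫ g = ∑ i, (f ≫ b.π i) ≫ (b.ι i ≫ g) := by
        conv_lhs => rw [← Category.comp_id f, ← htot]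
        rw [Preadditive.comp_sum, Preadditive.sum_comp]
        simp only [Category.assoc]
      rw [h1] at hg
      obtain ⟨i, -, hi⟩ := hW.exists_of_sum _ _ hg
      have h2 : f ≫ b.π i ∈ J k hW (E i) := by
        rw [← Submodule.Quotient.mk_eq_zero, ← hΦ, hf]
        rfl
      exact h2 _ hi
    · intro hf
      refine funext fun i => ?_
      rw [hΦ]
      exact (Submodule.Quotient.mk_eq_zero _).mpr (comp_mem_J k hW hf _)
  have e : ((W ⟶ b.pt) ⧸ J k hW b.pt) ≃ₗ[k] (∀ i, (W ⟶ E i) ⧸ J k hW (E i)) :=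
    (Submodule.quotEquivOfEq _ _ hker.symm).trans (Φ.quotKerEquivOfSurjective hsurj)
  rw [mult, e.finrank_eq, Module.finrank_pi_fintype]
  rfl

theorem mult_biproduct {W : C} (hW : IsLoc W) {ι : Type} [Fintype ι] (E : ι → C) [HasBiproduct E]
    (hfin : ∀ i, Module.Finite k (W ⟶ E i)) : mult k hW (⨁ E) = ∑ i, mult k hW (E i) :=
  mult_bicone k hW E (biproduct.bicone E) (biproduct.isBilimit E) hfin

theorem mult_coproduct {W : C} (hW : IsLoc W) {ι : Type} [Fintype ι] (E : ι → C) [HasBiproduct E] [HasCoproduct E]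
    (hfin : ∀ i, Module.Finite k (W ⟶ E i)) : mult k hW (∐ E) = ∑ i, mult k hW (E i) := by
  rw [← mult_biproduct k hW E hfin]
  exact mult_congr k hW (biproduct.isoCoproduct E).symm

/-- Maps into a finite biproduct form a finite-dimensional space if the maps into the factors do. -/
theorem finite_hom_bicone (W : C) {ι : Type} [Fintype ι] (E : ι → C) (b : Bicone E)
    (hb : b.IsBilimit) (hfin : ∀ i, Module.Finite k (W ⟶ E i)) : Module.Finite k (W ⟶ b.pt) := by
  have htot : ∑ i, b.π i ≫ b.ι i = 𝟙 b.pt := IsBilimit.total hb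
  let Φ : (W ⟶ b.pt) →ₗ[k] (∀ i, (W ⟶ E i)) := LinearMap.pi fun i => Linear.rightComp k W (b.π i)
  refine Module.Finite.of_injective Φ fun f g hfg => ?_
  have : ∀ i, f ≫ b.π i = g ≫ b.π i := fun i => congrFun hfg i
  rw [← Category.comp_id f, ← Category.comp_id g, ← htot, Preadditive.comp_sum, Preadditive.comp_sum]
  simp only [← Category.assoc, this]

/-- A retract of an object with finite-dimensional endomorphisms has finite-dimensional endomorphisms;
more generally `Hom` into and out of retracts are quotients. -/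
theorem finite_hom_of_retract {E E' F F' : C} (r : Retract E' E) (s : Retract F' F)
    (hfin : Module.Finite k (E ⟶ F)) : Module.Finite k (E' ⟶ F') := by
  refine Module.Finite.of_surjective
    (((Linear.rightComp k E' s.r)) ∘ₗ (Linear.leftComp k F r.i) : (E ⟶ F) →ₗ[k] (E' ⟶ F')) fun f => ?_
  refine ⟨r.r ≫ f ≫ s.i, ?_⟩
  change (r.i ≫ r.r ≫ f ≫ s.i) ≫ s.r = f
  simp

variable [HasFiniteBiproducts C]

/-- An object with projections and inclusions satisfying the biproduct relations is the biproduct. -/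
theorem nonempty_iso_biproduct {E : C} {ι : Type} [Fintype ι] (W : ι → C) (i : ∀ a, W a ⟶ E)
    (p : ∀ a, E ⟶ W a) (h1 : ∀ a, i a ≫ p a = 𝟙 _) (h2 : ∀ a b, a ≠ b → i a ≫ p b = 0)
    (h3 : ∑ a, p a ≫ i a = 𝟙 E) : Nonempty (E ≅ ⨁ W) := by
  classical
  exact ⟨{
    hom := biproduct.lift p
    inv := biproduct.desc i
    hom_inv_id := by rw [biproduct.lift_desc, h3]
    inv_hom_id := by
      refine biproduct.hom_ext' _ _ fun a => biproduct.hom_ext _ _ fun b => ?_
      rw [biproduct.ι_desc_assoc, Category.assoc, biproduct.lift_π, Category.comp_id]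
      by_cases hab : a = b
      · subst hab
        rw [h1, biproduct.ι_π_self]
      · rw [h2 a b hab, biproduct.ι_π_ne _ hab] }⟩

theorem nonempty_iso_sumElim [HasBinaryBiproducts C] {ι₁ ι₂ : Type} [Fintype ι₁] [Fintype ι₂] (W₁ : ι₁ → C) (W₂ : ι₂ → C) :
    Nonempty ((⨁ W₁) ⊞ (⨁ W₂) ≅ ⨁ (Sum.elim W₁ W₂)) := by
  classical
  let i : ∀ a, Sum.elim W₁ W₂ a ⟶ (⨁ W₁) ⊞ (⨁ W₂) := fun a => match a with
    | Sum.inl a => biproduct.ι W₁ a ≫ biprod.inl
    | Sum.inr a => biproduct.ι W₂ a ≫ biprod.inr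
  let p : ∀ a, (⨁ W₁) ⊞ (⨁ W₂) ⟶ Sum.elim W₁ W₂ a := fun a => match a with
    | Sum.inl a => biprod.fst ≫ biproduct.π W₁ a
    | Sum.inr a => biprod.snd ≫ biproduct.π W₂ a
  refine nonempty_iso_biproduct _ i p ?_ ?_ ?_
  · rintro (a | a)
    · change (biproduct.ι W₁ a ≫ biprod.inl) ≫ biprod.fst ≫ biproduct.π W₁ a = 𝟙 _
      simp
    · change (biproduct.ι W₂ a ≫ biprod.inr) ≫ biprod.snd ≫ biproduct.π W₂ a = 𝟙 _
      simp
  · rintro (a | a) (b | b) hab
    · change (biproduct.ι W₁ a ≫ biprod.inl) ≫ biprod.fst ≫ biproduct.π W₁ b = 0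
      have : a ≠ b := fun h => hab (h ▸ rfl)
      simp [biproduct.ι_π_ne _ this]
    · change (biproduct.ι W₁ a ≫ biprod.inl) ≫ biprod.snd ≫ biproduct.π W₂ b = 0
      simp
    · change (biproduct.ι W₂ a ≫ biprod.inr) ≫ biprod.fst ≫ biproduct.π W₁ b = 0
      simp
    · change (biproduct.ι W₂ a ≫ biprod.inr) ≫ biprod.snd ≫ biproduct.π W₂ b = 0
      have : a ≠ b := fun h => hab (h ▸ rfl)
      simp [biproduct.ι_π_ne _ this]
  · rw [Fintype.sum_sum_type]
    change ∑ a, (biprod.fst ≫ biproduct.π W₁ a) ≫ (biproduct.ι W₁ a ≫ biprod.inl) +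
      ∑ a, (biprod.snd ≫ biproduct.π W₂ a) ≫ (biproduct.ι W₂ a ≫ biprod.inr) = 𝟙 _
    have h1 : ∑ a, ((biprod.fst : (⨁ W₁) ⊞ (⨁ W₂) ⟶ _) ≫ biproduct.π W₁ a) ≫ (biproduct.ι W₁ a ≫ (biprod.inl : _ ⟶ (⨁ W₁) ⊞ (⨁ W₂))) =
        biprod.fst ≫ biprod.inl := by
      have := congrArg (fun t => (biprod.fst : (⨁ W₁) ⊞ (⨁ W₂) ⟶ _) ≫ t ≫ (biprod.inl : _ ⟶ (⨁ W₁) ⊞ (⨁ W₂))) (biproduct.total (f := W₁))
      simp only [Preadditive.sum_comp, Preadditive.comp_sum, Category.id_comp] at this
      simpa using this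
    have h2 : ∑ a, ((biprod.snd : (⨁ W₁) ⊞ (⨁ W₂) ⟶ _) ≫ biproduct.π W₂ a) ≫ (biproduct.ι W₂ a ≫ (biprod.inr : _ ⟶ (⨁ W₁) ⊞ (⨁ W₂))) =
        biprod.snd ≫ biprod.inr := by
      have := congrArg (fun t => (biprod.snd : (⨁ W₁) ⊞ (⨁ W₂) ⟶ _) ≫ t ≫ (biprod.inr : _ ⟶ (⨁ W₁) ⊞ (⨁ W₂))) (biproduct.total (f := W₂))
      simp only [Preadditive.sum_comp, Preadditive.comp_sum, Category.id_comp] at this
      simpa using this
    rw [h1, h2, biprod.total]

/-- The existence of a decomposition into local objects, by induction on the dimension of the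
endomorphism algebra. -/
theorem exists_decomposition_aux [IsIdempotentComplete C] (n : ℕ) : ∀ (E : C), Module.Finite k (E ⟶ E) →
    finrank k (E ⟶ E) ≤ n → ∃ (m : ℕ) (W : Fin m → C), (∀ i, IsLoc (W i)) ∧ Nonempty (E ≅ ⨁ W) := by
  have := hasBinaryBiproducts_of_finite_biproducts C
  induction n with
  | zero =>
    intro E hfin hn
    have h0 : finrank k (E ⟶ E) = 0 := Nat.le_zero.mp hn
    have hs : Subsingleton (E ⟶ E) := Module.finrank_zero_iff.mp h0
    have hz : IsZero E := (IsZero.iff_id_eq_zero E).mpr (Subsingleton.elim _ _)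
    refine ⟨0, Fin.elim0, fun i => i.elim0, ⟨hz.iso ?_⟩⟩
    rw [IsZero.iff_id_eq_zero]
    refine biproduct.hom_ext _ _ fun i => i.elim0
  | succ n ih =>
    intro E hfin hn
    by_cases hz : IsZero E
    · refine ⟨0, Fin.elim0, fun i => i.elim0, ⟨hz.iso ?_⟩⟩
      rw [IsZero.iff_id_eq_zero]
      refine biproduct.hom_ext _ _ fun i => i.elim0
    by_cases hid : ∀ e : E ⟶ E, e ≫ e = e → e = 0 ∨ e = 𝟙 E
    · refine ⟨1, fun _ => E, fun _ => isLoc_of_finite (k := k) hfin hz hid, ⟨?_⟩⟩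
      exact (biproductUniqueIso (fun _ : Fin 1 => E)).symm
    push Not at hid
    obtain ⟨e, he, he0, he1⟩ := hid
    obtain ⟨F, i, p, hip, hpi⟩ := IsIdempotentComplete.idempotents_split E e he
    have he' : (𝟙 E - e) ≫ (𝟙 E - e) = 𝟙 E - e := by
      simp [he]
    obtain ⟨G, j, q, hjq, hqj⟩ := IsIdempotentComplete.idempotents_split E (𝟙 E - e) he'
    have rF : Retract F E := ⟨i, p, hip⟩
    have rG : Retract G E := ⟨j, q, hjq⟩
    have hFE : Module.Finite k (F ⟶ F) := finite_hom_of_retract k ⟨i, p, hip⟩ ⟨i, p, hip⟩ hfin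
    have hGE : Module.Finite k (G ⟶ G) := finite_hom_of_retract k ⟨j, q, hjq⟩ ⟨j, q, hjq⟩ hfin
    have hiq : i ≫ q = 0 := by
      have : i ≫ e = i := by rw [← hpi, ← Category.assoc, hip, Category.id_comp]
      have h2 : i ≫ (𝟙 E - e) = 0 := by rw [Preadditive.comp_sub, this, Category.comp_id, sub_self]
      have h3 : i ≫ q ≫ j = 0 := by rw [hqj, h2]
      calc i ≫ q = i ≫ q ≫ (j ≫ q) := by rw [hjq, Category.comp_id]
        _ = (i ≫ q ≫ j) ≫ q := by simp only [Category.assoc]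
        _ = 0 := by rw [h3, zero_comp]
    have hjp : j ≫ p = 0 := by
      have : j ≫ (𝟙 E - e) = j := by rw [← hqj, ← Category.assoc, hjq, Category.id_comp]
      have h2 : j ≫ e = 0 := by
        have h4 := this
        rw [Preadditive.comp_sub, Category.comp_id] at h4
        exact sub_eq_self.mp h4
      have h3 : j ≫ p ≫ i = 0 := by rw [hpi, h2]
      calc j ≫ p = j ≫ p ≫ (i ≫ p) := by rw [hip, Category.comp_id]
        _ = (j ≫ p ≫ i) ≫ p := by simp only [Category.assoc]
        _ = 0 := by rw [h3, zero_comp]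
    -- `End F × End G` embeds into `End E`
    let Ψ : ((F ⟶ F) × (G ⟶ G)) →ₗ[k] (E ⟶ E) :=
      LinearMap.coprod
        ((Linear.leftComp k E p) ∘ₗ (Linear.rightComp k F i))
        ((Linear.leftComp k E q) ∘ₗ (Linear.rightComp k G j))
    have hΨ : ∀ x, Ψ x = p ≫ x.1 ≫ i + q ≫ x.2 ≫ j := fun x => rfl
    have hinj : Function.Injective Ψ := by
      intro x y hxy
      rw [hΨ, hΨ] at hxy
      refine Prod.ext ?_ ?_
      · have h1 := congrArg (fun t => i ≫ t ≫ p) hxy
        simp only [Preadditive.add_comp, Preadditive.comp_add, Category.assoc] at h1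
        simpa [hip, hjp, hiq, reassoc_of% hip, reassoc_of% hiq] using h1
      · have h1 := congrArg (fun t => j ≫ t ≫ q) hxy
        simp only [Preadditive.add_comp, Preadditive.comp_add, Category.assoc] at h1
        simpa [hjq, hjp, hiq, reassoc_of% hjq, reassoc_of% hjp] using h1
    have hle : finrank k (F ⟶ F) + finrank k (G ⟶ G) ≤ finrank k (E ⟶ E) := by
      rw [← Module.finrank_prod]
      exact LinearMap.finrank_le_finrank_of_injective hinj
    have hFz : 𝟙 F ≠ 0 := fun h => he0 (by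
      rw [← hpi, ← Category.comp_id p, h, comp_zero, zero_comp])
    have hGz : 𝟙 G ≠ 0 := fun h => he1 (by
      have : 𝟙 E - e = 0 := by rw [← hqj, ← Category.comp_id q, h, comp_zero, zero_comp]
      rw [sub_eq_zero] at this
      exact this.symm)
    have hF1 : 0 < finrank k (F ⟶ F) := by
      have : Nontrivial (F ⟶ F) := ⟨𝟙 F, 0, hFz⟩
      exact Module.finrank_pos
    have hG1 : 0 < finrank k (G ⟶ G) := by
      have : Nontrivial (G ⟶ G) := ⟨𝟙 G, 0, hGz⟩
      exact Module.finrank_pos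
    obtain ⟨m₁, W₁, hW₁, ⟨e₁⟩⟩ := ih F hFE (by omega)
    obtain ⟨m₂, W₂, hW₂, ⟨e₂⟩⟩ := ih G hGE (by omega)
    have eE : E ≅ F ⊞ G :=
      { hom := biprod.lift p q
        inv := biprod.desc i j
        hom_inv_id := by
          rw [biprod.lift_desc, hpi, hqj]
          abel
        inv_hom_id := by
          ext <;> simp [hip, hjq, hiq, hjp] }
    have hsum : ∀ s, IsLoc (Sum.elim W₁ W₂ s) := by
      rintro (s | s)
      · exact hW₁ s
      · exact hW₂ s
    refine ⟨m₁ + m₂, fun t => Sum.elim W₁ W₂ (finSumFinEquiv.symm t), fun t => hsum _, ⟨?_⟩⟩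
    have e3 : Nonempty ((⨁ W₁) ⊞ (⨁ W₂) ≅ ⨁ (Sum.elim W₁ W₂)) := nonempty_iso_sumElim W₁ W₂
    exact eE ≪≫ biprod.mapIso e₁ e₂ ≪≫ e3.some ≪≫ (biproduct.whiskerEquiv finSumFinEquiv.symm (fun _ => Iso.refl _)).symm

/-- The existence of a decomposition into local objects. -/
theorem exists_decomposition [IsIdempotentComplete C] (E : C) (hfin : Module.Finite k (E ⟶ E)) :
    ∃ (m : ℕ) (W : Fin m → C), (∀ i, IsLoc (W i)) ∧ Nonempty (E ≅ ⨁ W) :=
  exists_decomposition_aux k _ E hfin le_rfl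

end K706.KS
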