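import Groth.Agent.Vanish.K909.InterML
import Groth.Agent.Dcoh.MonClosed
import Groth.Agent.Ega2.TensGen
import Groth.Agent.Ega2.TensMon
import Groth.Agent.Fga.SnapperTwist
import Groth.Agent.Fga.ChiBasic

/-!
# The Koszul relation for intersection numbers

Let `V` be a module on a proper scheme with a finite filtration with invertible quotients `A_1, …, A_r` and
`φ : V ⟶ O` an epimorphism.  Then the intersection number `(A_1⁻¹ ⋯ A_r⁻¹ · F)` vanishes for all coherent `F`.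

* `act φ F : V ⊗ F ⟶ F`, the action of the image of `φ`;
* `act_cokernel`, `act_kernel`: the basic step;
* `Chain`: filtrations;
* `inter_eq_zero_of_chain`.
-/

set_option autoImplicit false
set_option linter.unusedVariables false
set_option linter.unusedSectionVars false
universe u
open CategoryTheory CategoryTheory.Limits AlgebraicGeometry Opposite

namespace K706.KosRel

open Groth.Agent MonoidalCategory
open scoped Groth.Agent.Dcoh.MonCat

variable {X : Scheme.{u}}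

/-- The action of (the image of) `φ` on `F`. -/
noncomputable def act {V : X.Modules} (φ : V ⟶ Coh.structureModule X) (F : X.Modules) : CohB1.tensorMod V F ⟶ F :=
  Ega2.Tens.mapT φ (𝟙 F) ≫ (Ega2.Tens.lunit F).hom

theorem act_tmul {V : X.Modules} (φ : V ⟶ Coh.structureModule X) (F : X.Modules) {U : X.Opens} (v : Γ(V, U))
    (f : Γ(F, U)) (r : Γ(X, U)) (hr : φ.app U v = Ega2.Tens.sm r) : (act φ F).app U (Ega2.Tens.tmul v f) = r • f := by
  have h1 : (act φ F).app U (Ega2.Tens.tmul v f) =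
      (Ega2.Tens.lunit F).hom.app U ((Ega2.Tens.mapT φ (𝟙 F)).app U (Ega2.Tens.tmul v f)) := rfl
  rw [h1, Ega2.Tens.mapT_tmul, hr]
  exact Ega2.Tens.lunit_hom_tmul r f

theorem act_nat {V : X.Modules} (φ : V ⟶ Coh.structureModule X) {F G : X.Modules} (g : F ⟶ G) :
    Ega2.Tens.mapT (𝟙 V) g ≫ act φ G = act φ F ≫ g := by
  apply Ega2.Tens.hom_ext
  intro U v f
  obtain ⟨r, hr⟩ := Ega2.Tens.exists_sm (φ.app U v)
  have h1 : (Ega2.Tens.mapT (𝟙 V) g ≫ act φ G).app U (Ega2.Tens.tmul v f) =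
      (act φ G).app U ((Ega2.Tens.mapT (𝟙 V) g).app U (Ega2.Tens.tmul v f)) := rfl
  have h2 : (act φ F ≫ g).app U (Ega2.Tens.tmul v f) = g.app U ((act φ F).app U (Ega2.Tens.tmul v f)) := rfl
  rw [h1, h2, Ega2.Tens.mapT_tmul, act_tmul φ F v f r hr]
  have h3 : (𝟙 V : V ⟶ V).app U v = v := rfl
  rw [h3, act_tmul φ G v _ r hr]
  exact (Scheme.Modules.Hom.app_smul g r f).symm

theorem mapT_act {W V : X.Modules} (j : W ⟶ V) (φ : V ⟶ Coh.structureModule X) (F : X.Modules) :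
    Ega2.Tens.mapT j (𝟙 F) ≫ act φ F = act (j ≫ φ) F := by
  rw [act, act, ← Category.assoc, ← Ega2.Tens.mapT_comp, Category.comp_id]

/-- Tensoring preserves epimorphisms. -/
theorem epi_mapT_right {A A' : X.Modules} (B : X.Modules) (f : A ⟶ A') [Epi f] : Epi (Ega2.Tens.mapT (𝟙 B) f) := by
  have h : (tensorLeft B).IsLeftAdjoint := (Dcoh.MonClosed.tensorHomAdj B).isLeftAdjoint
  have e : Ega2.Tens.mapT (𝟙 B) f = B ◁ f := by
    apply Ega2.Tens.hom_ext
    intro U m n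
    rw [Ega2.Tens.mapT_tmul]
    exact (Dcoh.MonTm.whiskerLeft_tm B f m n).symm
  rw [e]
  exact inferInstanceAs (Epi ((tensorLeft B).map f))

theorem mapT_eq_whiskerRight {A A' : X.Modules} (f : A ⟶ A') (B : X.Modules) : Ega2.Tens.mapT f (𝟙 B) = f ▷ B := by
  apply Ega2.Tens.hom_ext
  intro U m n
  rw [Ega2.Tens.mapT_tmul]
  exact (Dcoh.MonTm.whiskerRight_tm f B m n).symm

theorem isLeftAdjoint_right (B : X.Modules) : (tensorRight B).IsLeftAdjoint :=
  (Dcoh.MonClosed.tensorRightHomAdj B).isLeftAdjoint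

theorem epi_mapT_left {A A' : X.Modules} (f : A ⟶ A') [Epi f] (B : X.Modules) : Epi (Ega2.Tens.mapT f (𝟙 B)) := by
  have := isLeftAdjoint_right B
  rw [mapT_eq_whiskerRight]
  exact inferInstanceAs (Epi ((tensorRight B).map f))

/-- Right exactness: descending the action. -/
theorem exists_σ {W W' A : X.Modules} (i : W ⟶ W') (q : W' ⟶ A) (w : i ≫ q = 0) (hex : (ShortComplex.mk i q w).Exact)
    (hq : Epi q) (φ : W' ⟶ Coh.structureModule X) (F : X.Modules) (h : act (i ≫ φ) F = 0) :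
    ∃ σ : CohB1.tensorMod A F ⟶ F, Ega2.Tens.mapT q (𝟙 F) ≫ σ = act φ F := by
  have := isLeftAdjoint_right F
  have hq' : Epi (ShortComplex.mk i q w).g := hq
  have hc := CokernelCofork.mapIsColimit _ hex.gIsCokernel (tensorRight F)
  obtain ⟨σ, hσ⟩ := CokernelCofork.IsColimit.desc' hc (act φ F) (by
    rw [← mapT_act, mapT_eq_whiskerRight] at h
    exact h)
  refine ⟨σ, ?_⟩
  rw [mapT_eq_whiskerRight]
  exact hσ

section step

variable {W A F : X.Modules} (φ : W ⟶ Coh.structureModule X) (q : W ⟶ A) (σ : CohB1.tensorMod A F ⟶ F)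
  (hσ : Ega2.Tens.mapT q (𝟙 F) ≫ σ = act φ F)

include hσ in
theorem σ_tmul {U : X.Opens} (w : Γ(W, U)) (f : Γ(F, U)) (r : Γ(X, U)) (hr : φ.app U w = Ega2.Tens.sm r) :
    σ.app U (Ega2.Tens.tmul (q.app U w) f) = r • f := by
  rw [← act_tmul φ F w f r hr, ← hσ]
  have h1 : (Ega2.Tens.mapT q (𝟙 F) ≫ σ).app U (Ega2.Tens.tmul w f) =
      σ.app U ((Ega2.Tens.mapT q (𝟙 F)).app U (Ega2.Tens.tmul w f)) := rfl
  rw [h1, Ega2.Tens.mapT_tmul]
  rfl

include hσ in
/-- The cokernel of `σ` is killed. -/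
theorem act_cokernel [Epi q] : act φ (cokernel σ) = 0 := by
  have h1 := epi_mapT_right W (cokernel.π σ)
  rw [← cancel_epi (Ega2.Tens.mapT (𝟙 W) (cokernel.π σ)), act_nat, comp_zero, ← hσ, Category.assoc,
    cokernel.condition, comp_zero]

include hσ in
/-- The key formula: the action on `A ⊗ F` is `q ⊗ σ` (`A` invertible). -/
theorem act_tensor (hA : PicF.IsInvertible A) [Epi q] : act φ (CohB1.tensorMod A F) = Ega2.Tens.mapT q σ := by
  have h0 := epi_mapT_left q F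
  have h1 := epi_mapT_right W (Ega2.Tens.mapT q (𝟙 F))
  rw [← cancel_epi (Ega2.Tens.mapT (𝟙 W) (Ega2.Tens.mapT q (𝟙 F)))]
  apply Ega2.Tens.hom_ext₃'
  intro U w w0 f
  obtain ⟨r, hr⟩ := Ega2.Tens.exists_sm (φ.app U w)
  obtain ⟨r0, hr0⟩ := Ega2.Tens.exists_sm (φ.app U w0)
  have e1 : (Ega2.Tens.mapT (𝟙 W) (Ega2.Tens.mapT q (𝟙 F)) ≫ act φ (CohB1.tensorMod A F)).app U
      (Ega2.Tens.tmul w (Ega2.Tens.tmul w0 f)) = r • Ega2.Tens.tmul (q.app U w0) f := by
    have h2 : (Ega2.Tens.mapT (𝟙 W) (Ega2.Tens.mapT q (𝟙 F)) ≫ act φ (CohB1.tensorMod A F)).app U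
      (Ega2.Tens.tmul w (Ega2.Tens.tmul w0 f)) = (act φ (CohB1.tensorMod A F)).app U
        ((Ega2.Tens.mapT (𝟙 W) (Ega2.Tens.mapT q (𝟙 F))).app U (Ega2.Tens.tmul w (Ega2.Tens.tmul w0 f))) := rfl
    rw [h2, Ega2.Tens.mapT_tmul, Ega2.Tens.mapT_tmul]
    exact act_tmul φ _ w _ r hr
  have e2 : (Ega2.Tens.mapT (𝟙 W) (Ega2.Tens.mapT q (𝟙 F)) ≫ Ega2.Tens.mapT q σ).app U
      (Ega2.Tens.tmul w (Ega2.Tens.tmul w0 f)) = Ega2.Tens.tmul (q.app U w) (r0 • f) := by
    have h2 : (Ega2.Tens.mapT (𝟙 W) (Ega2.Tens.mapT q (𝟙 F)) ≫ Ega2.Tens.mapT q σ).app U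
      (Ega2.Tens.tmul w (Ega2.Tens.tmul w0 f)) = (Ega2.Tens.mapT q σ).app U
        ((Ega2.Tens.mapT (𝟙 W) (Ega2.Tens.mapT q (𝟙 F))).app U (Ega2.Tens.tmul w (Ega2.Tens.tmul w0 f))) := rfl
    rw [h2, Ega2.Tens.mapT_tmul, Ega2.Tens.mapT_tmul, Ega2.Tens.mapT_tmul]
    congr 1
    exact σ_tmul φ q σ hσ w0 f r0 hr0
  rw [e1, e2]
  refine Ega2.Tens.eq_of_locally_eq _ _ _ fun x hx => ?_
  obtain ⟨V, e, hxV, hVU, -, he⟩ := Ega2.TensGen.exists_affine_gen hA x hx
  refine ⟨V, homOfLE hVU, hxV, ?_⟩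
  change Fdesc.LocGen.res _ hVU _ = Fdesc.LocGen.res _ hVU _
  have hres : ∀ (M N : X.Modules) (m : Γ(M, U)) (n : Γ(N, U)),
      Fdesc.LocGen.res (CohB1.tensorMod M N) hVU (Ega2.Tens.tmul m n) =
        Ega2.Tens.tmul (Fdesc.LocGen.res M hVU m) (Fdesc.LocGen.res N hVU n) :=
    fun M N m n => Ega2.Tens.tmul_res (homOfLE hVU) m n
  rw [Fdesc.LocGen.res_smul, hres, hres, Fdesc.LocGen.res_smul, ← Fdesc.LocGen.app_res, ← Fdesc.LocGen.app_res]
  obtain ⟨c, hc⟩ := he.exists_eq (q.app V (Fdesc.LocGen.res W hVU w))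
  obtain ⟨c0, hc0⟩ := he.exists_eq (q.app V (Fdesc.LocGen.res W hVU w0))
  have hrV : φ.app V (Fdesc.LocGen.res W hVU w) = Ega2.Tens.sm (Fdesc.LocGen.ores hVU r) := by
    rw [Fdesc.LocGen.app_res, hr]; rfl
  have hr0V : φ.app V (Fdesc.LocGen.res W hVU w0) = Ega2.Tens.sm (Fdesc.LocGen.ores hVU r0) := by
    rw [Fdesc.LocGen.app_res, hr0]; rfl
  generalize Fdesc.LocGen.res W hVU w = w' at *
  generalize Fdesc.LocGen.res W hVU w0 = w0' at *
  generalize Fdesc.LocGen.res F hVU f = f' at *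
  generalize Fdesc.LocGen.ores hVU r = s at *
  generalize Fdesc.LocGen.ores hVU r0 = s0 at *
  have h3 := σ_tmul φ q σ hσ (c0 • w' - c • w0') f' (c0 * s - c * s0) (by
    rw [map_sub, Scheme.Modules.Hom.app_smul, Scheme.Modules.Hom.app_smul, hrV, hr0V]; rfl)
  have h4 : q.app V (c0 • w' - c • w0') = 0 := by
    rw [map_sub, Scheme.Modules.Hom.app_smul, Scheme.Modules.Hom.app_smul, hc, hc0, smul_smul, smul_smul, mul_comm, sub_self]
  rw [h4, Ega2.Tens.zero_tmul, map_zero, sub_smul] at h3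
  have h5 : (c0 * s) • f' = (c * s0) • f' := (sub_eq_zero.mp h3.symm)
  rw [hc, hc0, Ega2.Tens.smul_tmul, Ega2.Tens.smul_tmul, Ega2.Tens.tmul_smul, smul_smul, smul_smul,
    ← Ega2.Tens.tmul_smul, ← Ega2.Tens.tmul_smul, mul_comm s c0, h5]

include hσ in
/-- The kernel of `σ` is killed. -/
theorem act_kernel (hA : PicF.IsInvertible A) [Epi q] : act φ (kernel σ) = 0 := by
  rw [← cancel_mono (kernel.ι σ), ← act_nat, act_tensor φ q σ hσ hA, ← Ega2.Tens.mapT_comp, kernel.condition,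
    zero_comp, Category.id_comp]
  apply Ega2.Tens.hom_ext
  intro U m n
  rw [Ega2.Tens.mapT_tmul]
  exact Ega2.Tens.tmul_zero _

end step

section chain

open Groth.Agent.Grpsch.PicGrp K909.InterML

/-- A filtration of (the target of) `j : W ⟶ V` above the image of `W`, with invertible quotients `A_i`; the
recorded classes are the inverses `A_i⁻¹`. -/
inductive Chain {V : X.Modules} : (W : X.Modules) → (W ⟶ V) → (m : ℕ) → (Fin m → Pic X) → Prop
  | nil {W : X.Modules} (j : W ⟶ V) (hj : Epi j) (c : Fin 0 → Pic X) : Chain W j 0 c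
  | cons {W W' A : X.Modules} (i : W ⟶ W') (q : W' ⟶ A) (w : i ≫ q = 0) (hex : (ShortComplex.mk i q w).Exact)
      (hq : Epi q) (hA : PicF.IsInvertible A) (j' : W' ⟶ V) (j : W ⟶ V) (hj : i ≫ j' = j) {m : ℕ} {c : Fin m → Pic X}
      (h : Chain W' j' m c) (c' : Fin (m + 1) → Pic X) (hc' : c' = Fin.cons (mk A hA)⁻¹ c) : Chain W j (m + 1) c'

variable (k : Type u) [Field k] [X.Over (Spec (CommRingCat.of k))]
  [IsProper (X ↘ Spec (CommRingCat.of k))] (d : ℕ) (hd : topologicalKrullDim X ≤ d)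

theorem inter_cons_inv (F : X.Modules) {A : X.Modules} (hA : PicF.IsInvertible A) {m : ℕ} (c : Fin m → Pic X) :
    inter k X d F (Fin.cons (mk A hA)⁻¹ c : Fin (m + 1) → Pic X) = inter k X d F c - inter k X d (CohB1.tensorMod A F) c := by
  rw [inter_cons, inv_inv, Pic13.H970.IntForm.I_cons_mk]
  rfl

include hd in
/-- **The Koszul relation.** -/
theorem inter_eq_zero_of_chain {V : X.Modules} (φ : V ⟶ Coh.structureModule X) [Epi φ] {W : X.Modules} {j : W ⟶ V}
    {m : ℕ} {c : Fin m → Pic X} (h : Chain W j m c) (F : X.Modules) (hF : Coh.IsCoh F) (h0 : act (j ≫ φ) F = 0) :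
    inter k X d F c = 0 := by
  have := Fga.IntAdd.isNoetherian k X
  induction h generalizing F with
  | nil j hj c =>
    have h1 : Epi (j ≫ φ) := epi_comp _ _
    have h2 := epi_mapT_left (j ≫ φ) F
    have h3 : Epi (act (j ≫ φ) F) := epi_comp _ _
    have h4 : IsZero F := by
      rw [IsZero.iff_id_eq_zero, ← cancel_epi (act (j ≫ φ) F), h0, zero_comp, zero_comp]
    exact Fga.ChiBasic.chi_isZero (isAdd_inter k X d hd c) h4
  | cons i q w hex hq hA j' j hj h c' hc' ih =>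
    rename_i W W' A m c
    subst hj
    subst hc'
    rw [Category.assoc] at h0
    obtain ⟨σ, hσ⟩ := exists_σ i q w hex hq (j' ≫ φ) F h0
    have hAF : Coh.IsCoh (CohB1.tensorMod A F) := Fga.SnapperTwist.isCoh_tensor' hA hF
    have hK : Coh.IsCoh (kernel σ) := Sga67.CohBasic.isCoh_kernel σ hAF hF.1
    have hQ : Coh.IsCoh (cokernel σ) := Sga67.CohBasic.isCoh_cokernel σ hAF.1 hF
    have h1 := ih (kernel σ) hK (act_kernel (j' ≫ φ) q σ hσ hA)
    have h2 := ih (cokernel σ) hQ (act_cokernel (j' ≫ φ) q σ hσ)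
    have hadd := isAdd_inter k X d hd c
    have h3 := Fga.ChiBasic.chi_map hadd σ hAF hF
    rw [inter_cons_inv]
    have h4 : inter k X d (CohB1.tensorMod A F) c + inter k X d (cokernel σ) c =
        inter k X d F c + inter k X d (kernel σ) c := h3
    omega

end chain

end K706.KosRel
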