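import Groth.Agent.Vanish.K909.NefIff
import Groth.Agent.S1525
import Groth.Agent.S0927
import Groth.Agent.S1557
import Groth.Agent.S0031
import Groth.Agent.S0036
import Groth.Agent.Dcoh.DerSch
import Groth.Agent.VBCurve.K706.Twist
import Groth.Agent.VBCurve.K708.PtTwist

/-!
# Intersection numbers with classes pulled back from a curve

`π : P ⟶ C` a morphism of proper schemes over `k`, `C` a curve.
* `leray`: `χ(P, π^*N ⊗ G) = χ(P, G) + ρ(G) dg N`;
* `inter_pull`: `(π^*n · c · F) = ρ(c) dg n`;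
* `inter_pull_pull`: `(π^*n · π^*n' · c · F) = 0`.
-/

set_option autoImplicit false
set_option linter.unusedVariables false
set_option linter.unusedSectionVars false
universe u
open CategoryTheory CategoryTheory.Limits AlgebraicGeometry

namespace K706.LerLin

open Groth.Agent K707.Base K707.Deg
open Groth.Agent.VarietyA.DegRank
open Groth.Agent.Fga.PicMon Groth.Agent.Grpsch.PicGrp K909.InterML Groth.Agent.Pic13.H970.IntForm K909.Kleiman
open Groth.Agent.Fga.AltSum

variable {k : Type u} [Field k] {C P : Scheme.{u}} [C.Over (Spec (CommRingCat.of k))] [P.Over (Spec (CommRingCat.of k))]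
  [IsIntegral C] [IsProper (C ↘ (Spec (CommRingCat.of k)))] [IsProper (P ↘ (Spec (CommRingCat.of k)))]
  (π : P ⟶ C) (hπ : π ≫ (C ↘ (Spec (CommRingCat.of k))) = P ↘ (Spec (CommRingCat.of k)))

/-- The degree of a class is the degree of a representative. -/
theorem degc_mk (hC : topologicalKrullDim C = 1) {N : C.Modules} (hN : PicF.IsInvertible N) :
    degc k C 1 (mk N hN) = dg k N := by
  have hd : topologicalKrullDim C ≤ (1 : ℕ) := by rw [hC]; rfl
  unfold degc
  rw [inter_one k C 1 hd N hN hd, Fga.IntAdd.eulerCharLE_eq k C 1 hd, Fga.IntAdd.eulerCharLE_eq k C 1 hd,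
    dg_of_rank k (K706.VStab.rank_one hN), Curv2.deg]
  simp

theorem euler_of_isZero (hC : topologicalKrullDim C = 1) {M : C.Modules} (h : IsZero M) : Curv2.euler k C M = 0 := by
  have hd : topologicalKrullDim C ≤ (1 : ℕ) := by rw [hC]; rfl
  have h1 := Fga.ChiBasic.chi_isZero (isAdd_inter k C 1 hd (fun i : Fin 0 => i.elim0)) h
  have h2 : inter k C 1 M (fun i : Fin 0 => i.elim0) = 0 := h1
  rw [inter_zero, Fga.IntAdd.eulerCharLE_eq k C 1 hd] at h2
  exact h2

include hπ in
theorem leray (hC : topologicalKrullDim C = 1) {G : P.Modules} (hG : Coh.IsCoh G) :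
    ∃ ρ : ℤ, ∀ (N : C.Modules) (hN : PicF.IsInvertible N),
      Curv2.euler k P (CohB1.tensorMod ((Scheme.Modules.pullback π).obj N) G) = Curv2.euler k P G + ρ * dg k N := by
  have hinj : HasInjectiveResolutions P.Modules := Groth.Agent.Dcoh.DerSch.hasInjectiveResolutions P
  have hprop : IsProper (π ≫ (C ↘ (Spec (CommRingCat.of k)))) := by rw [hπ]; infer_instance
  have hfp : IsProper π := IsProper.of_comp π (C ↘ (Spec (CommRingCat.of k)))
  have nC := Fga.IntAdd.isNoetherian k C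
  have nP := Fga.IntAdd.isNoetherian k P
  obtain ⟨n₀, hn₀⟩ := S0031.result π
  have hR : ∀ i, Coh.IsCoh ((Coh.Rpush π i).obj G) := fun i => S0036.result π G hG i
  have hz : ∀ i, n₀ ≤ i → IsZero ((Coh.Rpush π i).obj G) := fun i hi =>
    (Ega4B.RpushCompare.isZero_rpush_iff π G i).mpr (hn₀ G hG.1 i hi)
  refine ⟨∑ i ∈ Finset.range n₀, (-1 : ℤ) ^ i * (rk ((Coh.Rpush π i).obj G) : ℤ), fun N hN => ?_⟩
  have hGN : Coh.IsCoh (CohB1.tensorMod ((Scheme.Modules.pullback π).obj N) G) :=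
    Fga.SnapperTwist.isCoh_tensor' (Fdesc.LocGen.isInvertible_pullback π hN) hG
  have h1 := S1525.result k C P π hπ _ hGN
  have h2 := S1525.result k C P π hπ _ hG
  have key : ∀ i, Curv2.euler k C ((Coh.Rpush π i).obj (CohB1.tensorMod ((Scheme.Modules.pullback π).obj N) G)) =
      (rk ((Coh.Rpush π i).obj G) : ℤ) * dg k N + Curv2.euler k C ((Coh.Rpush π i).obj G) := by
    intro i
    obtain ⟨e⟩ := S0927.result π G N (K706.Twist.vb_inv hN) i
    rw [← euler_iso k e]
    have h3 := S1557.result k C hC 1 N (K706.VStab.rank_one hN) _ (hR i)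
    rw [h3, dg_of_rank k (K706.VStab.rank_one hN)]
    simp [rk]
  have hs1 : (Function.support fun i : ℕ => (-1 : ℤ) ^ i *
      Curv2.euler k C ((Coh.Rpush π i).obj (CohB1.tensorMod ((Scheme.Modules.pullback π).obj N) G))) ⊆
      ↑(Finset.range n₀) := by
    intro i hi
    by_contra h
    have hi' : n₀ ≤ i := by simpa using h
    apply hi
    simp only
    have hr : rk ((Coh.Rpush π i).obj G) = 0 := K707.Slope.rk_of_isZero (hz i hi')
    have he : Curv2.euler k C ((Coh.Rpush π i).obj G) = 0 := euler_of_isZero hC (hz i hi')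
    rw [key i, hr, he]
    simp
  have hs2 : (Function.support fun i : ℕ => (-1 : ℤ) ^ i * Curv2.euler k C ((Coh.Rpush π i).obj G)) ⊆
      ↑(Finset.range n₀) := by
    intro i hi
    by_contra h
    have hi' : n₀ ≤ i := by simpa using h
    apply hi
    simp only
    have he : Curv2.euler k C ((Coh.Rpush π i).obj G) = 0 := euler_of_isZero hC (hz i hi')
    rw [he, mul_zero]
  rw [h1, h2, finsum_eq_sum_of_support_subset _ hs1, finsum_eq_sum_of_support_subset _ hs2, Finset.sum_mul,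
    ← Finset.sum_add_distrib]
  refine Finset.sum_congr rfl fun i _ => ?_
  rw [key i]
  ring

section numbers

variable (C₀ : Crv k C) (d : ℕ) (hd : topologicalKrullDim P ≤ d) (F : P.Modules) (hF : Coh.IsCoh F)

theorem degc_inv (hC : topologicalKrullDim C = 1) (n : Pic C) : degc k C 1 n⁻¹ = - degc k C 1 n := by
  have hd : topologicalKrullDim C ≤ (1 : ℕ) := by rw [hC]; rfl
  have := degc_zpow k C 1 hd hd n (-1)
  rw [zpow_neg_one] at this
  rw [this]
  ring

include hπ C₀ hd hF in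
/-- The linear dependence on pulled back classes. -/
theorem exists_rho : ∃ ρ : MC P → ℤ, ∀ (y : Pic P) (n : Pic C),
    chiCl k P d F (toMC P (pull π n) * toMC P y) = chiCl k P d F (toMC P y) + ρ (toMC P y) * degc k C 1 n := by
  have key : ∀ m : MC P, (∃ y : Pic P, m = toMC P y) → ∃ r : ℤ, ∀ n : Pic C,
      chiCl k P d F (toMC P (pull π n) * m) = chiCl k P d F m + r * degc k C 1 n := by
    rintro m ⟨y, rfl⟩
    obtain ⟨L, hL, rfl⟩ := exists_mk y
    have hG : Coh.IsCoh (CohB1.tensorMod L F) := Fga.SnapperTwist.isCoh_tensor' hL hF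
    obtain ⟨ρ, hρ⟩ := leray π hπ C₀.dim hG
    refine ⟨ρ, fun n => ?_⟩
    obtain ⟨N, hN, rfl⟩ := exists_mk n
    have h1 := hρ N hN
    rw [pull_mk, toMC_mk, toMC_mk, degc_mk C₀.dim, mul_comm (mc _) (mc L), ← chiCl_tensor, chiCl_mc, chiCl_mc,
      Fga.IntAdd.eulerCharLE_eq k P d hd, Fga.IntAdd.eulerCharLE_eq k P d hd]
    exact h1
  choose! ρ hρ using key
  exact ⟨ρ, fun y n => hρ _ ⟨y, rfl⟩ n⟩

theorem prod_toMC {r : ℕ} (c : Fin r → Pic P) (I : Finset (Fin r)) :
    ∏ i ∈ I, toMC P (c i) = toMC P (∏ i ∈ I, c i) := (map_prod _ _ _).symm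

variable (k) in
/-- `ρ` as above. -/
def IsRho (ρ : MC P → ℤ) : Prop := ∀ (y : Pic P) (n : Pic C),
    chiCl k P d F (toMC P (pull π n) * toMC P y) = chiCl k P d F (toMC P y) + ρ (toMC P y) * degc k C 1 n

include C₀ in
theorem IsRho.inter_cons {ρ : MC P → ℤ} (hρ : IsRho k π d F ρ) {r : ℕ} (n : Pic C) (c : Fin r → Pic P) :
    inter k P d F (Fin.cons (pull π n) c : Fin (r + 1) → Pic P) = degc k C 1 n * dSum ρ (fun i => toMC P (c i)⁻¹) := by
  rw [K909.InterML.inter_cons, I_cons, ← map_inv]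
  have h1 : dSum (fun x => chiCl k P d F (toMC P (pull π n⁻¹) * x)) (fun i => toMC P (c i)⁻¹) =
      dSum (fun x => chiCl k P d F x + degc k C 1 n⁻¹ * ρ x) (fun i => toMC P (c i)⁻¹) := by
    apply dSum_congr
    intro I
    rw [prod_toMC (fun i => (c i)⁻¹) I, hρ, mul_comm (ρ _)]
  rw [h1, dSum_add, dSum_smul, degc_inv C₀.dim]
  unfold I
  ring

include C₀ in
theorem IsRho.mul_pull {ρ : MC P → ℤ} (hρ : IsRho k π d F ρ) (y : Pic P) (m : Pic C) :
    ρ (toMC P (pull π m) * toMC P y) = ρ (toMC P y) := by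
  have hd : topologicalKrullDim C ≤ (1 : ℕ) := by rw [C₀.dim]; rfl
  obtain ⟨A, hA, hpos⟩ := K708.PtTwist.exists_inv_pos C₀
  have h0 : 0 < degc k C 1 (mk A hA) := by rw [degc_mk C₀.dim]; exact hpos
  have h1 := hρ y m
  have h2 := hρ (pull π m * y) (mk A hA)
  have h3 := hρ y (mk A hA * m)
  rw [map_mul, map_mul, mul_assoc, degc_mul k C 1 hd hd] at h3
  rw [map_mul, h3, h1] at h2
  have h4 : ρ (toMC P y) * degc k C 1 (mk A hA) = ρ (toMC P (pull π m) * toMC P y) * degc k C 1 (mk A hA) := by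
    linarith
  exact (mul_right_cancel₀ h0.ne' h4).symm

include C₀ in
theorem IsRho.inter_cons_cons {ρ : MC P → ℤ} (hρ : IsRho k π d F ρ) {r : ℕ} (n m : Pic C) (c : Fin r → Pic P) :
    inter k P d F (Fin.cons (pull π n) (Fin.cons (pull π m) c : Fin (r + 1) → Pic P) : Fin (r + 2) → Pic P) = 0 := by
  rw [hρ.inter_cons π C₀]
  have h1 : (fun i => toMC P ((Fin.cons (pull π m) c : Fin (r + 1) → Pic P) i)⁻¹) =
      (Fin.cons (toMC P (pull π m⁻¹)) (fun i => toMC P (c i)⁻¹) : Fin (r + 1) → MC P) := by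
    funext i
    cases i using Fin.cases with
    | zero => simp [map_inv]
    | succ i => rfl
  rw [h1, dSum_cons]
  have h2 : dSum (fun x => ρ (toMC P (pull π m⁻¹) * x)) (fun i => toMC P (c i)⁻¹) = dSum ρ (fun i => toMC P (c i)⁻¹) := by
    apply dSum_congr
    intro I
    rw [prod_toMC (fun i => (c i)⁻¹) I, hρ.mul_pull π C₀]
  rw [h2, sub_self, mul_zero]

end numbers

end K706.LerLin
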