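import Mathlib.LinearAlgebra.Multilinear.Basic
import Mathlib.Tactic

/-!
# Expanding multilinear forms with few classes from the base
-/

set_option autoImplicit false

namespace K706.NefAlg

open Finset

variable {M : Type*} [AddCommGroup M] {r : ℕ} (f : MultilinearMap ℤ (fun _ : Fin r => M) ℤ) {D : Type*} (pl : D → M)
  (δ : D → ℤ) (b : M) (ρ : ℤ)

theorem expand
    (h2 : ∀ v : Fin r → M, ∀ i j, i ≠ j → (∃ x, v i = pl x) → (∃ x, v j = pl x) → f v = 0)
    (h1 : ∀ i, ∀ n : D, f (Function.update (fun _ => b) i (pl n)) = ρ * δ n)
    (a : ℤ) (m : Fin r → D) :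
    f (fun i => a • b + pl (m i)) = a ^ r * f (fun _ => b) + a ^ (r - 1) * (ρ * ∑ i, δ (m i)) := by
  classical
  let n : Fin r → M := fun i => pl (m i)
  have e0 : (fun i => a • b + pl (m i)) = (fun _ => a • b) + n := rfl
  rw [e0, f.map_add_univ]
  set g : Finset (Fin r) → ℤ := fun s => f (s.piecewise (fun _ => a • b) n) with hg
  have hsub : ∑ s, g s = ∑ s ∈ insert (univ : Finset (Fin r)) (univ.image fun i => univ.erase i), g s := by
    refine (Finset.sum_subset (subset_univ _) fun s _ hs => ?_).symm
    rw [mem_insert, not_or] at hs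
    obtain ⟨i, hi⟩ : ∃ i, i ∉ s := by
      by_contra h
      push Not at h
      exact hs.1 (eq_univ_iff_forall.mpr h)
    obtain ⟨j, hj, hij⟩ : ∃ j, j ∉ s ∧ j ≠ i := by
      by_contra h
      push Not at h
      apply hs.2
      rw [mem_image]
      refine ⟨i, mem_univ _, ?_⟩
      ext t
      simp only [mem_erase, mem_univ, and_true]
      constructor
      · intro ht
        by_contra h'
        exact ht (h t h')
      · rintro ht rfl
        exact hi ht
    exact h2 _ i j hij.symm ⟨m i, by simp [hi, n]⟩ ⟨m j, by simp [hj, n]⟩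
  have hnot : (univ : Finset (Fin r)) ∉ univ.image fun i => univ.erase i := by
    intro h
    obtain ⟨i, -, hi⟩ := mem_image.mp h
    have := mem_univ i
    rw [← hi] at this
    simp at this
  have hinj : Function.Injective fun i : Fin r => (univ : Finset (Fin r)).erase i := by
    intro i j h
    by_contra hne
    have h3 : j ∈ (univ : Finset (Fin r)).erase i := by simp [Ne.symm hne]
    simp only at h
    rw [h] at h3
    simp at h3
  change ∑ s, g s = _
  rw [hsub, sum_insert hnot, sum_image fun i _ j _ h => hinj h]
  have e1 : g univ = a ^ r * f (fun _ => b) := by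
    simp only [hg, piecewise_univ]
    have := f.map_smul_univ (fun _ => a) (fun _ => b)
    rw [this]
    simp
  have e2 : ∀ i, g (univ.erase i) = a ^ (r - 1) * (ρ * δ (m i)) := by
    intro i
    have h3 : (univ.erase i).piecewise (fun _ => a • b) n =
        fun j => (if j = i then (1 : ℤ) else a) • (Function.update (fun _ => b) i (n i)) j := by
      funext j
      by_cases hj : j = i
      · subst hj; simp
      · rw [piecewise_eq_of_mem _ _ _ (by simp [hj]), Function.update_of_ne hj, if_neg hj]
    simp only [hg]
    rw [h3, f.map_smul_univ, h1 i (m i), prod_ite, prod_const_one, one_mul, prod_const, smul_eq_mul]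
    congr 2
    have h4 : (univ.filter fun x => ¬ x = i) = univ.erase i := by
      ext x; simp
    rw [h4, card_erase_of_mem (mem_univ i), card_univ, Fintype.card_fin]
  rw [e1, sum_congr rfl fun i _ => e2 i, ← mul_sum, ← mul_sum]

end K706.NefAlg
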