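import Groth.Agent.VBCurve.K706.NefNum
import Groth.Agent.Variety.K432.PStat
import Groth.Agent.Variety.K424.NakMain
import Groth.Agent.Vanish.K909.NefTens
import Groth.Agent.S11309
import Groth.Agent.Cyc.K307.PBGeom
import Groth.Agent.Krr.H483.PBTop
import Groth.Agent.S5722
import Groth.Agent.CalgB.AmpleBase
import Groth.Agent.CharCyc.K716.Td
import Groth.Agent.S1530
import Groth.Agent.S2329

/-!
# Degrees of bundles all of whose invertible quotients over curves have large degree

`main`: let `C` be an integral proper regular curve over a field `k`, `E` a finite locally free module of rank `r ≥ 1`, `N`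
invertible of positive degree, `q > 0`, `p ∈ ℤ`.  If `p deg f^*N ≤ q deg M` for every invertible quotient `f^*E → M` over
every regular proper integral curve `f : D → C`, then `p r deg N ≤ q deg E`.
-/

set_option autoImplicit false
set_option linter.unusedVariables false
set_option linter.unusedSectionVars false
set_option linter.style.haveILetI false
universe u
open CategoryTheory CategoryTheory.Limits AlgebraicGeometry

namespace K706.NefDeg

open Groth.Agent K707.Base K707.Deg K707.Slope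
open Groth.Agent.VarietyA.DegRank
open Groth.Agent.Fga.PicMon Groth.Agent.Grpsch.PicGrp K909.InterML K909.Kleiman
open K706.LerLin K706.PBRel K706.NefAlg

section dim

open K716.Td

variable {k : Type u} [Field k] {C P : Scheme.{u}}

theorem dim_eq (q : C ⟶ Spec (CommRingCat.of k)) [LocallyOfFiniteType q] [IrreducibleSpace C]
    (hC : topologicalKrullDim C = 1) (π : P ⟶ C) [LocallyOfFiniteType π] {s : ℕ} (h : Cyc.HasRelDim π s)
    (hs : Function.Surjective π) : topologicalKrullDim P = (s + 1 : ℕ) := by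
  apply le_antisymm
  · rw [dim_le_iff (π ≫ q)]
    intro x
    rw [td_comp]
    have h1 : td π x ≤ s := by
      refine (dim_fiber_le_iff π (π x) s).1 ?_ x rfl
      rw [Groth.Agent.VarietyB.DimTop.topologicalKrullDim_eq_iSup_irreducibleComponents]
      exact iSup_le fun Z => (h _ Z.1 Z.2).le
    have h2 : td q (π x) ≤ 1 := (dim_le_iff q 1).1 (by rw [hC]; rfl) _
    omega
  · obtain ⟨x0, hx0⟩ := hs (genericPoint C)
    have hne : Nonempty (π.fiber (genericPoint C)) := ⟨by rw [← hx0]; exact π.asFiber x0⟩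
    obtain ⟨z⟩ := hne
    have h1 : (s : WithBot ℕ∞) ≤ topologicalKrullDim (π.fiber (genericPoint C)) := by
      rw [← h _ (irreducibleComponent z) (irreducibleComponent_mem_irreducibleComponents z)]
      exact topologicalKrullDim_subspace_le _ _
    obtain ⟨x, hx, hsx⟩ := (le_dim_fiber_iff π (genericPoint C) s).1 h1
    have h2 : (1 : ℕ) ≤ td q (genericPoint C) := by
      have h3 := dim_closure q (genericPoint C)
      rw [genericPoint_closure, IsHomeomorph.topologicalKrullDim_eq _ (Homeomorph.Set.univ C).isHomeomorph, hC] at h3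
      have h4 : (1 : ℕ) = td q (genericPoint C) := by exact_mod_cast h3
      exact h4.le
    refine le_trans ?_ (le_dim (π ≫ q) x)
    rw [td_comp, hx]
    have : s + 1 ≤ td q (genericPoint C) + td π x := by omega
    exact_mod_cast this

end dim

section nef

open K432.CurveDeg K432.NefBasic

variable (k : Type u) [Field k] {C : Scheme.{u}} [C.Over (Spec (CommRingCat.of k))]

/-- The hypothesis. -/
def QNef (E N : C.Modules) (p q : ℤ) : Prop :=
  ∀ (D : Scheme.{u}) [D.Over (Spec (CommRingCat.of k))] [IsProper (D ↘ (Spec (CommRingCat.of k)))] [IsIntegral D],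
    topologicalKrullDim D = 1 → (∀ x : D, IsRegularLocalRing (D.presheaf.stalk x)) →
    ∀ (f : D ⟶ C), f ≫ (C ↘ (Spec (CommRingCat.of k))) = D ↘ (Spec (CommRingCat.of k)) →
    ∀ (M : D.Modules), PicF.IsInvertible M → ∀ (g : (Scheme.Modules.pullback f).obj E ⟶ M), Epi g →
      p * Curv2.deg k D ((Scheme.Modules.pullback f).obj N) 1 ≤ q * Curv2.deg k D M 1

/-- On an integral curve the degree of a class is the degree of a representative. -/
theorem degc_mk' (Y : Scheme.{u}) [Y.Over (Spec (CommRingCat.of k))] [IsProper (Y ↘ (Spec (CommRingCat.of k)))]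
    (hY : topologicalKrullDim Y = 1) {L : Y.Modules} (hL : PicF.IsInvertible L) :
    degc k Y 1 (mk L hL) = Curv2.deg k Y L 1 := by
  have hd : topologicalKrullDim Y ≤ (1 : ℕ) := by rw [hY]; rfl
  unfold degc
  rw [inter_one k Y 1 hd L hL hd, Fga.IntAdd.eulerCharLE_eq k Y 1 hd, Fga.IntAdd.eulerCharLE_eq k Y 1 hd, Curv2.deg]
  simp

theorem nef_of_qnef {E N : C.Modules} (hN : PicF.IsInvertible N) {p q : ℤ} (h : QNef k E N p q)
    {P : Scheme.{u}} [P.Over (Spec (CommRingCat.of k))] [IsProper (P ↘ (Spec (CommRingCat.of k)))] (π : P ⟶ C)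
    (hπ : π ≫ (C ↘ (Spec (CommRingCat.of k))) = P ↘ (Spec (CommRingCat.of k))) {B : P.Modules}
    (hB : PicF.IsInvertible B) (can : (Scheme.Modules.pullback π).obj E ⟶ B) (hcan : Epi can) {L : P.Modules}
    (hL : PicF.IsInvertible L) (e : mk L hL = mk B hB ^ q * pull π (mk N hN) ^ (-p)) : K909.Kleiman.Nef k P L := by
  intro Y i _ hY hdim
  letI : Y.Over (Spec (CommRingCat.of k)) := ⟨i ≫ (P ↘ Spec (CommRingCat.of k))⟩
  have hi : i ≫ (P ↘ Spec (CommRingCat.of k)) = Y ↘ Spec (CommRingCat.of k) := rfl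
  haveI : IsProper (Y ↘ Spec (CommRingCat.of k)) := by rw [← hi]; infer_instance
  have hdim' : topologicalKrullDim Y ≤ (1 : ℕ) := by rw [hdim]; rfl
  have hiB := Fdesc.LocGen.isInvertible_pullback i hB
  have hpN := Fdesc.LocGen.isInvertible_pullback π hN
  have hiN := Fdesc.LocGen.isInvertible_pullback i hpN
  rw [hi, curveDeg_eq_degc k Y 1 hdim' _ (Fdesc.LocGen.isInvertible_pullback i hL) hdim', ← pull_mk i hL, e, map_mul,
    map_zpow, map_zpow, pull_mk, pull_mk, pull_mk, degc_mul k Y 1 hdim' hdim', degc_zpow k Y 1 hdim' hdim',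
    degc_zpow k Y 1 hdim' hdim', degc_mk' k Y hdim, degc_mk' k Y hdim]
  obtain ⟨D, ν, hν, hsurj, hD, hDdim, hreg, -⟩ := K432.CurveNorm.exists_regular_model (Y ↘ Spec (CommRingCat.of k)) hdim
  have hdom : IsDominant ν := ⟨hsurj.surj.denseRange⟩
  obtain ⟨m, hm, hm'⟩ := exists_dg_pullback_dominant (Y ↘ Spec (CommRingCat.of k)) ν hDdim hdim
  letI : D.Over (Spec (CommRingCat.of k)) := ⟨ν ≫ (Y ↘ Spec (CommRingCat.of k))⟩
  have hDo : ν ≫ (Y ↘ Spec (CommRingCat.of k)) = D ↘ Spec (CommRingCat.of k) := rfl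
  haveI : IsProper (D ↘ Spec (CommRingCat.of k)) := by rw [← hDo]; infer_instance
  have h1 := h D hDdim hreg ((ν ≫ i) ≫ π) (by rw [Category.assoc, hπ, Category.assoc, hi, hDo])
    ((Scheme.Modules.pullback (ν ≫ i)).obj B) (Fdesc.LocGen.isInvertible_pullback _ hB)
    ((Scheme.Modules.pullbackComp (ν ≫ i) π).inv.app E ≫ (Scheme.Modules.pullback (ν ≫ i)).map can)
    (by
      have := epi_pullback_map (ν ≫ i) can
      exact epi_comp _ _)
  have e1 : Curv2.deg k D ((Scheme.Modules.pullback (ν ≫ i)).obj B) 1 =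
      m * Curv2.deg k Y ((Scheme.Modules.pullback i).obj B) 1 := by
    have h2 := hm' _ hiB
    exact (dg_congr (ν ≫ (Y ↘ Spec (CommRingCat.of k))) ((Scheme.Modules.pullbackComp ν i).app B)).symm.trans h2
  have e2 : Curv2.deg k D ((Scheme.Modules.pullback ((ν ≫ i) ≫ π)).obj N) 1 =
      m * Curv2.deg k Y ((Scheme.Modules.pullback i).obj ((Scheme.Modules.pullback π).obj N)) 1 := by
    have h2 := hm' _ hiN
    exact (dg_congr (ν ≫ (Y ↘ Spec (CommRingCat.of k))) ((Scheme.Modules.pullbackComp ν i).app _ ≪≫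
      (Scheme.Modules.pullbackComp (ν ≫ i) π).app N)).symm.trans h2
  rw [e1, e2] at h1
  have h3 : 0 ≤ m * (q * Curv2.deg k Y ((Scheme.Modules.pullback i).obj B) 1 +
      -p * Curv2.deg k Y ((Scheme.Modules.pullback i).obj ((Scheme.Modules.pullback π).obj N)) 1) := by
    linarith
  exact nonneg_of_mul_nonneg_right h3 hm

end nef

section main

theorem isRelAmple_iso {X Y : Scheme.{u}} {f : X ⟶ Y} {L M : X.Modules} (e : L ≅ M) (h : RelAmple.IsRelAmple f L) :
    RelAmple.IsRelAmple f M :=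
  ⟨h.1, fun V => S2329.isAmple_of_iso ((Scheme.Modules.restrictFunctor (f ⁻¹ᵁ V.1).ι).mapIso e) (h.2 V)⟩

variable {k : Type u} [Field k] {C : Scheme.{u}} [C.Over (Spec (CommRingCat.of k))]
  [IsIntegral C] [IsProper (C ↘ (Spec (CommRingCat.of k)))]

theorem main (C₀ : Crv k C) {E N : C.Modules} (hE : FlatMod.IsFinLocFree E) (h0 : 0 < rk E) (hN : PicF.IsInvertible N)
    (hNd : 0 < dg k N) {p q : ℤ} (hq : 0 < q) (h : QNef k E N p q) : p * (rk E * dg k N) ≤ q * dg k E := by
  obtain ⟨𝒮, j, P, π, chart, O1, lam, hj, hP, hL, hpr, φ, hφ⟩ := K432.PStat.exists_pbun hE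
  obtain ⟨s, hs⟩ : ∃ s, rk E = s + 1 := ⟨rk E - 1, by omega⟩
  letI : P.Over (Spec (CommRingCat.of k)) := ⟨π ≫ (C ↘ (Spec (CommRingCat.of k)))⟩
  have hπ : π ≫ (C ↘ (Spec (CommRingCat.of k))) = P ↘ (Spec (CommRingCat.of k)) := rfl
  haveI : IsProper (P ↘ (Spec (CommRingCat.of k))) := by rw [← hπ]; infer_instance
  have hEq : Coh.IsQCoh E := Ega2.QCohLocal.isQCoh_of_isFinLocFree hE
  have hPB := S11309.isProjBundle hP hL hEq hj
  have hEr : FlatMod.IsFinLocFreeOfRank (s + 1) E := by rw [← hs]; exact isFinLocFreeOfRank_rk hE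
  have hdim : topologicalKrullDim P = (s + 1 : ℕ) :=
    dim_eq (C ↘ (Spec (CommRingCat.of k))) C₀.dim π (K307.PBGeom.hasRelDim hEr hPB) (Krr.H483.PBTop.surjective hEr hPB)
  have nP := Fga.IntAdd.isNoetherian k P
  have hF : Coh.IsCoh (Coh.structureModule P) := CurvesC.UnitCoh.isCoh_unit P
  have hB : PicF.IsInvertible O1 := hφ.inv
  have hcan : Epi hφ.can := hφ.epi
  obtain ⟨R, hR, hR'⟩ := K706.NefNum.number π hπ C₀ (s := s) (hd := hdim.le) (hF := hF) hE hs
    hB hφ.can
  -- the ample class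
  have hNa : CohB1.IsAmple N := (S1530.result k C C₀.dim N hN).mpr (by
    rw [← dg_of_rank k (K706.VStab.rank_one hN)]; exact hNd)
  have hrel : RelAmple.IsRelAmple π O1 := by
    have h1 := S5722.result π E hEq 𝒮 j hj P π chart hP O1 lam hL (𝟙 P) (Category.id_comp _)
      (Homeomorph.refl P).isEmbedding
    exact isRelAmple_iso ((Scheme.Modules.pullbackId P).app O1) h1
  obtain ⟨a, b, hA⟩ := CalgB.AmpleBase.exists_isAmple_of_isRelAmple hNa hrel
  have hdN : degc k C 1 (mk N hN) = dg k N := degc_mk C₀.dim hN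
  have hC1 : topologicalKrullDim C ≤ (1 : ℕ) := by rw [C₀.dim]; rfl
  have hpN := Fdesc.LocGen.isInvertible_pullback π hN
  have hAc : mk _ hA.1 = mk O1 hB ^ (a : ℤ) * pull π (mk N hN ^ b) := by
    rw [zpow_natCast, map_pow, pull_mk, ← mk_tensorPow hB, ← mk_tensorPow hpN, mk_mul_mk]
  have hsupp : topologicalKrullDim (CohB1.support (Coh.structureModule P)) = (s + 1 : ℕ) := by
    rw [Pic13.H970.Assembly.support_unit, IsHomeomorph.topologicalKrullDim_eq _ (Homeomorph.Set.univ P).isHomeomorph, hdim]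
  have hpos : 0 < inter k P (s + 1) (Coh.structureModule P) (fun _ : Fin (s + 1) => mk _ hA.1) :=
    Pic13.H970.IntForm.I_pos k P (s + 1) hdim.le _ hF (fun _ => _) (fun _ => hA) (fun _ => hA.1) hsupp
  rw [hAc, hR] at hpos
  -- `R` is non-negative
  have hNnef : K432.NefBasic.Nef (C ↘ (Spec (CommRingCat.of k))) N := fun I hI hdimI =>
    (K432.AmpCurve.dg_pos_of_isAmple (I.subschemeι ≫ (C ↘ (Spec (CommRingCat.of k))))
      (by rw [K432.NefBasic.topologicalKrullDim_subscheme, hdimI]) I.subschemeι hNa).le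
  have hnefN : K909.Kleiman.Nef k P ((Scheme.Modules.pullback π).obj N) := by
    refine nef_of_qnef k (E := E) hN (p := -1) (q := 0) ?_ π hπ hB hφ.can hcan hpN ?_
    · intro D _ _ _ hD _ f hf M hM g hg
      have hfp : IsProper (f ≫ (C ↘ (Spec (CommRingCat.of k)))) := by rw [hf]; infer_instance
      have h1 := K432.NefBasic.Nef.dg_nonneg hN hNnef hD f
      rw [hf] at h1
      have h2 : 0 ≤ Curv2.deg k D ((Scheme.Modules.pullback f).obj N) 1 := h1
      linarith
    · rw [zpow_zero, one_mul, neg_neg, zpow_one, pull_mk]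
  have hmix := nonneg_mixed (K424.NakMain.nak k) hdim.le hnefN hpN hA (Coh.structureModule P) hF hsupp.le
    (Fin.cons (pull π (mk N hN)) (fun _ : Fin s => mk _ hA.1) : Fin (s + 1) → Pic P) (by
      intro j
      cases j using Fin.cases with
      | zero => left; rw [Fin.cons_zero, pull_mk]
      | succ j => right; rw [Fin.cons_succ])
  rw [hAc, hR', hdN] at hmix
  -- the nef class
  obtain ⟨L, hL', hLc⟩ := exists_mk (mk O1 hB ^ q * pull π (mk N hN) ^ (-p))
  have hnefL := nef_of_qnef k hN h π hπ hB hφ.can hcan hL' hLc.symm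
  have hmain := nonneg_mixed (K424.NakMain.nak k) hdim.le hnefL hL' hA (Coh.structureModule P) hF hsupp.le
    (fun _ : Fin (s + 1) => mk L hL') (fun j => Or.inl rfl)
  rw [← hLc, ← map_zpow, hR, degc_zpow k C 1 hC1 hC1, hdN] at hmain
  have ha0 : (0 : ℤ) ≤ (a : ℤ) ^ s := by positivity
  have ha : (0 : ℤ) < (a : ℤ) ^ s := lt_of_le_of_ne ha0 (fun h0 => by rw [← h0, zero_mul] at hpos; exact lt_irrefl _ hpos)
  have hR0 : R ≠ 0 := by
    rintro rfl
    rw [zero_mul, mul_zero] at hpos
    exact lt_irrefl _ hpos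
  have hR1 : 0 ≤ R := nonneg_of_mul_nonneg_left (nonneg_of_mul_nonneg_right hmix ha) hNd
  have hR2 : 0 < R := lt_of_le_of_ne hR1 (Ne.symm hR0)
  have hq' : (0 : ℤ) < q ^ s := by positivity
  have h1 := nonneg_of_mul_nonneg_right hmain hq'
  have h2 := nonneg_of_mul_nonneg_right h1 hR2
  rw [hs]
  push_cast
  linarith

end main

end K706.NefDeg
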