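import Groth.Agent.VBCurve.K706.PBRel
import Groth.Agent.VBCurve.K706.NefAlg

/-!
# Top intersection numbers on the projective bundle of a bundle on a curve

* `number`: `((a b + π^*n)^r) = a^(r-1) R (a dg E + r dg n)`;
* `number_mixed`: `(π^*m · (a b + π^*n)^(r-1)) = a^(r-1) R dg m`.
-/

set_option autoImplicit false
set_option linter.unusedVariables false
set_option linter.unusedSectionVars false
universe u
open CategoryTheory CategoryTheory.Limits AlgebraicGeometry

namespace K706.NefNum

open Groth.Agent K707.Base K707.Deg K707.Slope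
open Groth.Agent.VarietyA.DegRank
open Groth.Agent.Fga.PicMon Groth.Agent.Grpsch.PicGrp K909.InterML K909.Kleiman
open K706.LerLin K706.PBRel K706.NefAlg
open Groth.Agent.Fga.AltSum Groth.Agent.Pic13.H970.IntForm

theorem exists_two (k : Type u) [Field k] (X : Scheme.{u}) [X.Over (Spec (CommRingCat.of k))] (d : ℕ) (F : X.Modules)
    {s : ℕ} (c : Fin (s + 2) → Pic X) (i j : Fin (s + 2)) (hij : i ≠ j) :
    ∃ c' : Fin s → Pic X, inter k X d F c =
      inter k X d F (Fin.cons (c i) (Fin.cons (c j) c' : Fin (s + 1) → Pic X) : Fin (s + 2) → Pic X) := by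
  classical
  let m : Fin (s + 2) := Equiv.swap 0 i j
  have hm0 : m ≠ 0 := by
    intro h
    have h1 : Equiv.swap 0 i j = Equiv.swap 0 i i := by rw [Equiv.swap_apply_right]; exact h
    exact hij ((Equiv.swap 0 i).injective h1).symm
  let σ : Equiv.Perm (Fin (s + 2)) := (Equiv.swap 1 m).trans (Equiv.swap 0 i)
  have h0 : σ 0 = i := by
    change Equiv.swap 0 i (Equiv.swap 1 m 0) = i
    rw [Equiv.swap_apply_of_ne_of_ne (by simp) hm0.symm, Equiv.swap_apply_left]
  have h1 : σ 1 = j := by
    change Equiv.swap 0 i (Equiv.swap 1 m 1) = j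
    rw [Equiv.swap_apply_left]
    exact Equiv.swap_apply_self 0 i j
  refine ⟨fun t => c (σ t.succ.succ), ?_⟩
  rw [← inter_perm k X d F c σ]
  congr 1
  funext t
  cases t using Fin.cases with
  | zero => rw [Fin.cons_zero, h0]
  | succ t =>
    cases t using Fin.cases with
    | zero => rw [Fin.cons_succ, Fin.cons_zero]; exact congrArg c h1
    | succ t => rw [Fin.cons_succ, Fin.cons_succ]

variable {k : Type u} [Field k] {C P : Scheme.{u}} [C.Over (Spec (CommRingCat.of k))] [P.Over (Spec (CommRingCat.of k))]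
  [IsIntegral C] [IsProper (C ↘ (Spec (CommRingCat.of k)))] [IsProper (P ↘ (Spec (CommRingCat.of k)))]
  (π : P ⟶ C) (hπ : π ≫ (C ↘ (Spec (CommRingCat.of k))) = P ↘ (Spec (CommRingCat.of k))) (C₀ : Crv k C)
  (s : ℕ) (hd : topologicalKrullDim P ≤ (s + 1 : ℕ)) (F : P.Modules) (hF : Coh.IsCoh F)

/-- The form on classes. -/
noncomputable abbrev fm : MultilinearMap ℤ (fun _ : Fin (s + 1) => Additive (Pic P)) ℤ :=
  ml k P (s + 1) hd F hF ((Topology.IsInducing.subtypeVal.topologicalKrullDim_le).trans hd)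

variable {s} {hd} {F} {hF}

include C₀ hd hF in
theorem expand_all {ρ : MC P → ℤ} (hρ : IsRho k π (s + 1) F ρ) (b : Pic P) (a : ℤ) (n : Fin (s + 1) → Pic C) :
    inter k P (s + 1) F (fun i => b ^ a * pull π (n i)) =
      a ^ (s + 1) * inter k P (s + 1) F (fun _ : Fin (s + 1) => b) +
        a ^ s * (dSum ρ (fun _ : Fin s => toMC P b⁻¹) * ∑ i, degc k C 1 (n i)) := by
  have h := expand (fm (k := k) s hd F hF) (fun x : Pic C => Additive.ofMul (pull π x)) (fun x => degc k C 1 x)
    (Additive.ofMul b) (dSum ρ (fun _ : Fin s => toMC P b⁻¹)) ?_ ?_ a n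
  · rw [ml_apply, ml_apply] at h
    exact h
  · intro v i j hij hi hj
    rw [ml_apply]
    obtain ⟨x, hx⟩ := hi
    obtain ⟨y, hy⟩ := hj
    obtain _ | t := s
    · exact absurd (Fin.ext (by omega)) hij
    · obtain ⟨c', hc'⟩ := exists_two k P (t + 1 + 1) F (fun i => (v i).toMul) i j hij
      rw [hc', hx, hy]
      exact IsRho.inter_cons_cons π C₀ (t + 1 + 1) F hρ x y c'
  · intro i n
    rw [ml_apply]
    obtain ⟨c', h1, h2⟩ := exists_front k P (s + 1) F (fun _ : Fin (s + 1) => b) i
    have e1 : c' = fun _ => b := by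
      funext j
      obtain ⟨j', -, h3⟩ := h1 j
      exact h3
    have e2 : (fun j => (Function.update (fun _ : Fin (s + 1) => Additive.ofMul b) i (Additive.ofMul (pull π n)) j).toMul) =
        Function.update (fun _ : Fin (s + 1) => b) i (pull π n) := by
      funext j
      by_cases hj : j = i
      · subst hj; simp
      · rw [Function.update_of_ne hj, Function.update_of_ne hj]; rfl
    rw [e2, h2, e1, IsRho.inter_cons π C₀ (s + 1) F hρ, mul_comm]

include hπ C₀ hd hF in
/-- The top intersection numbers. -/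
theorem number {E : C.Modules} (hE : FlatMod.IsFinLocFree E) (hr : rk E = s + 1) {B : P.Modules}
    (hB : PicF.IsInvertible B) (can : (Scheme.Modules.pullback π).obj E ⟶ B) [Epi can] :
    ∃ R : ℤ, (∀ (a : ℤ) (n : Pic C), inter k P (s + 1) F (fun _ : Fin (s + 1) => mk B hB ^ a * pull π n) =
        a ^ s * (R * (a * dg k E + (s + 1) * degc k C 1 n))) ∧
      ∀ (a : ℤ) (n m : Pic C), inter k P (s + 1) F
        (Fin.cons (pull π m) (fun _ : Fin s => mk B hB ^ a * pull π n) : Fin (s + 1) → Pic P) =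
          a ^ s * (R * degc k C 1 m) := by
  obtain ⟨ρ, hρ'⟩ := exists_rho π hπ C₀ (s + 1) hd F hF
  have hρ : IsRho k π (s + 1) F ρ := hρ'
  obtain ⟨l, hl, hrel⟩ := exists_relation C₀ π (s + 1) hd hE hr hB can
  have h1 := hrel F hF
  have h2 := expand_all π C₀ hρ (hd := hd) (hF := hF) (mk B hB) 1 (fun i => (l i)⁻¹)
  simp only [zpow_one, one_pow, one_mul] at h2
  rw [h1] at h2
  have h3 : ∑ i, degc k C 1 (l i)⁻¹ = - dg k E := by
    rw [← hl, ← Finset.sum_neg_distrib]
    exact Finset.sum_congr rfl fun i _ => degc_inv C₀.dim _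
  rw [h3] at h2
  refine ⟨dSum ρ (fun _ : Fin s => toMC P (mk B hB)⁻¹), fun a n => ?_, fun a n m => ?_⟩
  · rw [expand_all π C₀ hρ (hd := hd) (hF := hF) (mk B hB) a (fun _ => n)]
    rw [Finset.sum_const, Finset.card_univ, Fintype.card_fin, nsmul_eq_mul]
    push_cast
    have h4 : inter k P (s + 1) F (fun _ : Fin (s + 1) => mk B hB) =
        dSum ρ (fun _ : Fin s => toMC P (mk B hB)⁻¹) * dg k E := by linarith
    rw [h4]
    ring
  · have hs : topologicalKrullDim (CohB1.support F) ≤ ((s + 1 : ℕ) : WithBot ℕ∞) :=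
      (Topology.IsInducing.subtypeVal.topologicalKrullDim_le).trans hd
    have hC1 : topologicalKrullDim C ≤ (1 : ℕ) := by rw [C₀.dim]; rfl
    have h5 := expand_all π C₀ hρ (hd := hd) (hF := hF) (mk B hB) a (fun _ => n)
    have h6 := expand_all π C₀ hρ (hd := hd) (hF := hF) (mk B hB) a
      (Fin.cons (m * n) (fun _ => n) : Fin (s + 1) → Pic C)
    have e1 : (fun i : Fin (s + 1) => mk B hB ^ a * pull π ((Fin.cons (m * n) (fun _ => n) : Fin (s + 1) → Pic C) i)) =
        (Fin.cons (pull π m * (mk B hB ^ a * pull π n)) (fun _ : Fin s => mk B hB ^ a * pull π n) :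
          Fin (s + 1) → Pic P) := by
      funext i
      cases i using Fin.cases with
      | zero => rw [Fin.cons_zero, Fin.cons_zero, map_mul, ← mul_assoc, ← mul_assoc, mul_comm (pull π m)]
      | succ i => rw [Fin.cons_succ, Fin.cons_succ]
    have e2 : (fun _ : Fin (s + 1) => mk B hB ^ a * pull π n) =
        (Fin.cons (mk B hB ^ a * pull π n) (fun _ : Fin s => mk B hB ^ a * pull π n) : Fin (s + 1) → Pic P) := by
      funext i
      cases i using Fin.cases with
      | zero => rfl
      | succ i => rfl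
    rw [e1, inter_cons_mul k P (s + 1) hd F hF _ _ _ hs, ← e2, h5, Fin.sum_univ_succ, Fin.sum_univ_succ,
      Fin.cons_zero, degc_mul k C 1 hC1 hC1] at h6
    simp only [Fin.cons_succ] at h6
    linarith

end K706.NefNum
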