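import Groth.Agent.VBCurve.K706.KosRel
import Groth.Agent.VBCurve.K706.LerLin
import Groth.Agent.Dcoh.MonClosed
import Mathlib.CategoryTheory.Abelian.Refinements

/-!
# The Koszul relation on projective bundles over a curve
-/

set_option autoImplicit false
set_option linter.unusedVariables false
set_option linter.unusedSectionVars false
universe u
open CategoryTheory CategoryTheory.Limits AlgebraicGeometry

namespace K706.PBRel

open Groth.Agent K707.Base K707.Deg K707.Slope
open Groth.Agent.VarietyA.DegRank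
open Groth.Agent.Fga.PicMon Groth.Agent.Grpsch.PicGrp K909.InterML K909.Kleiman
open K706.KosRel K706.LerLin MonoidalCategory
open scoped Groth.Agent.Dcoh.MonCat

section abelian

variable {A : Type*} [Category A] [Abelian A]

/-- Splitting a filtration step. -/
theorem step {W E G : A} (j : W ⟶ E) (p : E ⟶ G) (w : j ≫ p = 0) (hex : (ShortComplex.mk j p w).Exact) (hp : Epi p)
    (S : ShortComplex A) (hS : S.ShortExact) (h2 : S.X₂ = G) :
    ∃ (W' : A) (i : W ⟶ W') (q : W' ⟶ S.X₁) (j' : W' ⟶ E) (p' : E ⟶ S.X₃) (w₁ : i ≫ q = 0) (w₂ : j' ≫ p' = 0),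
      i ≫ j' = j ∧ (ShortComplex.mk i q w₁).Exact ∧ Epi q ∧ (ShortComplex.mk j' p' w₂).Exact ∧ Epi p' := by
  subst h2
  have hm : Mono S.f := hS.mono_f
  have he : Epi S.g := hS.epi_g
  obtain ⟨q, hq⟩ : ∃ q : kernel (p ≫ S.g) ⟶ S.X₁, q ≫ S.f = kernel.ι (p ≫ S.g) ≫ p :=
    ⟨hS.exact.lift (kernel.ι (p ≫ S.g) ≫ p) (by rw [Category.assoc, kernel.condition]), hS.exact.lift_f _ _⟩
  obtain ⟨i, hi⟩ : ∃ i : W ⟶ kernel (p ≫ S.g), i ≫ kernel.ι (p ≫ S.g) = j :=
    ⟨kernel.lift (p ≫ S.g) j (by rw [← Category.assoc, w, zero_comp]), kernel.lift_ι _ _ _⟩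
  have w₁ : i ≫ q = 0 := by
    rw [← cancel_mono S.f, Category.assoc, hq, ← Category.assoc, hi, w, zero_comp]
  refine ⟨kernel (p ≫ S.g), i, q, kernel.ι (p ≫ S.g), p ≫ S.g, w₁, kernel.condition _, hi, ?_, ?_,
    ShortComplex.exact_kernel _, epi_comp _ _⟩
  · rw [ShortComplex.exact_iff_exact_up_to_refinements]
    intro T x hx
    have h3 : (x ≫ kernel.ι (p ≫ S.g)) ≫ p = 0 := by
      have hx' : x ≫ q = 0 := hx
      rw [Category.assoc, ← hq, ← Category.assoc, hx', zero_comp]
    obtain ⟨T', t, ht, y, hy⟩ := hex.exact_up_to_refinements (x ≫ kernel.ι (p ≫ S.g)) h3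
    refine ⟨T', t, ht, y, ?_⟩
    have hy' : t ≫ x ≫ kernel.ι (p ≫ S.g) = y ≫ j := hy
    have h4 : (t ≫ x) ≫ kernel.ι (p ≫ S.g) = (y ≫ i) ≫ kernel.ι (p ≫ S.g) := by
      rw [Category.assoc, Category.assoc, hi, hy']
    exact (cancel_mono _).mp h4
  · rw [epi_iff_surjective_up_to_refinements]
    intro T y
    obtain ⟨T', t, ht, x, hx⟩ := surjective_up_to_refinements_of_epi p (y ≫ S.f)
    have h3 : x ≫ p ≫ S.g = 0 := by
      rw [← Category.assoc, ← hx, Category.assoc, Category.assoc, S.zero, comp_zero, comp_zero]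
    refine ⟨T', t, ht, kernel.lift (p ≫ S.g) x h3, ?_⟩
    rw [← cancel_mono S.f, Category.assoc, Category.assoc, hq, ← Category.assoc (kernel.lift _ _ _), kernel.lift_ι]
    exact hx

end abelian

variable {k : Type u} [Field k] {C P : Scheme.{u}} [C.Over (Spec (CommRingCat.of k))]
  [IsIntegral C] [IsProper (C ↘ (Spec (CommRingCat.of k)))] (C₀ : Crv k C)

include C₀ in
theorem exists_chain (T : C.Modules ⥤ P.Modules) [PreservesFiniteColimits T] (τ : Pic C → Pic P)
    (hτ : ∀ (L : C.Modules) (hL : PicF.IsInvertible L), ∃ h : PicF.IsInvertible (T.obj L), mk (T.obj L) h = τ (mk L hL))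
    (m : ℕ) {W E G : C.Modules} (hG : FlatMod.IsFinLocFree G) (hr : rk G = m) (j : W ⟶ E) (p : E ⟶ G) (w : j ≫ p = 0)
    (hex : (ShortComplex.mk j p w).Exact) (hp : Epi p) :
    ∃ l : Fin m → Pic C, ∑ i, degc k C 1 (l i) = dg k G ∧ Chain (T.obj W) (T.map j) m (fun i => (τ (l i))⁻¹) := by
  have := Fga.IntAdd.isNoetherian k C
  induction m generalizing W G with
  | zero =>
    have hz : IsZero G := isZero_of_rk_eq_zero C₀ hG hr
    have hj : Epi j := by
      have : (ShortComplex.mk j p w).g = 0 := hz.eq_of_tgt _ _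
      exact (ShortComplex.exact_iff_epi _ this).mp hex
    refine ⟨fun i => i.elim0, ?_, Chain.nil _ inferInstance _⟩
    rw [dg_of_isZero hz]
    simp
  | succ m ih =>
    obtain ⟨S, hS, h2, h1, h3, e1, e2⟩ := K708.PtTwist.exists_line_sub C₀ hG (by omega)
    obtain ⟨W', i, q, j', p', w₁, w₂, hi, ex1, hq, ex2, hp'⟩ := step j p w hex hp S hS h2
    obtain ⟨l, hl, hch⟩ := ih h3 (by omega) j' p' w₂ ex2 hp'
    obtain ⟨hT, e3⟩ := hτ S.X₁ h1
    have := hq
    refine ⟨Fin.cons (mk S.X₁ h1) l, ?_, Chain.cons (T.map i) (T.map q) (by rw [← T.map_comp, w₁, T.map_zero]) ?_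
      inferInstance hT (T.map j') (T.map j) (by rw [← T.map_comp, hi]) hch _ ?_⟩
    · rw [Fin.sum_univ_succ, Fin.cons_zero, degc_mk C₀.dim]
      simp only [Fin.cons_succ]
      rw [hl, e2]
    · exact ex1.map_of_epi_of_preservesCokernel T hq inferInstance
    · funext t
      cases t using Fin.cases with
      | zero => rw [Fin.cons_zero, Fin.cons_zero, e3]
      | succ t => rw [Fin.cons_succ, Fin.cons_succ]

section main

variable [P.Over (Spec (CommRingCat.of k))] [IsProper (P ↘ (Spec (CommRingCat.of k)))] (π : P ⟶ C)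
  (d : ℕ) (hd : topologicalKrullDim P ≤ d)

/-- The twisted pullback. -/
noncomputable abbrev TP (B' : P.Modules) : C.Modules ⥤ P.Modules := Scheme.Modules.pullback π ⋙ tensorRight B'

theorem preserves_TP (B' : P.Modules) : PreservesFiniteColimits (TP π B') := by
  have h1 := isLeftAdjoint_right B'
  have h2 : (Scheme.Modules.pullback π).IsLeftAdjoint := (Scheme.Modules.pullbackPushforwardAdjunction π).isLeftAdjoint
  have h3 : (TP π B').IsLeftAdjoint := inferInstance
  infer_instance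

theorem act_zero {V : P.Modules} (F : P.Modules) : act (0 : V ⟶ Coh.structureModule P) F = 0 := by
  apply Ega2.Tens.hom_ext
  intro U m n
  rw [act_tmul (0 : V ⟶ Coh.structureModule P) F m n 0 rfl, zero_smul]
  rfl

include C₀ hd in
/-- **The relation.** -/
theorem exists_relation {E : C.Modules} (hE : FlatMod.IsFinLocFree E) {r : ℕ} (hr : rk E = r) {B : P.Modules}
    (hB : PicF.IsInvertible B) (can : (Scheme.Modules.pullback π).obj E ⟶ B) [Epi can] :
    ∃ l : Fin r → Pic C, ∑ i, degc k C 1 (l i) = dg k E ∧ ∀ F : P.Modules, Coh.IsCoh F →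
      inter k P d F (fun i => mk B hB * pull π (l i)⁻¹) = 0 := by
  have hT := preserves_TP π (dual B)
  obtain ⟨e⟩ : Nonempty (CohB1.tensorMod B (dual B) ≅ Coh.structureModule P) := by
    have h1 : mk B hB * mk (dual B) (isInvertible_dual hB) = 1 := by rw [← inv_mk hB, mul_inv_cancel]
    rw [mk_mul_mk] at h1
    exact (mk_eq_iff _ _).mp h1
  let e' : (tensorRight (dual B)).obj B ≅ Coh.structureModule P := e
  let φ : (TP π (dual B)).obj E ⟶ Coh.structureModule P := (tensorRight (dual B)).map can ≫ e'.hom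
  have hφ : Epi φ := by
    have h1 := isLeftAdjoint_right (dual B)
    have h2 : Epi ((tensorRight (dual B)).map can) := inferInstance
    exact epi_comp _ _
  obtain ⟨Z, hZ⟩ : ∃ Z : C.Modules, IsZero Z := ⟨_, isZero_zero _⟩
  obtain ⟨l, hl, hch⟩ := exists_chain C₀ (TP π (dual B)) (fun n => pull π n * (mk B hB)⁻¹) (fun L hL =>
    ⟨Fdesc.LocGen.isInvertible_tensorMod (Fdesc.LocGen.isInvertible_pullback π hL) (isInvertible_dual hB), by
      change mk (CohB1.tensorMod ((Scheme.Modules.pullback π).obj L) (dual B)) _ = pull π (mk L hL) * (mk B hB)⁻¹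
      rw [pull_mk, inv_mk hB, mk_mul_mk]⟩) r hE hr (0 : Z ⟶ E) (𝟙 E) (by simp)
      ((ShortComplex.exact_iff_mono _ rfl).mpr (inferInstance : Mono (𝟙 E))) inferInstance
  refine ⟨l, hl, fun F hF => ?_⟩
  have h0 : act ((TP π (dual B)).map (0 : Z ⟶ E) ≫ φ) F = 0 := by
    rw [Functor.map_zero, zero_comp]
    exact act_zero F
  have h1 := inter_eq_zero_of_chain k d hd φ hch F hF h0
  have h2 : (fun i => mk B hB * pull π (l i)⁻¹) = fun i => (pull π (l i) * (mk B hB)⁻¹)⁻¹ := by
    funext i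
    rw [mul_inv, inv_inv, map_inv, mul_comm]
  rw [h2]
  exact h1

end main

end K706.PBRel
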