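import Groth.Agent.VBCurve.K706.HomFin
import Groth.Agent.VBCurve.K706.KSFin

/-!
# Weil-finite modules on a proper scheme over a field
-/

set_option autoImplicit false
universe u
open CategoryTheory CategoryTheory.Limits AlgebraicGeometry MonoidalCategory

namespace K706.WeilX

open scoped Groth.Agent.Dcoh.MonCat
open Groth.Agent
open K706.Sem K706.KSFin K706.SemiFin K706.KS

variable {X : Scheme.{u}}

instance hasFiniteBiproducts : HasFiniteBiproducts X.Modules := Abelian.hasFiniteBiproducts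

instance isIdempotentComplete : IsIdempotentComplete X.Modules := inferInstance

theorem isFinLocFree_of_rank {M : X.Modules} {r : ℕ} (h : FlatMod.IsFinLocFreeOfRank r M) : FlatMod.IsFinLocFree M :=
  fun x => by
    obtain ⟨U, hx, e⟩ := h x
    exact ⟨U, r, hx, e⟩

/-- Direct summands of finite locally free modules. -/
def GX (E : X.Modules) : Prop := ∃ F : X.Modules, FlatMod.IsFinLocFree F ∧ Nonempty (Retract E F)

theorem gx_of {E : X.Modules} (hE : FlatMod.IsFinLocFree E) : GX E := ⟨E, hE, ⟨Retract.refl E⟩⟩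

theorem good (k : Type u) [Field k] [X.Over (Spec (CommRingCat.of k))] [IsProper (X ↘ Spec (CommRingCat.of k))] :
    Good k (GX (X := X)) where
  fin := by
    rintro E F ⟨E', hE', ⟨r⟩⟩ ⟨F', hF', ⟨s⟩⟩
    exact finite_hom_of_retract k r s (HomFin.finite_hom k hE' hF')
  ret := by
    rintro E F r ⟨F', hF', ⟨s⟩⟩
    exact ⟨F', hF', ⟨r.trans s⟩⟩
  sum := by
    rintro E F ⟨E', hE', ⟨r⟩⟩ ⟨F', hF', ⟨s⟩⟩
    exact ⟨E' ⊞ F', Dcoh.ResFree.isFinLocFree_biprod hE' hF', ⟨⟨biprod.map r.i s.i, biprod.map r.r s.r, by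
      apply biprod.hom_ext <;> apply biprod.hom_ext' <;> simp⟩⟩⟩
  ten := by
    rintro E F ⟨E', hE', ⟨r⟩⟩ ⟨F', hF', ⟨s⟩⟩
    exact ⟨E' ⊗ F', Sga67.LocBasis.isFinLocFree_tensorMod hE' hF', ⟨⟨r.i ⊗ₘ s.i, r.r ⊗ₘ s.r, by
      rw [tensorHom_comp_tensorHom, r.retract, s.retract, id_tensorHom_id]⟩⟩⟩
  unit := gx_of Dcoh.ResFree.isFinLocFree_unit

/-- `P(E)`, as in the statements. -/
noncomputable abbrev poly (P : Polynomial ℕ) (E : X.Modules) : X.Modules :=
  ∐ fun i : Fin (P.natDegree + 1) => ∐ fun _ : Fin (P.coeff ↑i) => CohB1.tensorPow E ↑i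

theorem cl_tensorPow (E : X.Modules) (n : ℕ) : cl (CohB1.tensorPow E n) = cl E ^ n := by
  induction n with
  | zero => rfl
  | succ n ih =>
    rw [pow_succ, ← ih]
    rfl

theorem cl_poly (P : Polynomial ℕ) (E : X.Modules) : cl (poly P E) = P.eval₂ (Nat.castRingHom (IsoCl X.Modules)) (cl E) := by
  rw [eval₂_eq_sum_fin, cl_coproduct]
  refine Finset.sum_congr rfl fun i _ => ?_
  rw [cl_copies, cl_tensorPow]

/-- Finiteness in the sense of Weil is a property of the class of `E`. -/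
theorem weilFinite_iff (E : X.Modules) : (∃ P Q : Polynomial ℕ, P ≠ Q ∧ Nonempty (poly P E ≅ poly Q E)) ↔ WF (cl E) := by
  constructor
  · rintro ⟨P, Q, hPQ, ⟨e⟩⟩
    exact ⟨P, Q, hPQ, by rw [← cl_poly, ← cl_poly]; exact cl_eq e⟩
  · rintro ⟨P, Q, hPQ, h⟩
    refine ⟨P, Q, hPQ, ?_⟩
    rw [← cl_poly, ← cl_poly] at h
    exact cl_eq_iff.mp h

end K706.WeilX
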